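import Cfsg.Agent.Lib.A8Syl.Base
import Mathlib

/-!
Automorphisms of the extraspecial subgroup modulo its centre, as codes.
-/

set_option autoImplicit false

namespace CfsgLib.A8Syl

open CfsgLib.PSpFourRecog (app comp)

/-- indices of representatives of the extraspecial subgroup modulo its centre -/
def qix (n : ℕ) : ℕ :=
  ([0, 1, 10, 11, 16, 17, 26, 27, 32, 33, 42, 43, 48, 49, 58, 59] : List ℕ).getD n 0

/-- the coordinates of an index of the extraspecial subgroup -/
def qco (i : ℕ) : ℕ := ((List.range 16).find? fun n => qix n == i || mS (qix n) iZ == i).getD 0

/-- the identity -/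
def cId : ℕ := 33825
/-- the action of the outer element of `S` -/
def cSig : ℕ := 42273
/-- an element of order three inverted by it -/
def cChi : ℕ := 42372
/-- an element of order three centralised by it -/
def cTau : ℕ := 51250

/-- the codes allowed -/
def codesL : List ℕ := [4940, 4959, 8580, 8613, 13000, 13050, 19475, 19551, 24339, 24396, 33825, 33957,
  42273, 42372, 51250, 51450, 64050, 64200]

/-- the pattern of commutation -/
def sameComm (a b i j : ℕ) : Bool :=
  (mS (qix a) (qix b) == mS (qix b) (qix a)) == (mS (qix i) (qix j) == mS (qix j) (qix i))

/-- nonzero coordinates of involutions -/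
def singL : List ℕ := (List.range 16).filter fun n => n != 0 && mS (qix n) (qix n) == 0

/-- the candidates -/
def candL : List ℕ :=
  singL.flatMap fun a => (singL.filter fun b => sameComm a b 1 2).flatMap fun b =>
    (singL.filter fun c => sameComm a c 1 4 && sameComm b c 2 4).flatMap fun c =>
      ((singL.filter fun d => sameComm a d 1 8 && sameComm b d 2 8 && sameComm c d 4 8).map fun d =>
        a + 16 * b + 256 * c + 4096 * d).filter fun u => (List.range 16).all fun n => n == 0 || app u n != 0

/-- the products of length at most `k` -/
noncomputable def wordsC (c : ℕ) : ℕ → List ℕ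
  | 0 => [cId]
  | k + 1 => let l := wordsC c k; cId :: (l.map fun w => comp w c) ++ l.map fun w => comp w cSig

/-- four codes forming a group of exponent dividing four -/
noncomputable def fourOK (l : List ℕ) : Bool :=
  decide l.Nodup && (l.all fun a => l.all fun b => l.contains (comp a b)) &&
    l.all fun a => comp (comp a a) (comp a a) == cId

/-- the code is allowed or gives a witness that the 2-part is too large -/
noncomputable def candOK (u : ℕ) : Bool :=
  codesL.contains u || (wordsC u 5).any fun w =>
    fourOK [cId, w, comp w w, comp (comp w w) w] || fourOK [cId, w, cSig, comp w cSig]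

theorem cand_ok : (candL.all candOK) = true := by decide +kernel

theorem basic_ok : ((List.range 16).all fun a => Nat.blt (qix a) 64 && qL.contains (qix a) &&
    (List.range 16).all fun b => mS (qix a) (qix b) == qix (a ^^^ b) ||
      mS (qix a) (qix b) == mS (qix (a ^^^ b)) iZ) = true ∧
    (qL.all fun i => Nat.blt (qco i) 16 && (qix (qco i) == i || mS (qix (qco i)) iZ == i)) = true ∧
    ((List.range 16).all fun a => (List.range 16).all fun b => a == b ||
      (qix a != qix b && qix a != mS (qix b) iZ)) = true := by
  decide +kernel

theorem sig_ok : ((List.range 16).all fun n => qix (app cSig n) == cjI 2 (qix n) ||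
    mS (qix (app cSig n)) iZ == cjI 2 (qix n)) = true ∧
    ((List.range 64).all fun i => qL.contains i || (List.range 16).any fun n =>
      cjI i (qix n) != qix n && cjI i (qix n) != mS (qix n) iZ) = true ∧
    ((List.range 64).all fun i => qL.contains i || qL.contains (mS 2 i)) = true := by
  decide +kernel

theorem codes_ok : (codesL.all fun c => Nat.blt c 65536) = true ∧
    (codesL.all fun c => [cId, cSig, cTau, comp cTau cTau, comp cTau cSig, comp (comp cTau cTau) cSig].contains c ||
      (wordsC c 6).contains cChi) = true ∧
    (codesL.all fun c => [cId, cSig, cChi, comp cChi cChi, comp cChi cSig, comp (comp cChi cChi) cSig].contains c ||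
      (wordsC c 6).contains cTau) = true := by
  decide +kernel

end CfsgLib.A8Syl
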