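import Cfsg.Agent.Lib.A8Syl.LiftData
import Cfsg.Agent.Lib.A8Syl.ADataV
import Cfsg.Agent.Lib.A8Syl.ADataA

/-!
Checking the certificates for the groups induced on the elementary abelian subgroup.
-/

set_option autoImplicit false

namespace CfsgLib.A8Syl

open CfsgLib.PSpFourRecog (app comp)

/-- the code of the identity -/
def cOne : ℕ := 33825

/-- one column, by operations on numbers only -/
def colF (c x i : ℕ) : ℕ :=
  Nat.mul (Nat.mod (Nat.shiftRight x i) (nat_lit 2)) (Nat.mod (Nat.shiftRight c (Nat.mul (nat_lit 4) i)) (nat_lit 16))

/-- the map of a code, by operations on numbers only -/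
def appF (c x : ℕ) : ℕ :=
  Nat.xor (Nat.xor (Nat.xor (colF c x (nat_lit 0)) (colF c x (nat_lit 1))) (colF c x (nat_lit 2)))
    (colF c x (nat_lit 3))

/-- the composite of codes, by operations on numbers only -/
noncomputable def compF (a b : ℕ) : ℕ :=
  CosetEnum.strict a fun a => CosetEnum.strict b fun b =>
    Nat.add (Nat.add (Nat.add (appF a (Nat.mod b (nat_lit 16)))
      (Nat.mul (nat_lit 16) (appF a (Nat.mod (Nat.div b (nat_lit 16)) (nat_lit 16)))))
      (Nat.mul (nat_lit 256) (appF a (Nat.mod (Nat.div b (nat_lit 256)) (nat_lit 16)))))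
      (Nat.mul (nat_lit 4096) (appF a (Nat.mod (Nat.div b (nat_lit 4096)) (nat_lit 16))))

theorem colF_eq (c x i : ℕ) : colF c x i = PSpFourRecog.colApp c x i := by
  show x >>> i % 2 * (c >>> (4 * i) % 16) = bif x.testBit i then c / 16 ^ i % 16 else 0
  rw [Nat.shiftRight_eq_div_pow, Nat.shiftRight_eq_div_pow, pow_mul, show (2 : ℕ) ^ 4 = 16 from rfl,
    Nat.testBit_eq_decide_div_mod_eq]
  rcases Nat.mod_two_eq_zero_or_one (x / 2 ^ i) with h | h <;> simp [h]

theorem appF_eq (c x : ℕ) : appF c x = app c x := by
  show colF c x 0 ^^^ colF c x 1 ^^^ colF c x 2 ^^^ colF c x 3 = _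
  simp only [colF_eq]
  rfl

theorem compF_eq (a b : ℕ) : compF a b = comp a b := by
  simp only [compF, comp, CosetEnum.strict_eq, appF_eq]
  rfl

/-- the value of a word in the letters -/
noncomputable def wordVal (ls : List ℕ) : ℕ → ℕ → ℕ → ℕ
  | 0, x, _ => x
  | k + 1, x, n => bif Nat.ble n 1 then x else
      wordVal ls k (compF x (ls.getD (n % ls.length) cOne)) (n / ls.length)

/-- a word in `p` and the stabiliser giving a map outside it fixing the central involution -/
noncomputable def badWord (st : List ℕ) (p : ℕ) : ℕ → ℕ → ℕ → Bool
  | 0, _, _ => false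
  | k + 1, w, n =>
      let w2 := compF w (st.getD (n % st.length) cOne)
      bif Nat.ble (n / st.length) 1 then Nat.beq (appF w2 iZ) iZ && !st.contains w2
      else badWord st p k (compF w2 p) (n / st.length)

/-- the images of the central involution up to the stabiliser -/
def repL : List ℕ := [1, 2, 6, 10, 11]

/-- the four columns of a code are independent -/
def indOK (p : ℕ) : Bool :=
  let a := p % 16
  let b := p / 16 % 16
  let c := p / 256 % 16
  let d := p / 4096 % 16
  !(Nat.beq a 0) && (!(Nat.beq b 0) && !(Nat.beq b a)) &&
    (!(Nat.beq c 0) && !(Nat.beq c a) && !(Nat.beq c b) && !(Nat.beq c (a ^^^ b))) &&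
    (!(Nat.beq d 0) && !(Nat.beq d a) && !(Nat.beq d b) && !(Nat.beq d (a ^^^ b)) && !(Nat.beq d c) &&
      !(Nat.beq d (a ^^^ c)) && !(Nat.beq d (b ^^^ c)) && !(Nat.beq d (a ^^^ b ^^^ c)))

/-- the invertible maps sending the central involution to `r` -/
def candR (r : ℕ) : List ℕ :=
  ((List.range 4096).map fun k => k / 256 + 16 * (k / 16 % 16) + 256 * (r ^^^ k / 256) + 4096 * (k % 16)).filter
    indOK

/-- the elements of a group given by parents and letters -/
def grpEl (rec : List (ℕ × ℕ × ℕ)) : List ℕ := cOne :: rec.map (·.1)

/-- the certificates -/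
structure ACert where
  st : List ℕ
  allow : List ℕ
  gen : List ℕ
  wit : ℕ → List (ℕ × ℕ)
  grp : List (List (ℕ × ℕ × ℕ))
  reach : List ℕ
  pair : List (ℕ × ℕ × ℕ)
  aut : List (List ℕ × List ℕ)
  twist : List ℕ
  tgt : List (List ℕ)

/-- the witnesses for one representative -/
noncomputable def ACert.witOK (C : ACert) (r : ℕ) : Bool :=
  decide ((C.wit r).map (·.1) = candR r) && (C.wit r).all fun pn =>
    bif pn.2 == 0 then C.allow.contains pn.1 else badWord C.st pn.1 20 pn.1 pn.2

/-- a moving map generates one of the generators -/
noncomputable def ACert.reachOK (C : ACert) : Bool :=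
  (List.range C.allow.length).all fun q =>
    C.gen.contains (wordVal ((C.allow.getD q cOne) :: C.st.tail) 40 cOne (C.reach.getD q 0))

/-- a generator and a map outside its group -/
noncomputable def ACert.pairOK (C : ACert) : Bool :=
  decide (C.pair.map (fun e => (e.1, e.2.1)) = (List.range C.gen.length).flatMap fun i =>
    ((List.range C.allow.length).filter fun q =>
      !(grpEl (C.grp.getD i [])).contains (C.allow.getD q cOne)).map fun q => (i, q)) &&
  C.pair.all fun e =>
    let w := wordVal (C.gen.getD e.1 cOne :: C.allow.getD e.2.1 cOne :: C.st.tail) 40 cOne e.2.2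
    (app w iZ == iZ && !C.st.contains w) || (C.gen.take e.1).contains w

/-- the groups are generated as described and contain the stabiliser -/
noncomputable def ACert.grpOK (C : ACert) : Bool :=
  decide (C.gen.length = C.grp.length) && (List.range C.gen.length).all fun i =>
    let rec' := C.grp.getD i []
    let ls := C.st.tail ++ [C.gen.getD i cOne]
    (C.st.all fun v => (grpEl rec').all fun g => (grpEl rec').contains (comp v g)) &&
    (List.range rec'.length).all fun k =>
      let e := rec'.getD k (0, 0, 0)
      Nat.blt e.2.1 (k + 1) && Nat.blt e.2.2 ls.length &&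
        e.1 == comp ((grpEl rec').getD e.2.1 cOne) (ls.getD e.2.2 cOne)

/-- the table of an automorphism -/
def tblF (l : List ℕ) (i : ℕ) : ℕ := l.getD i 0

/-- conjugation of a code by a map of the indices -/
noncomputable def conjCode (s t : List ℕ) (c : ℕ) : ℕ :=
  tblF t (app c (tblF s 1)) + 16 * tblF t (app c (tblF s 2)) + 256 * tblF t (app c (tblF s 4)) +
    4096 * tblF t (app c (tblF s 8))

/-- the automorphisms and the normal forms -/
noncomputable def ACert.twistOK (C : ACert) : Bool :=
  (C.aut.all fun st => tblF st.1 iZ == iZ &&
    ((List.range 16).all fun e => Nat.blt (tblF st.1 e) 16 && Nat.blt (tblF st.2 e) 16) &&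
    (List.range 64).all fun i => Nat.blt (tblF st.1 i) 64 && Nat.blt (tblF st.2 i) 64 &&
      tblF st.1 (tblF st.2 i) == i && tblF st.2 (tblF st.1 i) == i &&
      (List.range 64).all fun j => tblF st.1 (mS i j) == mS (tblF st.1 i) (tblF st.1 j)) &&
  (List.range C.gen.length).all fun i => Nat.blt (C.twist.getD i 0) C.aut.length &&
    let p := C.aut.getD (C.twist.getD i 0) ([], [])
    let els := grpEl (C.grp.getD i [])
    C.tgt.any fun tg => (els.all fun c => tg.contains (conjCode p.1 p.2 c)) &&
      tg.all fun d => els.contains (conjCode p.2 p.1 d)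

/-- the codes of the stabiliser are composed of involutions or elements of order three of the maps -/
noncomputable def ACert.stOK (C : ACert) : Bool :=
  decide (C.st.head? = some cOne) && (C.st.all fun c => Nat.blt c 65536) && (stV.all fun v => C.st.contains v) &&
    (stV.all fun v => comp v v == cOne) &&
    (List.range 16).all fun e => e == 0 || e == iZ || stV.any fun v => repL.contains (app v e)

/-- all certificates for the case of a four-group -/
def certV : ACert where
  st := stV
  allow := allowV
  gen := genV
  wit r := bif r == 1 then witV1 else bif r == 2 then witV2 else bif r == 6 then witV6 else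
    bif r == 10 then witV10 else witV11
  grp := grpV
  reach := reachV
  pair := pairV
  aut := autV
  twist := twistV
  tgt := [std36, std12]

/-- all certificates for the case of the alternating group of degree four -/
def certA : ACert where
  st := stA
  allow := allowA
  gen := genA
  wit r := bif r == 1 then witA1 else bif r == 2 then witA2 else bif r == 6 then witA6 else
    bif r == 10 then witA10 else witA11
  grp := grpA
  reach := reachA
  pair := pairA
  aut := autA
  twist := twistA
  tgt := [std60]

theorem witV_one : certV.witOK 1 = true := by decide +kernel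
theorem witV_two : certV.witOK 2 = true := by decide +kernel
theorem witV_six : certV.witOK 6 = true := by decide +kernel
theorem witV_ten : certV.witOK 10 = true := by decide +kernel
theorem witV_eleven : certV.witOK 11 = true := by decide +kernel
theorem witA_one : certA.witOK 1 = true := by decide +kernel
theorem witA_two : certA.witOK 2 = true := by decide +kernel
theorem witA_six : certA.witOK 6 = true := by decide +kernel
theorem witA_ten : certA.witOK 10 = true := by decide +kernel
theorem witA_eleven : certA.witOK 11 = true := by decide +kernel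
theorem certV_ok : certV.reachOK = true ∧ certV.pairOK = true ∧ certV.grpOK = true ∧ certV.twistOK = true ∧
    certV.stOK = true := by
  refine ⟨?_, ?_, ?_, ?_, ?_⟩ <;> decide +kernel
theorem certA_ok : certA.reachOK = true ∧ certA.pairOK = true ∧ certA.grpOK = true ∧ certA.twistOK = true ∧
    certA.stOK = true := by
  refine ⟨?_, ?_, ?_, ?_, ?_⟩ <;> decide +kernel

end CfsgLib.A8Syl
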