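import Cfsg.Agent.Lib.A8Syl.BarData
import Cfsg.Agent.Lib.Fitting.Basic
import Cfsg.Agent.Lib.PSolvable.Constrained
import Cfsg.Agent.Lib.PushRankOne.Tools
import Cfsg.Agent.Lib.Transfer.AbelianHall
import Cfsg.Prelude.Def_CaseTheorems

/-!
Solvable groups with trivial odd core, this Sylow 2-subgroup and a central involution: the normal 2-subgroups
and the extraspecial subgroup.
-/

set_option autoImplicit false
set_option linter.style.haveILetI false
set_option linter.unusedSectionVars false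

open scoped commutatorElement

namespace CfsgLib.A8Syl

/-- the elements of a chain-stabiliser -/
def chainSub {X : Type*} [Group X] (R A B : Subgroup X) [A.Normal] [B.Normal] : Subgroup X where
  carrier := {x | (∀ r ∈ R, ⁅x, r⁆ ∈ A) ∧ (∀ a ∈ A, ⁅x, a⁆ ∈ B) ∧ ∀ b ∈ B, x * b = b * x}
  one_mem' := ⟨fun r _ => by simp, fun a _ => by simp, fun b _ => by simp⟩
  mul_mem' := by
    rintro x y ⟨x1, x2, x3⟩ ⟨y1, y2, y3⟩
    have key : ∀ r : X, ⁅x * y, r⁆ = x * ⁅y, r⁆ * x⁻¹ * ⁅x, r⁆ := fun r => by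
      simp only [commutatorElement_def]; group
    refine ⟨fun r hr => key r ▸ mul_mem (Subgroup.Normal.conj_mem inferInstance _ (y1 r hr) x) (x1 r hr),
      fun a ha => key a ▸ mul_mem (Subgroup.Normal.conj_mem inferInstance _ (y2 a ha) x) (x2 a ha),
      fun b hb => ?_⟩
    rw [mul_assoc, y3 b hb, ← mul_assoc, x3 b hb, mul_assoc]
  inv_mem' := by
    rintro x ⟨x1, x2, x3⟩
    have key : ∀ r : X, ⁅x⁻¹, r⁆ = x⁻¹ * ⁅x, r⁆⁻¹ * x⁻¹⁻¹ := fun r => by
      simp only [commutatorElement_def]; group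
    refine ⟨fun r hr => key r ▸ Subgroup.Normal.conj_mem inferInstance _ (inv_mem (x1 r hr)) x⁻¹,
      fun a ha => key a ▸ Subgroup.Normal.conj_mem inferInstance _ (inv_mem (x2 a ha)) x⁻¹, fun b hb => ?_⟩
    calc x⁻¹ * b = x⁻¹ * (b * x) * x⁻¹ := by group
      _ = b * x⁻¹ := by rw [← x3 b hb]; group

theorem chainSub_normal {X : Type*} [Group X] (R A B : Subgroup X) [R.Normal] [A.Normal] [B.Normal] :
    (chainSub R A B).Normal := by
  refine ⟨fun x ⟨x1, x2, x3⟩ g => ?_⟩
  have key : ∀ r : X, ⁅g * x * g⁻¹, r⁆ = g * ⁅x, g⁻¹ * r * g⁻¹⁻¹⁆ * g⁻¹ := fun r => by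
    simp only [commutatorElement_def]; group
  refine ⟨fun r hr => key r ▸ Subgroup.Normal.conj_mem inferInstance _
      (x1 _ (Subgroup.Normal.conj_mem inferInstance _ hr g⁻¹)) g,
    fun a ha => key a ▸ Subgroup.Normal.conj_mem inferInstance _
      (x2 _ (Subgroup.Normal.conj_mem inferInstance _ ha g⁻¹)) g, fun b hb => ?_⟩
  have h := x3 _ (Subgroup.Normal.conj_mem inferInstance _ hb g⁻¹)
  calc g * x * g⁻¹ * b = g * (x * (g⁻¹ * b * g⁻¹⁻¹)) * g⁻¹ := by group
    _ = b * (g * x * g⁻¹) := by rw [h]; group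

theorem chainSub_le {X : Type*} [Group X] [Finite X] (R A B : Subgroup X) [R.Normal] [A.Normal] [B.Normal]
    (hR : R = Cfsg.pCore 2 X) (hc : Subgroup.centralizer (R : Set X) ≤ R) (hA : A ≤ R) (hB : B ≤ R) :
    chainSub R A B ≤ R := by
  haveI := Fact.mk Nat.prime_two
  subst hR
  refine PushRankOne.le_pCore_of_stab hc (chainSub_normal _ A B) hA hB
    (Subgroup.commutator_le.2 fun x hx r hr => hx.1 r hr) (Subgroup.commutator_le.2 fun x hx a ha => hx.2.1 a ha)
    (le_bot_iff.1 (Subgroup.commutator_le.2 fun x hx b hb => ?_))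
  rw [Subgroup.mem_bot, commutatorElement_eq_one_iff_mul_comm]
  exact hx.2.2 b hb

/-- what is assumed of the quotient of the centraliser by its core -/
structure Loc {X : Type*} [Group X] (ψ : ℕ → X) (T : Subgroup X) : Prop where
  hyp : Hyp ψ T
  syl : M12Syl.SylIn ⊤ T
  cent : ∀ x : X, x * ψ iZ = ψ iZ * x
  core : Cfsg.oddCore X = ⊥
  solv : Group.IsSolvable X

namespace Loc

variable {X : Type*} [Group X] [Finite X] {ψ : ℕ → X} {T : Subgroup X} (L : Loc ψ T)
include L

theorem core_le : Cfsg.pCore 2 X ≤ T := by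
  intro x hx
  obtain ⟨d, -, hd⟩ := L.syl.absorb (Cfsg.pCore 2 X) le_top (Fitting.pCore_isPGroup 2)
  have h := hd (d⁻¹ * x * d) (by
    simpa using Subgroup.Normal.conj_mem (Cfsg.pCore_normal 2 X) x hx d⁻¹)
  rwa [show d * (d⁻¹ * x * d) * d⁻¹ = x by group] at h

theorem self_cent : Subgroup.centralizer (Cfsg.pCore 2 X : Set X) ≤ Cfsg.pCore 2 X := by
  haveI := Fact.mk Nat.prime_two
  haveI := L.solv
  exact PSolvable.centralizer_pCore_le (PSolvable.isPSolvable_of_isSolvable inferInstance) L.core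

theorem z_mem {R : Subgroup X} (hR : R ≤ T) (hne : R ≠ ⊥)
    (hn : ∀ s ∈ T, ∀ r ∈ R, s * r * s⁻¹ ∈ R) : ψ iZ ∈ R := by
  have K := L.hyp
  obtain ⟨x, hx, hx1⟩ : ∃ x ∈ R, x ≠ 1 := by
    by_contra h
    push Not at h
    exact hne ((Subgroup.eq_bot_iff_forall R).2 h)
  obtain ⟨u, hu, rfl⟩ := K.surj x (hR hx)
  have hcm : ∀ {i p : ℕ}, i < 64 → p < 64 → ψ i ∈ R → cmI i p < 64 ∧ ψ (cmI i p) ∈ R := fun {i p} hi hp h =>
    ⟨mS_lt (mS_lt hi hp) (mS_lt (invI_spec hi).1 (invI_spec hp).1), by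
      rw [K.cmI_eq hi hp, show ψ i * ψ p * (ψ i)⁻¹ * (ψ p)⁻¹ = ψ i * (ψ p * (ψ i)⁻¹ * (ψ p)⁻¹) by group]
      exact mul_mem h (hn _ (K.mem p hp) _ (inv_mem h))⟩
  have h := normal_z
  simp only [List.all_eq_true, List.mem_range, Bool.or_eq_true, List.any_eq_true,
    beq_iff_eq] at h
  rcases h u hu with (e | e) | ⟨p, hp, e | ⟨q, hq, e⟩⟩
  · exact absurd ((K.eq_one_iff hu).2 e) hx1
  · exact e ▸ hx
  · exact e ▸ (hcm hu hp hx).2
  · exact e ▸ (hcm (hcm hu hp hx).1 hq (hcm hu hp hx).2).2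

theorem core_ne : Cfsg.pCore 2 X ≠ ⊥ := fun h => by
  have hz : ψ iZ ∈ Subgroup.centralizer (Cfsg.pCore 2 X : Set X) := by
    rw [h, Subgroup.mem_centralizer_iff]
    rintro x rfl
    simp
  have hz' := L.self_cent hz
  rw [h, Subgroup.mem_bot] at hz'
  have h' := L.hyp.t_order
  rw [hz', orderOf_one] at h'
  omega

theorem exists_core_mask : ∃ m ∈ normL, Cfsg.pCore 2 X = L.hyp.sub (bitL m) := by
  classical
  have K := L.hyp
  set R := Cfsg.pCore 2 X with hR
  have hn : ∀ s ∈ T, ∀ r ∈ R, s * r * s⁻¹ ∈ R := fun s _ r hr =>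
    Subgroup.Normal.conj_mem (Cfsg.pCore_normal 2 X) r hr s
  set cand := normL.toFinset.filter fun m => ∀ i ∈ bitL m, ψ i ∈ R with hcand
  have h33 : 33 ∈ cand := by
    refine Finset.mem_filter.2 ⟨List.mem_toFinset.2 (by decide), fun i hi => ?_⟩
    rw [show bitL 33 = [0, iZ] by decide +kernel] at hi
    simp only [List.mem_cons, List.not_mem_nil, or_false] at hi
    rcases hi with rfl | rfl
    · rw [K.one]; exact one_mem R
    · exact L.z_mem L.core_le L.core_ne hn
  obtain ⟨m, hm, hmax⟩ := cand.exists_max_image (fun m => (bitL m).length) ⟨33, h33⟩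
  rw [Finset.mem_filter, List.mem_toFinset] at hm
  obtain ⟨hml, hmR⟩ := hm
  have hok : lOK (bitL m) = true := by
    have h := normL_lOK
    rw [List.all_eq_true] at h
    exact h m hml
  refine ⟨m, hml, le_antisymm (fun x hx => ?_) fun x hx => ?_⟩
  swap
  · obtain ⟨i, hi, rfl⟩ := (K.mem_sub hok).1 hx
    exact hmR i hi
  by_contra hne
  obtain ⟨g, hg, rfl⟩ := K.surj x (L.core_le hx)
  have hgm : m.testBit g = false := by
    by_contra h
    rw [Bool.not_eq_false] at h
    exact hne ((K.mem_sub hok).2 ⟨g, List.mem_filter.2 ⟨List.mem_range.2 hg, h⟩, rfl⟩)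
  have hstep : ∀ {u : ℕ}, u < 64 → ψ u ∈ R → stepN m u < 64 ∧ ψ (stepN m u) ∈ R := by
    intro u hu hur
    have hcm : ∀ s < 64, cmI u s < 64 ∧ ψ (cmI u s) ∈ R := fun s hs =>
      ⟨mS_lt (mS_lt hu hs) (mS_lt (invI_spec hu).1 (invI_spec hs).1), by
        rw [K.cmI_eq hu hs, show ψ u * ψ s * (ψ u)⁻¹ * (ψ s)⁻¹ = ψ u * (ψ s * (ψ u)⁻¹ * (ψ s)⁻¹) by group]
        exact mul_mem hur (hn _ (K.mem s hs) _ (inv_mem hur))⟩
    unfold stepN
    split
    · next s hs =>
      have := List.mem_of_find?_eq_some hs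
      simp only [List.mem_cons, List.not_mem_nil, or_false] at this
      exact hcm s (by omega)
    · cases m.testBit (mS u u)
      · exact ⟨mS_lt hu hu, by rw [cond_false, K.mul u hu u hu]; exact mul_mem hur hur⟩
      · exact ⟨hu, hur⟩
  have h1 := hstep hg hx
  have h2 := hstep h1.1 h1.2
  have h3 := hstep h2.1 h2.2
  have h4 := hstep h3.1 h3.2
  obtain ⟨hg', hgR'⟩ : stepFive m g < 64 ∧ ψ (stepFive m g) ∈ R := hstep h4.1 h4.2
  have h := normL_join
  simp only [List.all_eq_true, List.mem_range, Bool.or_eq_true, Bool.and_eq_true, List.any_eq_true,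
    Bool.not_eq_true'] at h
  obtain ⟨hout, m', hm', hj⟩ := (h m hml g hg).resolve_left (by rw [hgm]; simp)
  simp only [joinOK, List.all_eq_true, List.mem_range, beq_iff_eq] at hj
  have hsub : ∀ i ∈ bitL m', ψ i ∈ R := by
    intro i hi
    rw [bitL, List.mem_filter, List.mem_range] at hi
    obtain ⟨hi, hib⟩ := hi
    rw [hj i hi, Bool.or_eq_true] at hib
    rcases hib with e | e
    · exact hmR i (List.mem_filter.2 ⟨List.mem_range.2 hi, e⟩)
    · have h' := hmR _ (List.mem_filter.2 ⟨List.mem_range.2 (mS_lt hg' hi), e⟩)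
      rw [K.mul _ hg' i hi] at h'
      simpa using mul_mem (inv_mem hgR') h'
  have hle := hmax m' (Finset.mem_filter.2 ⟨List.mem_toFinset.2 hm', hsub⟩)
  have hlt : (bitL m).length < (bitL m').length := by
    rw [bitL, bitL, ← List.toFinset_card_of_nodup (List.nodup_range.filter _),
      ← List.toFinset_card_of_nodup (List.nodup_range.filter _)]
    refine Finset.card_lt_card ⟨fun i hi => ?_, fun hsup => ?_⟩
    · simp only [List.mem_toFinset, List.mem_filter, List.mem_range] at hi ⊢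
      exact ⟨hi.1, by rw [hj i hi.1, hi.2]; rfl⟩
    · obtain ⟨hI, h1', -⟩ := invI_spec hg'
      have hmem : invI (stepFive m g) ∈ ((List.range 64).filter fun i => m'.testBit i).toFinset := by
        simp only [List.mem_toFinset, List.mem_filter, List.mem_range]
        refine ⟨hI, ?_⟩
        rw [hj _ hI, h1', Bool.or_eq_true]
        refine .inr ?_
        have h0 := hok
        simp only [lOK, Bool.and_eq_true, List.contains_iff_mem, bitL, List.mem_filter] at h0
        exact h0.1.2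
      have h' := hsup hmem
      simp only [List.mem_toFinset, List.mem_filter, List.mem_range] at h'
      have h0 := hok
      simp only [lOK, Bool.and_eq_true, List.all_eq_true, List.contains_iff_mem] at h0
      obtain ⟨⟨-, hinv⟩, -⟩ := h0.2 _ (List.mem_filter.2 ⟨List.mem_range.2 h'.1, h'.2⟩)
      have hback : ((List.range 64).all fun i => invI (invI i) == i) = true := by decide +kernel
      simp only [List.all_eq_true, List.mem_range, beq_iff_eq] at hback
      rw [hback _ hg', bitL, List.mem_filter] at hinv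
      rw [hinv.2] at hout
      exact Bool.noConfusion hout
  omega

end Loc

end CfsgLib.A8Syl
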