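import Cfsg.Agent.Lib.A8Syl.BarCore
import Cfsg.Agent.Lib.A8Syl.ActData

/-!
The action on the extraspecial subgroup modulo its centre.
-/

set_option autoImplicit false
set_option linter.style.haveILetI false
set_option linter.unusedSectionVars false

open scoped commutatorElement

namespace CfsgLib.A8Syl

open CfsgLib.PSpFourRecog (app comp app_lt app_xor comp_lt app_comp app_basis induct16 code_ext)

theorem qix_lt {a : ℕ} (ha : a < 16) : qix a < 64 ∧ qix a ∈ qL := by
  have h := basic_ok.1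
  simp only [List.all_eq_true, List.mem_range, Bool.and_eq_true, Nat.blt_eq, List.contains_iff_mem] at h
  exact (h a ha).1

namespace Loc

variable {X : Type*} [Group X] [Finite X] {ψ : ℕ → X} {T : Subgroup X} (L : Loc ψ T)
include L

/-- equal up to the central involution -/
def Eqz (_ : Loc ψ T) (a b : X) : Prop := a = b ∨ a = b * ψ iZ

theorem z_mul_self : ψ iZ * ψ iZ = 1 := by
  rw [← pow_two, ← L.hyp.t_order, pow_orderOf_eq_one]

theorem eqz_symm {a b : X} (h : L.Eqz a b) : L.Eqz b a := by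
  rcases h with rfl | rfl
  · exact .inl rfl
  · exact .inr (by rw [mul_assoc, L.z_mul_self, mul_one])

theorem eqz_trans {a b c : X} (h : L.Eqz a b) (h' : L.Eqz b c) : L.Eqz a c := by
  rcases h with rfl | rfl <;> rcases h' with rfl | rfl
  · exact .inl rfl
  · exact .inr rfl
  · exact .inr rfl
  · exact .inl (by rw [mul_assoc, L.z_mul_self, mul_one])

theorem eqz_mul {a b c d : X} (h : L.Eqz a b) (h' : L.Eqz c d) : L.Eqz (a * c) (b * d) := by
  have hz := L.cent
  rcases h with rfl | rfl <;> rcases h' with rfl | rfl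
  · exact .inl rfl
  · exact .inr (by rw [mul_assoc])
  · exact .inr (by rw [mul_assoc, ← hz c, mul_assoc])
  · refine .inl ?_
    rw [mul_assoc b, ← mul_assoc (ψ iZ), ← hz d, mul_assoc d, L.z_mul_self, mul_one]

theorem eqz_conj {a b : X} (h : L.Eqz a b) (x : X) : L.Eqz (x * a * x⁻¹) (x * b * x⁻¹) := by
  rcases h with rfl | rfl
  · exact .inl rfl
  · refine .inr ?_
    calc x * (b * ψ iZ) * x⁻¹ = x * b * (ψ iZ * x⁻¹) := by group
      _ = x * b * x⁻¹ * ψ iZ := by rw [← L.cent x⁻¹]; group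

theorem eqz_qix {a b : ℕ} (ha : a < 16) (hb : b < 16) : L.Eqz (ψ (qix a) * ψ (qix b)) (ψ (qix (a ^^^ b))) := by
  have h := basic_ok.1
  simp only [List.all_eq_true, List.mem_range, Bool.and_eq_true, Bool.or_eq_true, beq_iff_eq] at h
  rw [← L.hyp.mul _ (qix_lt ha).1 _ (qix_lt hb).1]
  rcases (h a ha).2 b hb with e | e
  · exact .inl (by rw [e])
  · exact .inr (by
      rw [e, L.hyp.mul _ (qix_lt (Nat.xor_lt_two_pow (n := 4) ha hb)).1 iZ (by decide)])

theorem eqz_inj {a b : ℕ} (ha : a < 16) (hb : b < 16) (h : L.Eqz (ψ (qix a)) (ψ (qix b))) : a = b := by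
  have h' := basic_ok.2.2
  simp only [List.all_eq_true, List.mem_range, Bool.and_eq_true, Bool.or_eq_true, beq_iff_eq,
    bne_iff_ne] at h'
  refine (h' a ha b hb).resolve_right fun hne => ?_
  rcases h with e | e
  · exact hne.1 (L.hyp.inj _ (qix_lt ha).1 _ (qix_lt hb).1 e)
  · rw [← L.hyp.mul _ (qix_lt hb).1 iZ (by decide)] at e
    exact hne.2 (L.hyp.inj _ (qix_lt ha).1 _ (mS_lt (qix_lt hb).1 (by decide)) e)

theorem exists_coord {v : X} (hv : v ∈ L.hyp.sub qL) : ∃ n < 16, L.Eqz v (ψ (qix n)) := by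
  obtain ⟨i, hi, rfl⟩ := (L.hyp.mem_sub qL_invol.2.2.1).1 hv
  have h := basic_ok.2.1
  simp only [List.all_eq_true, Bool.and_eq_true, Bool.or_eq_true, beq_iff_eq, Nat.blt_eq] at h
  obtain ⟨hn, e | e⟩ := h i hi
  · exact ⟨qco i, hn, .inl (by rw [e])⟩
  · refine ⟨qco i, hn, .inr ?_⟩
    rw [← L.hyp.mul _ (qix_lt hn).1 iZ (by decide), e]

/-- `x` acts as the code -/
def ActQ (_ : Loc ψ T) (x : X) (c : ℕ) : Prop :=
  c < 65536 ∧ ∀ n < 16, x * ψ (qix n) * x⁻¹ = ψ (qix (app c n)) ∨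
    x * ψ (qix n) * x⁻¹ = ψ (qix (app c n)) * ψ iZ

theorem actQ_unique {x : X} {c d : ℕ} (hc : L.ActQ x c) (hd : L.ActQ x d) : c = d :=
  code_ext hc.1 hd.1 fun n hn => L.eqz_inj (app_lt _ _) (app_lt _ _)
    (L.eqz_trans (L.eqz_symm (hc.2 n hn)) (hd.2 n hn))

theorem actQ_mul {x y : X} {c d : ℕ} (hc : L.ActQ x c) (hd : L.ActQ y d) : L.ActQ (x * y) (comp c d) := by
  refine ⟨comp_lt c d, fun n hn => ?_⟩
  rw [app_comp c d n hn]
  have h1 := L.eqz_conj (hd.2 n hn) x
  rw [show x * (y * ψ (qix n) * y⁻¹) * x⁻¹ = x * y * ψ (qix n) * (x * y)⁻¹ by group] at h1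
  exact L.eqz_trans h1 (hc.2 _ (app_lt _ _))

theorem actQ_one : L.ActQ 1 cId := by
  refine ⟨by decide, fun n hn => .inl ?_⟩
  have h : ((List.range 16).all fun n => app cId n == n) = true := by decide +kernel
  simp only [List.all_eq_true, List.mem_range, beq_iff_eq] at h
  rw [h n hn]
  group

theorem actQ_sig : L.ActQ (ψ 2) cSig := by
  refine ⟨by decide, fun n hn => ?_⟩
  have h := sig_ok.1
  simp only [List.all_eq_true, List.mem_range, Bool.or_eq_true, beq_iff_eq] at h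
  rw [← L.hyp.conj_eq (by norm_num) (qix_lt hn).1]
  rcases h n hn with e | e
  · exact .inl (by rw [e])
  · refine .inr ?_
    rw [← L.hyp.mul _ (qix_lt (app_lt _ _)).1 iZ (by decide)]
    have hz : ((List.range 16).all fun n => mS (mS (qix n) iZ) iZ == qix n) = true := by decide +kernel
    simp only [List.all_eq_true, List.mem_range, beq_iff_eq] at hz
    rw [← e]

theorem exists_actQ (x : X) : ∃ c ∈ candL, L.ActQ x c := by
  have K := L.hyp
  haveI := L.qS_normal
  have hco : ∀ n < 16, ∃ m < 16, L.Eqz (x * ψ (qix n) * x⁻¹) (ψ (qix m)) := fun n hn =>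
    L.exists_coord (Subgroup.Normal.conj_mem inferInstance _
      ((K.mem_sub qL_invol.2.2.1).2 ⟨_, (qix_lt hn).2, rfl⟩) x)
  obtain ⟨a, ha, ea⟩ := hco 1 (by norm_num)
  obtain ⟨b, hb, eb⟩ := hco 2 (by norm_num)
  obtain ⟨c, hc, ec⟩ := hco 4 (by norm_num)
  obtain ⟨d, hd, ed⟩ := hco 8 (by norm_num)
  set u := a + 16 * b + 256 * c + 4096 * d with hu
  obtain ⟨c1, c2, c4, c8⟩ := app_basis u
  have h1 : app u 1 = a := by rw [c1, hu]; omega
  have h2 : app u 2 = b := by rw [c2, hu]; omega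
  have h4 : app u 4 = c := by rw [c4, hu]; omega
  have h8 : app u 8 = d := by rw [c8, hu]; omega
  have hall : ∀ n < 16, L.Eqz (x * ψ (qix n) * x⁻¹) (ψ (qix (app u n))) := by
    refine induct16 (.inl ?_) (h1 ▸ ea) (h2 ▸ eb) (h4 ▸ ec) (h8 ▸ ed) fun m n hm hn hm' hn' => ?_
    · rw [PSpFourRecog.app_zero, show qix 0 = 0 from rfl, K.one]; group
    · rw [app_xor]
      refine L.eqz_trans (L.eqz_conj (L.eqz_symm (L.eqz_qix hm hn)) x) ?_
      rw [show x * (ψ (qix m) * ψ (qix n)) * x⁻¹ = x * ψ (qix m) * x⁻¹ * (x * ψ (qix n) * x⁻¹) by group]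
      exact L.eqz_trans (L.eqz_mul hm' hn') (L.eqz_qix (app_lt _ _) (app_lt _ _))
  have hsing : ∀ g ∈ [1, 2, 4, 8], ∀ m < 16, L.Eqz (x * ψ (qix g) * x⁻¹) (ψ (qix m)) → m ∈ singL := by
    intro g hg m hm e
    have hgl : g < 16 := by fin_cases hg <;> norm_num
    refine List.mem_filter.2 ⟨List.mem_range.2 hm, Bool.and_eq_true_iff.2 ⟨bne_iff_ne.2 ?_, beq_iff_eq.2 ?_⟩⟩
    · rintro rfl
      rw [show qix 0 = 0 from rfl, K.one] at e
      have e' : L.Eqz (ψ (qix g)) (ψ (qix 0)) := by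
        rw [show qix 0 = 0 from rfl, K.one]
        have := L.eqz_conj e x⁻¹
        simpa [mul_assoc] using this
      have := L.eqz_inj hgl (by norm_num) e'
      rw [this] at hg
      simp at hg
    · refine (K.eq_one_iff (mS_lt (qix_lt hm).1 (qix_lt hm).1)).1 ?_
      rw [K.mul _ (qix_lt hm).1 _ (qix_lt hm).1]
      have hg2 : mS (qix g) (qix g) = 0 := by fin_cases hg <;> decide +kernel
      have hsq : ψ (qix g) * ψ (qix g) = 1 := by rw [← K.mul _ (qix_lt hgl).1 _ (qix_lt hgl).1, hg2, K.one]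
      have hxx : x * ψ (qix g) * x⁻¹ * (x * ψ (qix g) * x⁻¹) = 1 := by
        rw [show x * ψ (qix g) * x⁻¹ * (x * ψ (qix g) * x⁻¹) = x * (ψ (qix g) * ψ (qix g)) * x⁻¹ by group,
          hsq]
        group
      rcases e with e | e
      · rw [← e]; exact hxx
      · rw [e] at hxx
        rw [← hxx, mul_assoc (ψ (qix m)), ← mul_assoc (ψ iZ), ← L.cent, mul_assoc (ψ (qix m)) (ψ iZ),
          L.z_mul_self, mul_one]
  have hcomm : ∀ g < 16, ∀ h < 16, ∀ m < 16, ∀ n < 16, L.Eqz (x * ψ (qix g) * x⁻¹) (ψ (qix m)) →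
      L.Eqz (x * ψ (qix h) * x⁻¹) (ψ (qix n)) → sameComm m n g h = true := by
    intro g hg h hh m hm n hn em en
    refine beq_iff_eq.2 (Bool.eq_iff_iff.2 ?_)
    rw [beq_iff_eq, beq_iff_eq, ← K.comm_iff (qix_lt hm).1 (qix_lt hn).1, ← K.comm_iff (qix_lt hg).1 (qix_lt hh).1]
    have key : ∀ {p q p' q' : X}, L.Eqz p p' → L.Eqz q q' → p * q = q * p → p' * q' = q' * p' := by
      intro p q p' q' hp hq hpq
      rcases L.eqz_symm hp with rfl | rfl <;> rcases L.eqz_symm hq with rfl | rfl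
      · exact hpq
      · rw [← mul_assoc, hpq, mul_assoc q, L.cent, ← mul_assoc, mul_assoc q, ← L.cent, ← mul_assoc]
      · rw [mul_assoc, ← L.cent, ← mul_assoc, hpq, mul_assoc]
      · rw [show p * ψ iZ * (q * ψ iZ) = p * (ψ iZ * q) * ψ iZ by group,
          show q * ψ iZ * (p * ψ iZ) = q * (ψ iZ * p) * ψ iZ by group, ← L.cent, ← L.cent, ← mul_assoc,
          ← mul_assoc, hpq]
    constructor
    · intro e
      have := key (L.eqz_conj (L.eqz_symm em) x⁻¹) (L.eqz_conj (L.eqz_symm en) x⁻¹) (by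
        rw [show x⁻¹ * ψ (qix m) * x⁻¹⁻¹ * (x⁻¹ * ψ (qix n) * x⁻¹⁻¹) = x⁻¹ * (ψ (qix m) * ψ (qix n)) * x by
          group, e]
        group)
      simpa [mul_assoc] using this
    · intro e
      exact key em en (by
        rw [show x * ψ (qix g) * x⁻¹ * (x * ψ (qix h) * x⁻¹) = x * (ψ (qix g) * ψ (qix h)) * x⁻¹ by group, e]
        group)
  refine ⟨u, ?_, ⟨by omega, hall⟩⟩
  refine List.mem_flatMap.2 ⟨a, hsing 1 (by simp) a ha ea, List.mem_flatMap.2 ⟨b,
    List.mem_filter.2 ⟨hsing 2 (by simp) b hb eb, hcomm 1 (by norm_num) 2 (by norm_num) a ha b hb ea eb⟩,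
    List.mem_flatMap.2 ⟨c, List.mem_filter.2 ⟨hsing 4 (by simp) c hc ec, Bool.and_eq_true_iff.2
      ⟨hcomm 1 (by norm_num) 4 (by norm_num) a ha c hc ea ec,
        hcomm 2 (by norm_num) 4 (by norm_num) b hb c hc eb ec⟩⟩,
      List.mem_filter.2 ⟨List.mem_map.2 ⟨d, List.mem_filter.2 ⟨hsing 8 (by simp) d hd ed, ?_⟩, rfl⟩, ?_⟩⟩⟩⟩
  · rw [Bool.and_eq_true, Bool.and_eq_true]
    exact ⟨⟨hcomm 1 (by norm_num) 8 (by norm_num) a ha d hd ea ed,
      hcomm 2 (by norm_num) 8 (by norm_num) b hb d hd eb ed⟩,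
      hcomm 4 (by norm_num) 8 (by norm_num) c hc d hd ec ed⟩
  · refine List.all_eq_true.2 fun n hn => ?_
    rw [List.mem_range] at hn
    rw [Bool.or_eq_true, beq_iff_eq, bne_iff_ne]
    by_contra hne
    push Not at hne
    have e := hall n hn
    rw [hne.2, show qix 0 = 0 from rfl, K.one] at e
    refine hne.1 (L.eqz_inj hn (by norm_num) ?_)
    rw [show qix 0 = 0 from rfl, K.one]
    have := L.eqz_conj e x⁻¹
    simpa [mul_assoc] using this

theorem mem_q_of_id {x : X} (h : L.ActQ x cId) : x ∈ L.hyp.sub qL := by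
  have K := L.hyp
  haveI := L.qS_normal
  obtain ⟨-, -, hqok, -⟩ := qL_invol
  set Zz := Subgroup.zpowers (ψ iZ)
  haveI : Zz.Normal := ⟨fun a ha g => by
    obtain ⟨k, rfl⟩ := Subgroup.mem_zpowers_iff.1 ha
    rw [((show Commute g (ψ iZ) from L.cent g).zpow_right k).eq, mul_inv_cancel_right]
    exact Subgroup.zpow_mem_zpowers _ _⟩
  have hzQ : Zz ≤ K.sub qL := Subgroup.zpowers_le.2 ((K.mem_sub hqok).2 ⟨iZ, by decide +kernel, rfl⟩)
  have hid : ((List.range 16).all fun n => app cId n == n) = true := by decide +kernel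
  simp only [List.all_eq_true, List.mem_range, beq_iff_eq] at hid
  have hxq : ∀ v ∈ K.sub qL, L.Eqz (x * v * x⁻¹) v := fun v hv => by
    obtain ⟨n, hn, e⟩ := L.exists_coord hv
    have h' : L.Eqz (x * ψ (qix n) * x⁻¹) (ψ (qix n)) := by
      have := h.2 n hn
      rwa [hid n hn] at this
    exact L.eqz_trans (L.eqz_conj e x) (L.eqz_trans h' (L.eqz_symm e))
  have hcm : ∀ v ∈ K.sub qL, ⁅x, v⁆ ∈ Zz := fun v hv => by
    rw [commutatorElement_def]
    rcases hxq v hv with e | e <;> rw [e]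
    · rw [mul_inv_cancel]; exact one_mem _
    · rw [L.cent v, mul_inv_cancel_right]; exact Subgroup.mem_zpowers _
  have hzc : ∀ b ∈ Zz, x * b = b * x := fun b hb => by
    obtain ⟨k, rfl⟩ := Subgroup.mem_zpowers_iff.1 hb
    exact ((show Commute x (ψ iZ) from L.cent x).zpow_right k).eq
  rcases L.core_cases with hR | hR
  · exact chainSub_le (K.sub qL) Zz Zz hR.symm (hR ▸ L.self_cent) hzQ hzQ
      ⟨hcm, fun a ha => by rw [commutatorElement_def, hzc a ha, mul_inv_cancel_right, mul_inv_cancel]; exact one_mem _,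
        hzc⟩
  · haveI hTn : T.Normal := hR ▸ Cfsg.pCore_normal 2 X
    have hqT : K.sub qL ≤ T := K.sub_le hqok
    have htwo := sig_ok.2.2
    simp only [List.all_eq_true, List.mem_range, Bool.or_eq_true, List.contains_iff_mem] at htwo
    have hidx : ∀ t ∈ T, t ∈ K.sub qL ∨ ψ 2 * t ∈ K.sub qL := fun t ht => by
      obtain ⟨i, hi, rfl⟩ := K.surj t ht
      refine (htwo i hi).imp (fun h => (K.mem_sub hqok).2 ⟨i, h, rfl⟩) fun h => ?_
      exact (K.mem_sub hqok).2 ⟨_, h, K.mul 2 (by norm_num) i hi⟩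
    have hxT : ∀ t ∈ T, ⁅x, t⁆ ∈ K.sub qL := by
      intro t ht
      rcases hidx t ht with h1 | h1
      · exact hzQ (hcm t h1)
      have ht' : x * t * x⁻¹ ∈ T := Subgroup.Normal.conj_mem inferInstance t ht x
      rcases hidx _ ht' with h2 | h2
      · exfalso
        have h3 : t ∈ K.sub qL := by
          simpa [mul_assoc] using Subgroup.Normal.conj_mem (H := K.sub qL) inferInstance _ h2 x⁻¹
        have h4 : ψ 2 ∈ K.sub qL := by simpa using mul_mem h1 (inv_mem h3)
        exact absurd ((K.mem_sub_iff hqok (by norm_num)).1 h4) (by decide +kernel)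
      · rw [commutatorElement_def, show x * t * x⁻¹ * t⁻¹ = (ψ 2)⁻¹ * (ψ 2 * (x * t * x⁻¹) *
          (ψ 2 * t)⁻¹) * (ψ 2)⁻¹⁻¹ by group]
        exact Subgroup.Normal.conj_mem inferInstance _ (mul_mem h2 (inv_mem h1)) _
    have hxin : x ∈ T := chainSub_le T (K.sub qL) Zz hR.symm (hR ▸ L.self_cent) hqT (hzQ.trans hqT)
      ⟨hxT, hcm, hzc⟩
    obtain ⟨i, hi, rfl⟩ := K.surj x hxin
    have hout := sig_ok.2.1
    simp only [List.all_eq_true, List.mem_range, Bool.or_eq_true, List.contains_iff_mem, List.any_eq_true,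
      Bool.and_eq_true, bne_iff_ne] at hout
    refine (K.mem_sub hqok).2 ⟨i, (hout i hi).resolve_right ?_, rfl⟩
    rintro ⟨n, hn, e1, e2⟩
    have hh := h.2 n hn
    rw [hid n hn, ← K.conj_eq hi (qix_lt hn).1, ← K.mul _ (qix_lt hn).1 iZ (by decide)] at hh
    rcases hh with e | e
    · exact e1 (K.inj _ (cjI_lt hi (qix_lt hn).1) _ (qix_lt hn).1 e)
    · exact e2 (K.inj _ (cjI_lt hi (qix_lt hn).1) _ (mS_lt (qix_lt hn).1 (by decide)) e)

theorem no_four {l : List ℕ} (hl : l.Nodup) (hlen : l.length = 4) (hclosed : ∀ a ∈ l, ∀ b ∈ l, comp a b ∈ l)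
    (hid : ∀ a ∈ l, comp (comp a a) (comp a a) = cId) (hact : ∀ a ∈ l, ∃ x, L.ActQ x a) : False := by
  classical
  have K := L.hyp
  haveI := Fact.mk Nat.prime_two
  obtain ⟨-, -, hqok, hqlen⟩ := qL_invol
  haveI := L.qS_normal
  have hfour : ∀ {x : X} {c : ℕ}, L.ActQ x c → c ∈ l → x ^ 4 ∈ K.sub qL := fun {x c} hx hc => by
    have h := L.actQ_mul (L.actQ_mul hx hx) (L.actQ_mul hx hx)
    rw [hid c hc] at h
    rw [show x ^ 4 = x * x * (x * x) by rw [pow_succ, pow_succ, pow_two, mul_assoc (x * x)]]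
    exact L.mem_q_of_id h
  obtain ⟨a0, ha0⟩ : ∃ a, a ∈ l := List.exists_mem_of_length_pos (by omega)
  have hidl : cId ∈ l := hid a0 ha0 ▸ hclosed _ (hclosed _ ha0 _ ha0) _ (hclosed _ ha0 _ ha0)
  set H : Subgroup X := Subgroup.closure {x | ∃ c ∈ l, L.ActQ x c} with hH
  have hmem : ∀ x ∈ H, ∃ c ∈ l, L.ActQ x c := by
    intro x hx
    rw [hH, ← Subgroup.mem_toSubmonoid,
      Subgroup.closure_toSubmonoid_of_finite] at hx
    induction hx using Submonoid.closure_induction with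
    | mem x hx => exact hx
    | one => exact ⟨cId, hidl, L.actQ_one⟩
    | mul x y _ _ hx hy =>
      obtain ⟨c, hc, hxc⟩ := hx
      obtain ⟨d, hd, hyd⟩ := hy
      exact ⟨comp c d, hclosed c hc d hd, L.actQ_mul hxc hyd⟩
  have hH2 : IsPGroup 2 H := fun x => by
    obtain ⟨c, hc, hxc⟩ := hmem x x.2
    obtain ⟨k, hk⟩ := L.syl.two ⟨(x : X) ^ 4, K.sub_le hqok (hfour hxc hc)⟩
    refine ⟨2 + k, Subtype.ext ?_⟩
    rw [pow_add, show (2 : ℕ) ^ 2 = 4 from rfl, SubgroupClass.coe_pow, pow_mul]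
    exact congrArg Subtype.val hk
  choose g hg using hact
  have hqH : ∀ v ∈ K.sub qL, v ∈ H ∧ L.ActQ v cId := by
    intro v hv
    obtain ⟨i, hi, rfl⟩ := (K.mem_sub hqok).1 hv
    have hQ : (qL.all fun i => (List.range 16).all fun n => cjI i (qix n) == qix n ||
        cjI i (qix n) == mS (qix n) iZ) = true := by decide +kernel
    simp only [List.all_eq_true, List.mem_range, Bool.or_eq_true, beq_iff_eq] at hQ
    have hidn : ((List.range 16).all fun n => app cId n == n) = true := by decide +kernel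
    simp only [List.all_eq_true, List.mem_range, beq_iff_eq] at hidn
    have hil := K.lt_of_lOK hqok hi
    have hA : L.ActQ (ψ i) cId := ⟨by decide, fun n hn => by
      rw [hidn n hn, ← K.conj_eq hil (qix_lt hn).1, ← K.mul _ (qix_lt hn).1 iZ (by decide)]
      exact (hQ i hi n hn).imp (fun e => by rw [e]) fun e => by rw [e]⟩
    exact ⟨Subgroup.subset_closure ⟨cId, hidl, hA⟩, hA⟩
  have hinj : Function.Injective fun p : l.toFinset × K.sub qL =>
      (⟨g p.1.1 (List.mem_toFinset.1 p.1.2) * p.2, mul_mem (Subgroup.subset_closure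
        ⟨p.1.1, List.mem_toFinset.1 p.1.2, hg _ _⟩) (hqH _ p.2.2).1⟩ : H) := by
    rintro ⟨⟨a, ha⟩, v⟩ ⟨⟨b, hb⟩, w⟩ e
    have e' : g a (List.mem_toFinset.1 ha) * (v : X) = g b (List.mem_toFinset.1 hb) * w := congrArg Subtype.val e
    have e1 := L.actQ_mul (hg a (List.mem_toFinset.1 ha)) (hqH _ v.2).2
    have e2 := L.actQ_mul (hg b (List.mem_toFinset.1 hb)) (hqH _ w.2).2
    have hr : ∀ c < 65536, comp c cId = c := fun c hc => code_ext (comp_lt _ _) hc fun n hn => by
      rw [app_comp c cId n hn]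
      have hidn : ((List.range 16).all fun n => app cId n == n) = true := by decide +kernel
      simp only [List.all_eq_true, List.mem_range, beq_iff_eq] at hidn
      rw [hidn n hn]
    rw [hr _ (hg a (List.mem_toFinset.1 ha)).1] at e1
    rw [hr _ (hg b (List.mem_toFinset.1 hb)).1, ← e'] at e2
    have hab := L.actQ_unique e1 e2
    subst hab
    simp only [Prod.mk.injEq, true_and]
    exact Subtype.ext (mul_left_cancel e')
  have hle := Nat.card_le_card_of_injective _ hinj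
  rw [Nat.card_prod, Nat.card_eq_finsetCard, List.toFinset_card_of_nodup hl, hlen,
    K.card_sub hqok (by decide +kernel), hqlen] at hle
  have h64 := L.syl.card_le le_top hH2
  rw [K.card_eq] at h64
  omega

theorem exists_code (x : X) : ∃ c ∈ codesL, L.ActQ x c := by
  obtain ⟨c, hc, hx⟩ := L.exists_actQ x
  refine ⟨c, ?_, hx⟩
  have h := cand_ok
  simp only [List.all_eq_true, candOK, Bool.or_eq_true, List.contains_iff_mem, List.any_eq_true] at h
  refine (h c hc).resolve_right ?_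
  rintro ⟨w, hw, hgood⟩
  have hre : ∀ k, ∀ v ∈ wordsC c k, ∃ y, L.ActQ y v := by
    intro k
    induction k with
    | zero =>
      intro v hv
      simp only [wordsC, List.mem_singleton] at hv
      exact ⟨1, hv ▸ L.actQ_one⟩
    | succ k ih =>
      intro v hv
      simp only [wordsC, List.mem_cons, List.mem_append, List.mem_map] at hv
      rcases hv with (rfl | ⟨v', hv', rfl⟩) | ⟨v', hv', rfl⟩
      · exact ⟨1, L.actQ_one⟩
      · obtain ⟨y, hy⟩ := ih v' hv'; exact ⟨_, L.actQ_mul hy hx⟩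
      · obtain ⟨y, hy⟩ := ih v' hv'; exact ⟨_, L.actQ_mul hy L.actQ_sig⟩
  obtain ⟨y, hy⟩ := hre 5 w hw
  rcases hgood with hf | hf
  · simp only [fourOK, Bool.and_eq_true, decide_eq_true_eq, List.all_eq_true, List.contains_iff_mem,
      beq_iff_eq] at hf
    refine L.no_four hf.1.1 rfl hf.1.2 hf.2 fun a ha => ?_
    simp only [List.mem_cons, List.not_mem_nil, or_false] at ha
    rcases ha with rfl | rfl | rfl | rfl
    exacts [⟨1, L.actQ_one⟩, ⟨y, hy⟩, ⟨_, L.actQ_mul hy hy⟩, ⟨_, L.actQ_mul (L.actQ_mul hy hy) hy⟩]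
  · simp only [fourOK, Bool.and_eq_true, decide_eq_true_eq, List.all_eq_true, List.contains_iff_mem,
      beq_iff_eq] at hf
    refine L.no_four hf.1.1 rfl hf.1.2 hf.2 fun a ha => ?_
    simp only [List.mem_cons, List.not_mem_nil, or_false] at ha
    rcases ha with rfl | rfl | rfl | rfl
    exacts [⟨1, L.actQ_one⟩, ⟨y, hy⟩, ⟨_, L.actQ_sig⟩, ⟨_, L.actQ_mul hy L.actQ_sig⟩]

/-- some element acts as the code -/
def Has (_ : Loc ψ T) (c : ℕ) : Prop := ∃ x : X, c < 65536 ∧ ∀ n < 16,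
  x * ψ (qix n) * x⁻¹ = ψ (qix (app c n)) ∨ x * ψ (qix n) * x⁻¹ = ψ (qix (app c n)) * ψ iZ

theorem has_of_word {x : X} {c : ℕ} (hx : L.ActQ x c) {v : ℕ} : ∀ {k : ℕ}, v ∈ wordsC c k → L.Has v := by
  intro k
  induction k generalizing v with
  | zero =>
    intro hv
    simp only [wordsC, List.mem_singleton] at hv
    exact hv ▸ ⟨1, L.actQ_one⟩
  | succ k ih =>
    intro hv
    simp only [wordsC, List.mem_cons, List.mem_append, List.mem_map] at hv
    rcases hv with (rfl | ⟨v', hv', rfl⟩) | ⟨v', hv', rfl⟩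
    · exact ⟨1, L.actQ_one⟩
    · obtain ⟨y, hy⟩ := ih hv'; exact ⟨_, L.actQ_mul hy hx⟩
    · obtain ⟨y, hy⟩ := ih hv'; exact ⟨_, L.actQ_mul hy L.actQ_sig⟩

theorem code_no_chi (hno : ¬ L.Has cChi) {x : X} {c : ℕ} (hx : L.ActQ x c) :
    c ∈ [cId, cSig, cTau, comp cTau cTau, comp cTau cSig, comp (comp cTau cTau) cSig] := by
  obtain ⟨c', hc', hx'⟩ := L.exists_code x
  rw [L.actQ_unique hx hx']
  have h := codes_ok.2.1
  simp only [List.all_eq_true, Bool.or_eq_true, List.contains_iff_mem] at h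
  exact (h c' hc').resolve_right fun hw => hno (L.has_of_word hx' hw)

theorem code_no_tau (hno : ¬ L.Has cTau) {x : X} {c : ℕ} (hx : L.ActQ x c) :
    c ∈ [cId, cSig, cChi, comp cChi cChi, comp cChi cSig, comp (comp cChi cChi) cSig] := by
  obtain ⟨c', hc', hx'⟩ := L.exists_code x
  rw [L.actQ_unique hx hx']
  have h := codes_ok.2.2
  simp only [List.all_eq_true, Bool.or_eq_true, List.contains_iff_mem] at h
  exact (h c' hc').resolve_right fun hw => hno (L.has_of_word hx' hw)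

end Loc

end CfsgLib.A8Syl
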