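import Cfsg.Agent.Lib.A8Syl.BarData
import Mathlib

/-!
Finite facts on the subgroups containing the elementary abelian one, and on the extraspecial one.
-/

set_option autoImplicit false

namespace CfsgLib.A8Syl

/-- the masks of the maximal subgroups containing `E` -/
def maxE : List ℕ := [4294967295, 281470681808895, 18446462598732906495]

/-- the mask of `E` -/
def eMask : ℕ := 65535

/-- the mask of `S` -/
def sMask : ℕ := 18446744073709551615

theorem contain_e : (normL.all fun m => (List.range 16).any (fun i => !m.testBit i) ||
    m == eMask || m == sMask || maxE.contains m) = true := by decide +kernel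

theorem eMask_ok : bitL eMask = List.range 16 := by decide +kernel

theorem sMask_ok : bitL sMask = List.range 64 := by decide +kernel

theorem maxE_ok : (maxE.all fun m => lOK (bitL m) && lOK (zL (bitL m)) &&
    ((zL (bitL m)).toFinset.card == 4) &&
    (zL (bitL m)).contains iZ && (zL (bitL m)).all (fun i => Nat.blt i 16) &&
    (List.range 16).all (fun i => m.testBit i) &&
    (bitL m).any (fun r => !Nat.blt r 16) && (List.range 64).any (fun s => !m.testBit s)) = true := by
  decide +kernel

theorem maxE_coset : (maxE.all fun m => (bitL m).all fun r => Nat.blt r 16 ||
    ((bitL m).all fun r' => Nat.blt r' 16 || Nat.blt (mS r' (invI r)) 16)) = true := by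
  decide +kernel

theorem maxE_fix : (maxE.all fun m => (bitL m).all fun r => Nat.blt r 16 ||
    (List.range 16).all fun e => (mS r e != mS e r) || (zL (bitL m)).contains e) = true := by
  decide +kernel

theorem maxE_comm : (maxE.all fun m => (bitL m).all fun r => (List.range 16).all fun e =>
    (zL (bitL m)).contains (cmI r e)) = true := by
  decide +kernel

/-- the centraliser in `S` of an index is not abelian -/
def centNonab (i : ℕ) : Bool :=
  (List.range 64).any fun a => mS a i == mS i a && (List.range 64).any fun b =>
    mS b i == mS i b && mS a b != mS b a

theorem qL_invol : ([1, 10, 16, 32].all fun i => mS i i == 0 && centNonab i) = true ∧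
    ((List.range 64).all fun i => mS i i != 0 || !centNonab i || qL.contains i) = true ∧
    lOK qL = true ∧ qL.length = 32 := by
  decide +kernel

theorem qL_gen : (qL.all fun i => (List.range 16).any fun n => (List.range 2).any fun e =>
    i == mS (mS (mS (mS (bif n.testBit 0 then 1 else 0) (bif n.testBit 1 then 10 else 0))
      (bif n.testBit 2 then 16 else 0)) (bif n.testBit 3 then 32 else 0)) (5 * e)) = true := by
  decide +kernel

end CfsgLib.A8Syl
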