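import Cfsg.Agent.Lib.A8Syl.Bar
import Cfsg.Agent.Lib.A8Syl.BarCheck

/-!
In the quotient of the centraliser by its core the extraspecial subgroup is normal.
-/

set_option autoImplicit false
set_option linter.style.haveILetI false
set_option linter.unusedSectionVars false

open scoped commutatorElement

namespace CfsgLib.A8Syl.Loc

variable {X : Type*} [Group X] [Finite X] {ψ : ℕ → X} {T : Subgroup X} (L : Loc ψ T)
include L

theorem zpowers_eq_one {x : X} (hx : ¬ 2 ∣ orderOf x) (hT : x ∈ T) : x = 1 := by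
  haveI := Fact.mk Nat.prime_two
  obtain ⟨k, hk⟩ := (IsPGroup.iff_orderOf.1 L.syl.two) ⟨x, hT⟩
  rw [Subgroup.orderOf_mk] at hk
  rcases k with _ | k
  · exact orderOf_eq_one_iff.1 (by simpa using hk)
  · exact absurd ⟨2 ^ k, by rw [hk, pow_succ, mul_comm]⟩ hx

theorem zL_conj {R : Subgroup X} [R.Normal] {l : List ℕ} (hl : lOK l = true) (hR : R = L.hyp.sub l)
    {i : ℕ} (hi : i ∈ zL l) (x : X) : ∃ j ∈ zL l, ψ j = x * ψ i * x⁻¹ := by
  have K := L.hyp
  rw [zL, List.mem_filter, List.all_eq_true] at hi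
  obtain ⟨hil, hic⟩ := hi
  have hmem : x * ψ i * x⁻¹ ∈ R :=
    Subgroup.Normal.conj_mem inferInstance _ (hR ▸ (K.mem_sub hl).2 ⟨i, hil, rfl⟩) x
  obtain ⟨j, hj, e⟩ := (K.mem_sub hl).1 (hR ▸ hmem)
  refine ⟨j, List.mem_filter.2 ⟨hj, List.all_eq_true.2 fun k hk => beq_iff_eq.2 ?_⟩, e⟩
  refine (K.comm_iff (K.lt_of_lOK hl hj) (K.lt_of_lOK hl hk)).1 ?_
  rw [e]
  obtain ⟨k', hk', e'⟩ := (K.mem_sub hl).1 (hR ▸ Subgroup.Normal.conj_mem (H := R) inferInstance _
    (hR ▸ (K.mem_sub hl).2 ⟨k, hk, rfl⟩) x⁻¹)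
  have hc := (K.comm_iff (K.lt_of_lOK hl hil) (K.lt_of_lOK hl hk')).2 (beq_iff_eq.1 (hic k' hk'))
  rw [e', inv_inv] at hc
  calc x * ψ i * x⁻¹ * ψ k = x * (ψ i * (x⁻¹ * ψ k * x)) * x⁻¹ := by group
    _ = ψ k * (x * ψ i * x⁻¹) := by rw [hc]; group

theorem sqL_conj {R : Subgroup X} [R.Normal] {l : List ℕ} (hl : lOK l = true) (hR : R = L.hyp.sub l)
    {i : ℕ} (hi : i ∈ sqL l) (x : X) : ∃ j ∈ sqL l, ψ j = x * ψ i * x⁻¹ := by
  have K := L.hyp
  simp only [sqL, List.mem_dedup, List.mem_flatMap, List.mem_map] at hi ⊢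
  obtain ⟨_, ⟨a, ha, rfl⟩, _, ⟨b, hb, rfl⟩, rfl⟩ := hi
  have hcj : ∀ u ∈ l, ∃ u' ∈ l, ψ u' = x * ψ u * x⁻¹ := fun u hu => (K.mem_sub hl).1
    (hR ▸ Subgroup.Normal.conj_mem inferInstance _ (hR ▸ (K.mem_sub hl).2 ⟨u, hu, rfl⟩) x)
  obtain ⟨a', ha', ea⟩ := hcj a ha
  obtain ⟨b', hb', eb⟩ := hcj b hb
  refine ⟨_, ⟨_, ⟨a', ha', rfl⟩, _, ⟨b', hb', rfl⟩, rfl⟩, ?_⟩
  have la := K.lt_of_lOK hl ha
  have lb := K.lt_of_lOK hl hb
  have la' := K.lt_of_lOK hl ha'
  have lb' := K.lt_of_lOK hl hb'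
  rw [K.mul _ (mS_lt la' la') _ (mS_lt lb' lb'), K.mul a' la' a' la', K.mul b' lb' b' lb', ea, eb,
    K.mul _ (mS_lt la la) _ (mS_lt lb lb), K.mul a la a la, K.mul b lb b lb]
  group

theorem not_kill {m : ℕ} (hok : lOK (bitL m) = true) (hR : Cfsg.pCore 2 X = L.hyp.sub (bitL m)) {l : List ℕ}
    (hinv : ∀ i ∈ l, ∀ x : X, ∃ j ∈ l, ψ j = x * ψ i * x⁻¹) : killBy m l = false := by
  by_contra h
  rw [Bool.not_eq_false, killBy] at h
  simp only [Bool.and_eq_true, List.all_eq_true, List.any_eq_true, List.mem_range, Bool.not_eq_true',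
    beq_iff_eq, List.contains_iff_mem] at h
  obtain ⟨⟨hl, hlm⟩, s, hs, ⟨hsm, hsl⟩, hsR⟩ := h
  have K := L.hyp
  set R := Cfsg.pCore 2 X
  set A := K.sub l
  haveI hAn : A.Normal := ⟨fun a ha x => by
    obtain ⟨i, hi, rfl⟩ := (K.mem_sub hl).1 ha
    obtain ⟨j, hj, e⟩ := hinv i hi x
    exact (K.mem_sub hl).2 ⟨j, hj, e⟩⟩
  have hAR : A ≤ R := fun a ha => by
    obtain ⟨i, hi, rfl⟩ := (K.mem_sub hl).1 ha
    rw [hR]
    exact (K.mem_sub hok).2 ⟨i, List.mem_filter.2 ⟨List.mem_range.2 (K.lt_of_lOK hl hi), hlm i hi⟩, rfl⟩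
  have hle := chainSub_le R A ⊥ rfl L.self_cent hAR bot_le
  have hmem : ψ s ∈ chainSub R A ⊥ := by
    refine ⟨fun r hr => ?_, fun a ha => ?_, fun b hb => by rw [Subgroup.mem_bot.1 hb]; simp⟩
    · obtain ⟨i, hi, rfl⟩ := (K.mem_sub hok).1 (hR ▸ hr)
      refine (K.mem_sub hl).2 ⟨_, hsR i hi, ?_⟩
      rw [K.cmI_eq hs (K.lt_of_lOK hok hi), commutatorElement_def]
    · obtain ⟨i, hi, rfl⟩ := (K.mem_sub hl).1 ha
      rw [Subgroup.mem_bot, commutatorElement_def, ← K.cmI_eq hs (K.lt_of_lOK hl hi), hsl i hi, K.one]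
  obtain ⟨j, hj, e⟩ := (K.mem_sub hok).1 (hR ▸ hle hmem)
  rw [← K.inj s hs j (K.lt_of_lOK hok hj) e.symm, bitL, List.mem_filter, hsm] at hj
  exact Bool.noConfusion hj.2

theorem core_mask_cases : Cfsg.pCore 2 X = L.hyp.sub qL ∨ L.hyp.eS ≤ Cfsg.pCore 2 X := by
  have K := L.hyp
  obtain ⟨m, hm, hR⟩ := L.exists_core_mask
  have hok : lOK (bitL m) = true := by
    have h := normL_lOK
    rw [List.all_eq_true] at h
    exact h m hm
  haveI : (Cfsg.pCore 2 X).Normal := Cfsg.pCore_normal 2 X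
  have hz : ∀ i ∈ [0, iZ], ∀ x : X, ∃ j ∈ [0, iZ], ψ j = x * ψ i * x⁻¹ := by
    intro i hi x
    refine ⟨i, hi, ?_⟩
    simp only [List.mem_cons, List.not_mem_nil, or_false] at hi
    rcases hi with rfl | rfl
    · rw [K.one]; group
    · rw [L.cent x, mul_inv_cancel_right]
  have h := normL_cent
  simp only [List.all_eq_true, Bool.or_eq_true, beq_iff_eq,
    List.any_eq_true, List.mem_range, Bool.and_eq_true, Bool.not_eq_true'] at h
  rcases h m hm with (((((⟨j, hj, hjm, hjc⟩ | he) | rfl) | hk) | hk) | hk)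
  · exfalso
    have hc : ψ j ∈ Subgroup.centralizer (Cfsg.pCore 2 X : Set X) := by
      refine Subgroup.mem_centralizer_iff.2 fun r hr => ?_
      obtain ⟨i, hi, rfl⟩ := (K.mem_sub hok).1 (hR ▸ hr)
      exact (K.comm_iff (K.lt_of_lOK hok hi) hj).2 (hjc i hi)
    obtain ⟨i, hi, e⟩ := (K.mem_sub hok).1 (hR ▸ L.self_cent hc)
    rw [← K.inj j hj i (K.lt_of_lOK hok hi) e.symm, bitL, List.mem_filter, hjm] at hi
    exact Bool.noConfusion hi.2
  · refine .inr fun x hx => ?_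
    obtain ⟨i, hi, rfl⟩ := K.mem_eS.1 hx
    rw [hR]
    exact (K.mem_sub hok).2 ⟨i, List.mem_filter.2 ⟨List.mem_range.2 (by omega), he i hi⟩, rfl⟩
  · exact .inl (by rw [hR, qMask_ok])
  · rw [L.not_kill hok hR hz] at hk; cases hk
  · rw [L.not_kill hok hR (fun i hi x => L.zL_conj hok hR hi x)] at hk; cases hk
  · rw [L.not_kill hok hR (fun i hi x => L.sqL_conj hok hR hi x)] at hk; cases hk

theorem eS_normal (h : L.hyp.eS ≤ Cfsg.pCore 2 X) : L.hyp.eS.Normal := by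
  have K := L.hyp
  refine ⟨fun e he x => ?_⟩
  have hY : K.eS.map (MulAut.conj x).toMonoidHom = K.eS := by
    refine K.eS_unique ?_ ?_ ?_
    · rintro _ ⟨u, hu, rfl⟩
      exact L.core_le (Subgroup.Normal.conj_mem (Cfsg.pCore_normal 2 X) _ (h hu) x)
    · rw [Subgroup.card_map_of_injective (MulEquiv.injective _), K.card_eS]
    · rintro _ ⟨u, hu, rfl⟩
      show x * u * x⁻¹ * (x * u * x⁻¹) = 1
      rw [show x * u * x⁻¹ * (x * u * x⁻¹) = x * (u * u) * x⁻¹ by group, K.eS_sq hu]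
      group
  exact hY ▸ ⟨e, he, rfl⟩

theorem odd_of_core {x : X} (hx : ¬ 2 ∣ orderOf x) (h : x ∈ Cfsg.pCore 2 X) : x = 1 :=
  L.zpowers_eq_one hx (L.core_le h)

theorem core_ne_eS : Cfsg.pCore 2 X ≠ L.hyp.eS := by
  intro hR
  have K := L.hyp
  haveI := Fact.mk Nat.prime_two
  haveI hEn : K.eS.Normal := L.eS_normal hR.ge
  haveI hEc : IsMulCommutative K.eS := ⟨⟨fun a b => Subtype.ext (K.eS_comm a.2 b.2)⟩⟩
  haveI := Transfer.pPrimeCore_normal 2 (X ⧸ K.eS)
  set D := (Cfsg.oddCore (X ⧸ K.eS)).comap (QuotientGroup.mk' K.eS) with hD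
  have hED : K.eS ≤ D := fun x hx => by
    show QuotientGroup.mk' K.eS x ∈ Cfsg.oddCore (X ⧸ K.eS)
    rw [QuotientGroup.mk'_apply, (QuotientGroup.eq_one_iff x).2 hx]
    exact one_mem _
  set A := K.eS.subgroupOf D with hA
  haveI hAn : A.Normal := hEn.subgroupOf D
  haveI hAc : IsMulCommutative A :=
    ⟨⟨fun a b => Subtype.ext (Subtype.ext (K.eS_comm a.2 b.2))⟩⟩
  have hco : (Nat.card A).Coprime A.index := by
    rw [Nat.card_congr (Subgroup.subgroupOfEquivOfLe hED).toEquiv, K.card_eS]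
    have hidx : A.index = Nat.card (Cfsg.oddCore (X ⧸ K.eS)) := by
      have h1 := A.card_mul_index
      rw [Nat.card_congr (Subgroup.subgroupOfEquivOfLe hED).toEquiv] at h1
      have h2 : D.index = (Cfsg.oddCore (X ⧸ K.eS)).index :=
        Subgroup.index_comap_of_surjective _ (QuotientGroup.mk'_surjective _)
      have h3 := D.card_mul_index
      have h4 := (Cfsg.oddCore (X ⧸ K.eS)).card_mul_index
      have h5 := K.eS.card_mul_index
      rw [Subgroup.index_eq_card K.eS, ← h4, ← h2, ← h3, ← h1] at h5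
      have h6 : Nat.card K.eS * Nat.card (Cfsg.oddCore (X ⧸ K.eS)) * D.index =
          Nat.card K.eS * A.index * D.index := by rw [← h5]; ring
      exact (Nat.eq_of_mul_eq_mul_left Nat.card_pos (Nat.eq_of_mul_eq_mul_right
        (Nat.pos_of_ne_zero Subgroup.index_ne_zero_of_finite) h6)).symm
    rw [hidx]
    exact (((Transfer.pPrimeCore_coprime 2 : (Nat.card (Cfsg.oddCore (X ⧸ K.eS))).Coprime 2).symm).pow_left 4)
  have hDc : ∀ d ∈ D, ∀ e ∈ K.eS, d * e = e * d := by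
    have hbot : ⁅K.eS, D⁆ = ⊥ := by
      by_contra hne
      have hle : ⁅K.eS, D⁆ ≤ K.eS := Subgroup.commutator_le_left _ _
      haveI : D.Normal := Subgroup.Normal.comap inferInstance _
      have hz := L.z_mem (hle.trans K.eS_le) hne fun s _ r hr =>
        Subgroup.Normal.conj_mem inferInstance r hr s
      have hzE : ψ iZ ∈ K.eS := hle hz
      have h := (Transfer.abelian_normal_hall A hAc hco).1
      have h1 : (⟨ψ iZ, hED hzE⟩ : D) ∈ ⁅A, (⊤ : Subgroup D)⁆ := by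
        have e : (⁅A, (⊤ : Subgroup D)⁆).map D.subtype = ⁅K.eS, D⁆ := by
          rw [Subgroup.map_commutator, Subgroup.map_subgroupOf_eq_of_le hED, ← MonoidHom.range_eq_map,
            Subgroup.range_subtype]
        rw [← e] at hz
        obtain ⟨y, hy, e'⟩ := hz
        rwa [show (⟨ψ iZ, hED hzE⟩ : D) = y from Subtype.ext e'.symm]
      have h2 : (⟨ψ iZ, hED hzE⟩ : D) ∈ Subgroup.center D ⊓ A :=
        ⟨Subgroup.mem_center_iff.2 fun d => Subtype.ext (L.cent d), hzE⟩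
      have h3 : (⟨ψ iZ, hED hzE⟩ : D) ∈ (⊥ : Subgroup D) := h ▸ Subgroup.mem_inf.2 ⟨h1, h2⟩
      rw [Subgroup.mem_bot] at h3
      have h4 := K.t_order
      rw [show ψ iZ = 1 from congrArg Subtype.val h3, orderOf_one] at h4
      omega
    intro d hd e he
    have h := Subgroup.commutator_mem_commutator he hd
    rw [hbot, Subgroup.mem_bot, commutatorElement_eq_one_iff_mul_comm] at h
    exact h.symm
  have hDle : D ≤ K.eS := fun d hd => hR ▸ L.self_cent (Subgroup.mem_centralizer_iff.2 fun e he => by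
    rw [hR] at he
    exact (hDc d hd e he).symm)
  have hO : Cfsg.oddCore (X ⧸ K.eS) = ⊥ := by
    refine (Subgroup.eq_bot_iff_forall _).2 fun y hy => ?_
    obtain ⟨x, rfl⟩ := QuotientGroup.mk'_surjective K.eS y
    exact (QuotientGroup.eq_one_iff x).2 (hDle hy)
  have hP : Cfsg.pCore 2 (X ⧸ K.eS) = ⊥ := by
    refine (Subgroup.eq_bot_iff_forall _).2 fun y hy => ?_
    obtain ⟨x, rfl⟩ := QuotientGroup.mk'_surjective K.eS y
    haveI := Cfsg.pCore_normal 2 (X ⧸ K.eS)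
    set P := (Cfsg.pCore 2 (X ⧸ K.eS)).comap (QuotientGroup.mk' K.eS)
    haveI : P.Normal := Subgroup.Normal.comap inferInstance _
    have hP2 : IsPGroup 2 P := (Fitting.pCore_isPGroup 2).comap_of_ker_isPGroup _ (by
      rw [QuotientGroup.ker_mk']; exact L.syl.two.to_le K.eS_le)
    exact (QuotientGroup.eq_one_iff x).2 (hR ▸ Fitting.le_pCore (N := P) inferInstance hP2 hy)
  haveI := L.solv
  have hc := PSolvable.centralizer_pCore_le (p := 2)
    (PSolvable.isPSolvable_of_isSolvable (inferInstance : Group.IsSolvable (X ⧸ K.eS))) hO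
  rw [hP] at hc
  have h16 : (16 : ℕ) ∈ (Finset.range 64) := by decide
  have hall : (QuotientGroup.mk' K.eS) (ψ 16) ∈ (⊥ : Subgroup (X ⧸ K.eS)) :=
    hc (Subgroup.mem_centralizer_iff.2 fun y hy => by
      rw [Subgroup.mem_bot.1 hy]; simp)
  rw [Subgroup.mem_bot, QuotientGroup.mk'_apply, QuotientGroup.eq_one_iff] at hall
  obtain ⟨i, hi, e⟩ := K.mem_eS.1 hall
  have := K.inj i (by omega) 16 (by norm_num) e
  omega

theorem core_ne_maxE {m : ℕ} (hm : m ∈ maxE) : Cfsg.pCore 2 X ≠ L.hyp.sub (bitL m) := by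
  intro hR
  have K := L.hyp
  haveI := Fact.mk Nat.prime_two
  have hok' := maxE_ok
  simp only [List.all_eq_true, Bool.and_eq_true, beq_iff_eq, List.contains_iff_mem, List.any_eq_true,
    List.mem_range, Nat.blt_eq, Bool.not_eq_true'] at hok'
  obtain ⟨⟨⟨⟨⟨⟨⟨hok, hZok⟩, hZ4⟩, hzZ⟩, hZE⟩, hE⟩, ⟨r0, hr0, hr0E⟩⟩, s0, hs0, hs0m⟩ := hok' m hm
  set R := Cfsg.pCore 2 X
  haveI : R.Normal := Cfsg.pCore_normal 2 X
  have hER : K.eS ≤ R := fun x hx => by
    obtain ⟨i, hi, rfl⟩ := K.mem_eS.1 hx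
    rw [hR]
    exact (K.mem_sub hok).2 ⟨i, List.mem_filter.2 ⟨List.mem_range.2 (by omega), hE i hi⟩, rfl⟩
  haveI hEn : K.eS.Normal := L.eS_normal hER
  set Zs := K.sub (zL (bitL m))
  haveI hZn : Zs.Normal := ⟨fun a ha x => by
    obtain ⟨i, hi, rfl⟩ := (K.mem_sub hZok).1 ha
    obtain ⟨j, hj, e⟩ := L.zL_conj hok hR hi x
    exact (K.mem_sub hZok).2 ⟨j, hj, e⟩⟩
  have hZE' : Zs ≤ K.eS := fun a ha => by
    obtain ⟨i, hi, rfl⟩ := (K.mem_sub hZok).1 ha
    exact K.mem_eS.2 ⟨i, hZE i hi, rfl⟩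
  have hcoset := maxE_coset
  have hfix := maxE_fix
  have hcomm := maxE_comm
  simp only [List.all_eq_true, List.mem_range, Bool.or_eq_true, Nat.blt_eq, bne_iff_ne, ne_eq,
    List.contains_iff_mem] at hcoset hfix hcomm
  have hRE : ∀ r ∈ R, r ∉ K.eS → ∀ r' ∈ R, r' ∉ K.eS → r' * r⁻¹ ∈ K.eS := by
    intro r hr hrE r' hr' hrE'
    obtain ⟨i, hi, rfl⟩ := (K.mem_sub hok).1 (hR ▸ hr)
    obtain ⟨i', hi', rfl⟩ := (K.mem_sub hok).1 (hR ▸ hr')
    have h := (((hcoset m hm i hi).resolve_left fun h => hrE (K.mem_eS.2 ⟨i, h, rfl⟩)) i' hi').resolve_left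
      fun h => hrE' (K.mem_eS.2 ⟨i', h, rfl⟩)
    have hil := K.lt_of_lOK hok hi
    have hil' := K.lt_of_lOK hok hi'
    rw [← K.inv_eq hil, ← K.mul i' hil' _ (invI_spec hil).1]
    exact K.mem_eS.2 ⟨_, h, rfl⟩
  have hodd : ∀ y : X, ¬ 2 ∣ orderOf y → y = 1 := by
    intro y hy
    have hyZ : ∀ b ∈ Zs, y * b = b * y := by
      have hfix2 : ∀ b ∈ Zs, y ^ 2 * b * (y ^ 2)⁻¹ = b := by
        classical
        intro b hb
        have hconj : ∀ c ∈ Zs, y * c * y⁻¹ ∈ Zs := fun c hc => Subgroup.Normal.conj_mem inferInstance c hc y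
        have hc1 := hconj b hb
        have hc2 := hconj _ hc1
        rw [show y ^ 2 * b * (y ^ 2)⁻¹ = y * (y * b * y⁻¹) * y⁻¹ by rw [pow_two]; group]
        obtain ⟨i, hi, rfl⟩ := (K.mem_sub hZok).1 hb
        obtain ⟨j, hj, ej⟩ := (K.mem_sub hZok).1 hc1
        rw [← ej] at hc2 ⊢
        obtain ⟨k, hk, ek⟩ := (K.mem_sub hZok).1 hc2
        by_cases e0 : i = 0
        · subst e0; rw [ej, K.one]; group
        by_cases e1 : i = iZ
        · subst e1; rw [ej, L.cent y, mul_inv_cancel_right, L.cent y, mul_inv_cancel_right]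
        have hj0 : j ≠ 0 := fun e => e0 ((K.eq_one_iff (K.lt_of_lOK hZok hi)).1
          (conj_eq_one_iff.1 (ej.symm.trans (by rw [e, K.one]))))
        have hjz : j ≠ iZ := fun e => e1 (K.inj i (K.lt_of_lOK hZok hi) iZ (by decide) (by
          rw [e] at ej
          calc ψ i = y⁻¹ * (y * ψ i * y⁻¹) * y := by group
            _ = y⁻¹ * ψ iZ * y := by rw [ej]
            _ = ψ iZ := by rw [mul_assoc, ← L.cent y]; group))
        by_cases eij : j = i
        · subst eij; exact ej.symm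
        have hk0 : k ≠ 0 := fun e => hj0 ((K.eq_one_iff (K.lt_of_lOK hZok hj)).1
          (conj_eq_one_iff.1 (ek.symm.trans (by rw [e, K.one]))))
        have hkz : k ≠ iZ := fun e => hjz (K.inj j (K.lt_of_lOK hZok hj) iZ (by decide) (by
          rw [e] at ek
          calc ψ j = y⁻¹ * (y * ψ j * y⁻¹) * y := by group
            _ = y⁻¹ * ψ iZ * y := by rw [ek]
            _ = ψ iZ := by rw [mul_assoc, ← L.cent y]; group))
        have hkj : k ≠ j := fun e => eij (K.inj j (K.lt_of_lOK hZok hj) i (K.lt_of_lOK hZok hi) (by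
          rw [e, ej] at ek
          rw [ej]
          exact (mul_left_cancel (mul_right_cancel ek)).symm))
        suffices k = i by rw [← ek, this]
        by_contra hki
        have hsub : ({0, iZ, i, j, k} : Finset ℕ) ⊆ (zL (bitL m)).toFinset := by
          intro u hu
          simp only [Finset.mem_insert, Finset.mem_singleton] at hu
          rw [List.mem_toFinset]
          rcases hu with rfl | rfl | rfl | rfl | rfl
          · have h := hZok
            simp only [lOK, Bool.and_eq_true, List.contains_iff_mem] at h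
            exact h.1
          exacts [hzZ, hi, hj, hk]
        have hle5 := Finset.card_le_card hsub
        rw [hZ4, Finset.card_insert_of_notMem (by simp [iZ, Ne.symm e0, Ne.symm hj0, Ne.symm hk0]),
          Finset.card_insert_of_notMem (by simp [Ne.symm e1, Ne.symm hjz, Ne.symm hkz]),
          Finset.card_insert_of_notMem (by simp [Ne.symm eij, Ne.symm hki]),
          Finset.card_insert_of_notMem (by simp [Ne.symm hkj]), Finset.card_singleton] at hle5
        omega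
      obtain ⟨w, hw⟩ := exists_pow_eq_self_of_coprime (x := y) (n := 2)
        ((Nat.prime_two.coprime_iff_not_dvd).2 hy)
      intro b hb
      rw [← hw]
      exact ((show Commute (y ^ 2) b from mul_inv_eq_iff_eq_mul.1 (hfix2 b hb)).pow_left w).eq
    have hyE : ∀ e ∈ K.eS, ⁅y, e⁆ ∈ Zs := by
      intro e he
      have he' : y * e * y⁻¹ ∈ K.eS := Subgroup.Normal.conj_mem inferInstance e he y
      obtain ⟨w, hw, hwe⟩ : ∃ w < 16, ψ w = ⁅y, e⁆ := K.mem_eS.1 (by
        rw [commutatorElement_def]; exact mul_mem he' (inv_mem he))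
      rw [← hwe]
      refine (K.mem_sub hZok).2 ⟨w, ((hfix m hm r0 hr0).resolve_left (fun h => by rw [← Bool.not_eq_true, Nat.blt_eq] at hr0E; exact hr0E h) w hw).resolve_left
        (not_not.2 ((K.comm_iff (K.lt_of_lOK hok hr0) (by omega)).1 ?_)), rfl⟩
      rw [hwe, commutatorElement_def]
      set r := ψ r0
      have hr : r ∈ R := by rw [hR]; exact (K.mem_sub hok).2 ⟨r0, hr0, rfl⟩
      have hrE : r ∉ K.eS := fun h => by
        obtain ⟨i, hi, e'⟩ := K.mem_eS.1 h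
        rw [← K.inj i (by omega) r0 (K.lt_of_lOK hok hr0) e'] at hr0E
        rw [← Bool.not_eq_true, Nat.blt_eq] at hr0E; exact hr0E hi
      have hr'E : y * r * y⁻¹ ∉ K.eS := fun h => hrE (by
        simpa [mul_assoc] using Subgroup.Normal.conj_mem hEn _ h y⁻¹)
      have hd := hRE r hr hrE _ (Subgroup.Normal.conj_mem inferInstance r hr y) hr'E
      -- the commutator with `e` is fixed by `y`
      have hcz : ⁅r, e⁆ ∈ Zs := by
        obtain ⟨i, hi, ei⟩ := K.mem_eS.1 he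
        rw [← ei, commutatorElement_def, ← K.cmI_eq (K.lt_of_lOK hok hr0) (by omega)]
        exact (K.mem_sub hZok).2 ⟨_, hcomm m hm r0 hr0 i hi, rfl⟩
      have h1 : ⁅r, e⁆ = ⁅y * r * y⁻¹, y * e * y⁻¹⁆ := by
        calc ⁅r, e⁆ = ⁅r, e⁆ * y * y⁻¹ := by group
          _ = y * ⁅r, e⁆ * y⁻¹ := by rw [hyZ _ hcz]
          _ = _ := by simp only [commutatorElement_def]; group
      have hin : r * (y * e * y⁻¹) * r⁻¹ ∈ K.eS := Subgroup.Normal.conj_mem inferInstance _ he' r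
      have h2 : ⁅y * r * y⁻¹, y * e * y⁻¹⁆ = ⁅r, y * e * y⁻¹⁆ := by
        have hdc := K.eS_comm hd hin
        calc ⁅y * r * y⁻¹, y * e * y⁻¹⁆
            = y * r * y⁻¹ * r⁻¹ * (r * (y * e * y⁻¹) * r⁻¹) * (y * r * y⁻¹ * r⁻¹)⁻¹ * (y * e * y⁻¹)⁻¹ := by
              simp only [commutatorElement_def]; group
          _ = ⁅r, y * e * y⁻¹⁆ := by
              rw [hdc, mul_inv_cancel_right, commutatorElement_def]
      rw [h2] at h1
      have hre : r * e * r⁻¹ ∈ K.eS := Subgroup.Normal.conj_mem inferInstance _ he r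
      have h3 : r * (y * e * y⁻¹ * e⁻¹) * r⁻¹ = y * e * y⁻¹ * e⁻¹ := by
        have h4 : r * (y * e * y⁻¹) * r⁻¹ = r * e * r⁻¹ * e⁻¹ * (y * e * y⁻¹) := by
          rw [← commutatorElement_def r e, h1, commutatorElement_def]; group
        calc r * (y * e * y⁻¹ * e⁻¹) * r⁻¹
            = r * (y * e * y⁻¹) * r⁻¹ * (r * e * r⁻¹)⁻¹ := by group
          _ = r * e * r⁻¹ * (e⁻¹ * (y * e * y⁻¹)) * (r * e * r⁻¹)⁻¹ := by rw [h4]; group
          _ = e⁻¹ * (y * e * y⁻¹) := by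
            rw [K.eS_comm hre (mul_mem (inv_mem he) he'), mul_inv_cancel_right]
          _ = y * e * y⁻¹ * e⁻¹ := K.eS_comm (inv_mem he) he'
      exact mul_inv_eq_iff_eq_mul.1 h3
    have hyR : ∀ r ∈ R, ⁅y, r⁆ ∈ K.eS := by
      intro r hr
      by_cases hrE : r ∈ K.eS
      · exact hZE' (hyE r hrE)
      · exact hRE r hr hrE _ (Subgroup.Normal.conj_mem inferInstance r hr y) fun h => hrE (by
          simpa [mul_assoc] using Subgroup.Normal.conj_mem hEn _ h y⁻¹)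
    exact L.odd_of_core hy (chainSub_le R K.eS Zs rfl L.self_cent hER (hZE'.trans hER) ⟨hyR, hyE, hyZ⟩)
  have h2 : IsPGroup 2 X := fun x => by
    obtain ⟨a, n, hn, hord, hcop, -⟩ := Transfer.exists_pow_coprime_part (p := 2) x
    exact ⟨a, hodd _ ((Nat.prime_two.coprime_iff_not_dvd).1 hcop.symm)⟩
  have htop : (⊤ : Subgroup X) ≤ R := Fitting.le_pCore inferInstance (h2.to_subgroup ⊤)
  obtain ⟨j, hj, e⟩ := (K.mem_sub hok).1 (hR ▸ htop (Subgroup.mem_top (ψ s0)))
  rw [← K.inj s0 hs0 j (K.lt_of_lOK hok hj) e.symm, bitL, List.mem_filter, hs0m] at hj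
  exact Bool.noConfusion hj.2

/-- The largest normal 2-subgroup is the extraspecial one or the Sylow subgroup. -/
theorem core_cases : Cfsg.pCore 2 X = L.hyp.sub qL ∨ Cfsg.pCore 2 X = T := by
  have K := L.hyp
  rcases L.core_mask_cases with h | h
  · exact .inl h
  refine .inr ?_
  obtain ⟨m, hm, hR⟩ := L.exists_core_mask
  have hok : lOK (bitL m) = true := by
    have h := normL_lOK
    rw [List.all_eq_true] at h
    exact h m hm
  have hc := contain_e
  simp only [List.all_eq_true, Bool.or_eq_true, List.any_eq_true, List.mem_range, Bool.not_eq_true',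
    beq_iff_eq, List.contains_iff_mem] at hc
  rcases hc m hm with ((⟨i, hi, hib⟩ | rfl) | rfl) | hM
  · exfalso
    obtain ⟨j, hj, e⟩ := (K.mem_sub hok).1 (hR ▸ h (K.mem_eS.2 ⟨i, hi, rfl⟩))
    rw [← K.inj i (by omega) j (K.lt_of_lOK hok hj) e.symm, bitL, List.mem_filter, hib] at hj
    exact Bool.noConfusion hj.2
  · exact absurd (by rw [hR, eMask_ok]; rfl) L.core_ne_eS
  · rw [hR, sMask_ok]
    refine le_antisymm (K.sub_le (by decide +kernel)) fun x hx => (K.mem_sub (by decide +kernel)).2 ?_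
    obtain ⟨i, hi, e⟩ := K.surj x hx
    exact ⟨i, List.mem_range.2 hi, e⟩
  · exact absurd hR (L.core_ne_maxE hM)

theorem qS_normal : (L.hyp.sub qL).Normal := by
  have K := L.hyp
  rcases L.core_cases with h | h
  · rw [← h]; exact Cfsg.pCore_normal 2 X
  haveI hTn : T.Normal := h ▸ Cfsg.pCore_normal 2 X
  obtain ⟨hinv, hq, hqok, -⟩ := qL_invol
  simp only [List.all_eq_true, Bool.and_eq_true, beq_iff_eq] at hinv
  simp only [List.all_eq_true, List.mem_range, Bool.or_eq_true, bne_iff_ne, Bool.not_eq_true',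
    List.contains_iff_mem] at hq
  refine ⟨fun v hv x => ?_⟩
  have hgen : ∀ g ∈ [1, 10, 16, 32], x * ψ g * x⁻¹ ∈ K.sub qL := by
    intro g hg
    obtain ⟨hg2, hgn⟩ := hinv g hg
    have hgl : g < 64 := by fin_cases hg <;> norm_num
    obtain ⟨j, hj, ej⟩ := K.surj _ (Subgroup.Normal.conj_mem hTn _ (K.mem g hgl) x)
    simp only [centNonab, List.any_eq_true, List.mem_range, Bool.and_eq_true, beq_iff_eq, bne_iff_ne] at hgn
    obtain ⟨a, ha, hag, b, hb, hbg, hab⟩ := hgn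
    obtain ⟨a', ha', ea⟩ := K.surj _ (Subgroup.Normal.conj_mem hTn _ (K.mem a ha) x)
    obtain ⟨b', hb', eb⟩ := K.surj _ (Subgroup.Normal.conj_mem hTn _ (K.mem b hb) x)
    refine (K.mem_sub hqok).2 ⟨j, (hq j hj).resolve_left fun hor => ?_, ej⟩
    rcases hor with h2 | hfalse
    swap
    · have hc := (Bool.eq_false_iff.1 hfalse)
      refine hc ?_
      simp only [centNonab, List.any_eq_true, List.mem_range, Bool.and_eq_true, beq_iff_eq, bne_iff_ne]
      refine ⟨a', ha', (K.comm_iff ha' hj).1 ?_, b', hb', (K.comm_iff hb' hj).1 ?_, fun e => hab ?_⟩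
      · rw [ea, ej]
        calc x * ψ a * x⁻¹ * (x * ψ g * x⁻¹) = x * (ψ a * ψ g) * x⁻¹ := by group
          _ = _ := by rw [(K.comm_iff ha hgl).2 hag]; group
      · rw [eb, ej]
        calc x * ψ b * x⁻¹ * (x * ψ g * x⁻¹) = x * (ψ b * ψ g) * x⁻¹ := by group
          _ = _ := by rw [(K.comm_iff hb hgl).2 hbg]; group
      · refine (K.comm_iff ha hb).1 ?_
        have h' := (K.comm_iff ha' hb').2 e
        rw [ea, eb] at h'
        calc ψ a * ψ b = x⁻¹ * (x * ψ a * x⁻¹ * (x * ψ b * x⁻¹)) * x := by group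
          _ = ψ b * ψ a := by rw [h']; group
    · refine h2 ((K.eq_one_iff (mS_lt hj hj)).1 ?_)
      rw [K.mul j hj j hj, ej, show x * ψ g * x⁻¹ * (x * ψ g * x⁻¹) = x * (ψ g * ψ g) * x⁻¹ by group,
        ← K.mul g hgl g hgl, hg2, K.one]
      group
  obtain ⟨i, hi, rfl⟩ := (K.mem_sub hqok).1 hv
  have hw := qL_gen
  simp only [List.all_eq_true, List.any_eq_true, List.mem_range, beq_iff_eq] at hw
  obtain ⟨n, -, e, he, rfl⟩ := hw i hi
  set f : X →* X := (MulAut.conj x).toMonoidHom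
  have hp : ∀ {u : ℕ} {b : Bool}, u ∈ [1, 10, 16, 32] → (bif b then u else 0) < 64 ∧
      f (ψ (bif b then u else 0)) ∈ K.sub qL := by
    intro u b hu
    cases b
    · exact ⟨by norm_num, by rw [cond_false, K.one, map_one]; exact one_mem _⟩
    · exact ⟨by rw [cond_true]; fin_cases hu <;> norm_num, hgen u hu⟩
  obtain ⟨l0, m0⟩ := hp (u := 1) (b := n.testBit 0) (by simp)
  obtain ⟨l1, m1⟩ := hp (u := 10) (b := n.testBit 1) (by simp)
  obtain ⟨l2, m2⟩ := hp (u := 16) (b := n.testBit 2) (by simp)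
  obtain ⟨l3, m3⟩ := hp (u := 32) (b := n.testBit 3) (by simp)
  have le5 : 5 * e < 64 := by omega
  show f _ ∈ K.sub qL
  rw [K.mul _ (mS_lt (mS_lt (mS_lt l0 l1) l2) l3) _ le5, K.mul _ (mS_lt (mS_lt l0 l1) l2) _ l3,
    K.mul _ (mS_lt l0 l1) _ l2, K.mul _ l0 _ l1, map_mul, map_mul, map_mul, map_mul]
  refine mul_mem (mul_mem (mul_mem (mul_mem m0 m1) m2) m3) ?_
  have he2 : e = 0 ∨ e = 1 := by omega
  rcases he2 with rfl | rfl
  · rw [show 5 * 0 = 0 from rfl, K.one, map_one]; exact one_mem _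
  · show x * ψ iZ * x⁻¹ ∈ _
    rw [L.cent x, mul_inv_cancel_right]
    exact (K.mem_sub hqok).2 ⟨iZ, by decide +kernel, rfl⟩

end CfsgLib.A8Syl.Loc
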