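import Cfsg.Agent.Lib.A8Syl.Base
import Mathlib

/-!
The normal subgroups of the Sylow subgroup.
-/

set_option autoImplicit false

namespace CfsgLib.A8Syl

/-- an element moved by commutators with generators out of a mask, else its square -/
def stepN (m g : ℕ) : ℕ :=
  match ([1, 2, 16, 32] : List ℕ).find? fun s => !m.testBit (cmI g s) with
  | some s => cmI g s
  | none => bif m.testBit (mS g g) then g else mS g g

/-- five steps -/
def stepFive (m g : ℕ) : ℕ := stepN m (stepN m (stepN m (stepN m (stepN m g))))

/-- `m'` is the union of `m` and a coset -/
def joinOK (m m' g : ℕ) : Bool :=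
  (List.range 64).all fun i => m'.testBit i == (m.testBit i || m.testBit (mS g i))

/-- the list of the elements of a mask -/
def bitL (m : ℕ) : List ℕ := (List.range 64).filter fun i => m.testBit i

/-- the normal subgroups of `S` containing the central involution -/
def normL : List ℕ :=
  [33, 51, 33825, 18465, 52275, 3342387, 3422552115, 145277268821025, 79242146645025, 5197435444962281505,
    9516668962587297825, 65535, 3425946675, 869059635, 224519415450675, 56951266397235, 14714104407549594675,
    3732358191183350835, 4294967295, 281470681808895, 18446462598732906495, 14714328930390887475,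
    3732415145875590195, 3732582711467756595, 14714161359684946995, 18446744073709551615]

/-- the centre of a list -/
def zL (H : List ℕ) : List ℕ := H.filter fun i => H.all fun j => mS i j == mS j i

/-- the products of two squares of a list -/
def sqL (H : List ℕ) : List ℕ :=
  let l := (H.map fun j => mS j j).dedup
  (l.flatMap fun a => l.map fun b => mS a b).dedup

/-- a list kills the mask as the largest normal 2-subgroup -/
def killBy (m : ℕ) (L : List ℕ) : Bool :=
  lOK L && L.all (fun i => m.testBit i) &&
    (List.range 64).any fun s => !m.testBit s && L.all (fun i => cmI s i == 0) &&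
      (bitL m).all fun i => L.contains (cmI s i)

/-- the mask of the extraspecial subgroup -/
def qMask : ℕ := 14714328930390887475

theorem normL_join : (normL.all fun m => (List.range 64).all fun g => m.testBit g ||
    (!m.testBit (stepFive m g) && normL.any fun m' => joinOK m m' (stepFive m g))) = true := by
  decide +kernel

/-- a mask closed under the operations -/
def maskOK (m : ℕ) : Bool :=
  m.testBit 0 && (bitL m).all fun i => m.testBit (invI i) && (bitL m).all fun j => m.testBit (mS i j)

theorem normL_mask : (normL.all maskOK) = true := by decide +kernel

theorem lOK_of_mask {m : ℕ} (h : maskOK m = true) : lOK (bitL m) = true := by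
  simp only [maskOK, Bool.and_eq_true, List.all_eq_true] at h
  obtain ⟨h0, h⟩ := h
  simp only [lOK, Bool.and_eq_true, List.all_eq_true, List.contains_iff_mem, Nat.blt_eq]
  have hlt : ∀ i ∈ bitL m, i < 64 := fun i hi => List.mem_range.1 (List.mem_filter.1 hi).1
  exact ⟨List.mem_filter.2 ⟨by decide, h0⟩, fun i hi => ⟨⟨hlt i hi,
    List.mem_filter.2 ⟨List.mem_range.2 (invI_spec (hlt i hi)).1, (h i hi).1⟩⟩, fun j hj =>
      List.mem_filter.2 ⟨List.mem_range.2 (mS_lt (hlt i hi) (hlt j hj)), (h i hi).2 j hj⟩⟩⟩

theorem normL_lOK : (normL.all fun m => lOK (bitL m)) = true :=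
  List.all_eq_true.2 fun m hm => lOK_of_mask (List.all_eq_true.1 normL_mask m hm)

theorem qMask_ok : bitL qMask = qL := by decide +kernel

theorem normL_cent : (normL.all fun m => (List.range 64).any (fun j => !m.testBit j &&
        (bitL m).all fun i => mS i j == mS j i) ||
      (List.range 16).all (fun i => m.testBit i) || m == qMask ||
      killBy m [0, iZ] || killBy m (zL (bitL m)) || killBy m (sqL (bitL m))) = true := by
  decide +kernel

theorem normal_z : ((List.range 64).all fun u => u == 0 || u == iZ ||
    (List.range 64).any fun p => cmI u p == iZ ||
      (List.range 64).any fun q => cmI (cmI u p) q == iZ) = true := by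
  decide +kernel

end CfsgLib.A8Syl
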