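import Cfsg.Agent.Lib.A8Syl.BarLift

/-!
Normal forms in the quotient of the centraliser.
-/

set_option autoImplicit false
set_option linter.style.haveILetI false
set_option linter.unusedSectionVars false

namespace CfsgLib.A8Syl.Loc

open CfsgLib.PSpFourRecog (app comp app_lt)

variable {X : Type*} [Group X] [Finite X] {ψ : ℕ → X} {T : Subgroup X} (L : Loc ψ T)
include L

theorem q_le : L.hyp.sub qL ≤ T := L.hyp.sub_le qL_invol.2.2.1

theorem two_mem : ψ 2 ∈ T := L.hyp.mem 2 (by norm_num)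

theorem mem_q_mul {x y : X} {c : ℕ} (hx : L.ActQ x c) (hy : L.ActQ y c) : y⁻¹ * x ∈ L.hyp.sub qL := by
  refine L.mem_q_of_id ⟨by decide, fun n hn => ?_⟩
  have hid : ((List.range 16).all fun n => app cId n == n) = true := by decide +kernel
  simp only [List.all_eq_true, List.mem_range, beq_iff_eq] at hid
  rw [hid n hn]
  have h1 := L.eqz_conj (L.eqz_trans (hx.2 n hn) (L.eqz_symm (hy.2 n hn))) y⁻¹
  rw [show y⁻¹ * (y * ψ (qix n) * y⁻¹) * y⁻¹⁻¹ = ψ (qix n) by group,
    show y⁻¹ * (x * ψ (qix n) * x⁻¹) * y⁻¹⁻¹ = y⁻¹ * x * ψ (qix n) * (y⁻¹ * x)⁻¹ by group] at h1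
  exact h1

theorem actQ_exact {x : X} {f : ℕ → ℕ} {c : ℕ} (hf : liftOK f c = true) (hc : c < 65536) (hx : L.Exact x f) :
    L.ActQ x c := by
  simp only [liftOK, Bool.and_eq_true, List.all_eq_true, beq_iff_eq, List.mem_range, Bool.or_eq_true] at hf
  refine ⟨hc, fun n hn => ?_⟩
  rw [hx _ (qix_lt hn).2]
  rcases hf.1.2 n hn with e | e
  · exact .inl (by rw [e])
  · exact .inr (by rw [e, L.hyp.mul _ (qix_lt (app_lt _ _)).1 iZ (by decide)])

theorem actQ_tau {y : X} (hy : ∀ i < 64, y * ψ i * y⁻¹ = ψ (tauI i)) : L.ActQ y cTau :=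
  L.actQ_exact tau_ok (by decide) fun i hi => hy i (L.hyp.lt_of_lOK qL_invol.2.2.1 hi)

theorem of_code {x y : X} {c : ℕ} (hx : L.ActQ x c) (hy : L.ActQ y c) {u : X} (hu : u ∈ T) :
    (y * u)⁻¹ * (x * u) ∈ T := by
  rw [show (y * u)⁻¹ * (x * u) = u⁻¹ * (y⁻¹ * x) * u by group]
  exact mul_mem (mul_mem (inv_mem hu) (L.q_le (L.mem_q_mul hx hy))) hu

theorem form_none (hc : ¬ L.Has cChi) (ht : ¬ L.Has cTau) (x : X) : x ∈ T := by
  obtain ⟨c, -, hx⟩ := L.exists_code x
  have h1 := L.code_no_chi hc hx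
  have h2 := L.code_no_tau ht hx
  have hboth : ([cId, cSig, cTau, comp cTau cTau, comp cTau cSig, comp (comp cTau cTau) cSig].all fun c =>
      cId == c || c == cSig ||
        !([cId, cSig, cChi, comp cChi cChi, comp cChi cSig, comp (comp cChi cChi) cSig] : List ℕ).contains c) = true := by
    decide +kernel
  simp only [List.all_eq_true, Bool.or_eq_true, beq_iff_eq, Bool.not_eq_true'] at hboth
  rcases hboth c h1 with (e | e) | e
  · have := L.mem_q_mul hx (e ▸ L.actQ_one)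
    rw [inv_one, one_mul] at this
    exact L.q_le this
  · subst e
    have := mul_mem L.two_mem (L.q_le (L.mem_q_mul hx L.actQ_sig))
    rwa [mul_inv_cancel_left] at this
  · rw [List.contains_iff_mem.2 h2] at e
    cases e

theorem form_tau (hc : ¬ L.Has cChi) {y : X} (hy : ∀ i < 64, y * ψ i * y⁻¹ = ψ (tauI i)) (x : X) :
    ∃ j < 3, (y ^ j)⁻¹ * x ∈ T := by
  obtain ⟨c, -, hx⟩ := L.exists_code x
  have hyc := L.actQ_tau hy
  have h1 := L.code_no_chi hc hx
  simp only [List.mem_cons, List.not_mem_nil, or_false] at h1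
  have key : ∀ {v : X}, L.ActQ v c → ∀ j, j < 3 → (y ^ j)⁻¹ * v ∈ T → ∃ j < 3, (y ^ j)⁻¹ * x ∈ T :=
    fun {v} hv j hj hvT => ⟨j, hj, by
      rw [show (y ^ j)⁻¹ * x = (y ^ j)⁻¹ * v * (v⁻¹ * x) by group]
      exact mul_mem hvT (L.q_le (L.mem_q_mul hx hv))⟩
  rcases h1 with rfl | rfl | rfl | rfl | rfl | rfl
  · exact key L.actQ_one 0 (by norm_num) (by simp)
  · exact key L.actQ_sig 0 (by norm_num) (by simpa using L.two_mem)
  · exact key hyc 1 (by norm_num) (by simp)
  · exact key (L.actQ_mul hyc hyc) 2 (by norm_num) (by simp [pow_two, mul_assoc])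
  · exact key (L.actQ_mul hyc L.actQ_sig) 1 (by norm_num) (by simpa using L.two_mem)
  · exact key (L.actQ_mul (L.actQ_mul hyc hyc) L.actQ_sig) 2 (by norm_num)
      (by simpa [pow_two, mul_assoc] using L.two_mem)

theorem form_chi (ht : ¬ L.Has cTau) {a : X} (ha : L.Exact a chiI) (x : X) :
    ∃ i < 3, (a ^ i)⁻¹ * x ∈ T := by
  obtain ⟨c, -, hx⟩ := L.exists_code x
  have hyc := L.actQ_exact chi_ok (by decide) ha
  have h1 := L.code_no_tau ht hx
  simp only [List.mem_cons, List.not_mem_nil, or_false] at h1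
  have key : ∀ {v : X}, L.ActQ v c → ∀ j, j < 3 → (a ^ j)⁻¹ * v ∈ T → ∃ j < 3, (a ^ j)⁻¹ * x ∈ T :=
    fun {v} hv j hj hvT => ⟨j, hj, by
      rw [show (a ^ j)⁻¹ * x = (a ^ j)⁻¹ * v * (v⁻¹ * x) by group]
      exact mul_mem hvT (L.q_le (L.mem_q_mul hx hv))⟩
  rcases h1 with rfl | rfl | rfl | rfl | rfl | rfl
  · exact key L.actQ_one 0 (by norm_num) (by simp)
  · exact key L.actQ_sig 0 (by norm_num) (by simpa using L.two_mem)
  · exact key hyc 1 (by norm_num) (by simp)
  · exact key (L.actQ_mul hyc hyc) 2 (by norm_num) (by simp [pow_two, mul_assoc])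
  · exact key (L.actQ_mul hyc L.actQ_sig) 1 (by norm_num) (by simpa using L.two_mem)
  · exact key (L.actQ_mul (L.actQ_mul hyc hyc) L.actQ_sig) 2 (by norm_num)
      (by simpa [pow_two, mul_assoc] using L.two_mem)

/-- the products of powers of the two codes and the outer one -/
noncomputable def _root_.CfsgLib.A8Syl.codeIJK (i j k : ℕ) : ℕ :=
  let p (c n : ℕ) : ℕ := bif n == 0 then cId else bif n == 1 then c else comp c c
  comp (comp (p cChi i) (p cTau j)) (bif k == 0 then cId else cSig)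

theorem form_both {a y : X} (ha : L.Exact a chiI) (hy : ∀ i < 64, y * ψ i * y⁻¹ = ψ (tauI i)) (x : X) :
    ∃ i < 3, ∃ j < 3, (a ^ i * y ^ j)⁻¹ * x ∈ T := by
  obtain ⟨c, hc, hx⟩ := L.exists_code x
  have hall : (codesL.all fun c => (List.range 3).any fun i => (List.range 3).any fun j => (List.range 2).any fun k =>
      codeIJK i j k == c) = true := by decide +kernel
  simp only [List.all_eq_true, List.any_eq_true, List.mem_range, beq_iff_eq] at hall
  obtain ⟨i, hi, j, hj, k, hk, rfl⟩ := hall c hc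
  refine ⟨i, hi, j, hj, ?_⟩
  have hac := L.actQ_exact chi_ok (by decide) ha
  have hyc := L.actQ_tau hy
  have hp : ∀ {v : X} {c : ℕ}, L.ActQ v c → ∀ n < 3,
      L.ActQ (v ^ n) (bif n == 0 then cId else bif n == 1 then c else comp c c) := by
    intro v c hv n hn
    interval_cases n
    · rw [pow_zero]; exact L.actQ_one
    · rw [pow_one]; exact hv
    · rw [pow_two]; exact L.actQ_mul hv hv
  have hpk : L.ActQ ((ψ 2) ^ k) (bif k == 0 then cId else cSig) := by
    interval_cases k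
    · rw [pow_zero]; exact L.actQ_one
    · rw [pow_one]; exact L.actQ_sig
  have hv : L.ActQ (a ^ i * y ^ j * (ψ 2) ^ k) (codeIJK i j k) :=
    L.actQ_mul (L.actQ_mul (hp hac i hi) (hp hyc j hj)) hpk
  rw [show (a ^ i * y ^ j)⁻¹ * x = (ψ 2) ^ k * ((a ^ i * y ^ j * (ψ 2) ^ k)⁻¹ * x) by group]
  exact mul_mem (pow_mem L.two_mem k) (L.q_le (L.mem_q_mul hx hv))

theorem pow_three_mem {a : X} (ha3 : a ^ 3 = 1) (h : a ∈ T) : a = 1 := by
  refine L.zpowers_eq_one (fun hd => ?_) h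
  have := hd.trans (orderOf_dvd_of_pow_eq_one ha3)
  omega

/-- No nontrivial power of an inverted element of order three normalises the Sylow subgroup. -/
theorem chi_not_norm {a : X} (ha3 : a ^ 3 = 1) (hinv : ψ 2 * a * ψ 2 = a⁻¹) {i : ℕ}
    (h : ∀ t ∈ T, a ^ i * t * (a ^ i)⁻¹ ∈ T) : a ^ i = 1 := by
  have hai : ψ 2 * (a ^ i)⁻¹ * (ψ 2)⁻¹ = a ^ i := by
    rw [← inv_pow, ← conj_pow, show ψ 2 * a⁻¹ * (ψ 2)⁻¹ = (ψ 2 * a * ψ 2)⁻¹ by
      rw [inv_eq_of_mul_eq_one_right L.two_two, mul_inv_rev, mul_inv_rev, inv_eq_of_mul_eq_one_right L.two_two,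
        mul_assoc], hinv, inv_inv]
  have h2 : a ^ i * a ^ i ∈ T := by
    have := mul_mem (h _ L.two_mem) (inv_mem L.two_mem)
    rwa [mul_assoc, mul_assoc, ← mul_assoc (ψ 2), hai] at this
  have h4 := mul_mem h2 h2
  have e : a ^ i * a ^ i * (a ^ i * a ^ i) = a ^ i := by
    rw [← pow_add, ← pow_add, show i + i + (i + i) = 3 * i + i by ring, pow_add, pow_mul, ha3, one_pow, one_mul]
  rw [e] at h4
  exact L.pow_three_mem (by rw [← pow_mul, mul_comm, pow_mul, ha3, one_pow]) h4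

end CfsgLib.A8Syl.Loc
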