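import Cfsg.Agent.Lib.A8Syl.ActData
import Cfsg.Agent.Lib.A8Syl.BarCheck
import Mathlib

/-!
Exact automorphisms of order three of the extraspecial subgroup and of the Sylow subgroup.
-/

set_option autoImplicit false
set_option linter.style.longLine false

namespace CfsgLib.A8Syl

open CfsgLib.PSpFourRecog (app comp)

/-- an automorphism of order three of the extraspecial subgroup -/
def chiI (i : ℕ) : ℕ :=
  (([0, 16, 21, 5, 32, 48, 53, 37, 17, 1, 4, 20, 52, 36, 33, 49, 42, 63, 58, 47, 10, 31, 26, 15, 62, 43, 46, 59, 27, 14, 11, 30] : List ℕ)).getD (qL.idxOf i) 0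

/-- an automorphism of order three of the Sylow subgroup -/
def tauI (i : ℕ) : ℕ :=
  ([0, 10, 2, 8, 15, 5, 13, 7, 12, 6, 14, 4, 3, 9, 1, 11, 32, 42, 34, 40, 47, 37, 45, 39, 44, 38, 46, 36, 35, 41, 33, 43, 53, 63, 55, 61, 58, 48, 56, 50, 57, 51, 59, 49, 54, 60, 52, 62, 21, 31, 23, 29, 26, 16, 24, 18, 25, 19, 27, 17, 22, 28, 20, 30] : List ℕ).getD i 0

/-- inner automorphisms adjust the lifts freely -/
def adjOK (f : ℕ → ℕ) : Bool :=
  (List.range 16).all fun e => qL.any fun q => (List.range 4).all fun k =>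
    cjI q (f (([1, 10, 16, 32] : List ℕ).getD k 0)) ==
      bif e.testBit k then mS (f (([1, 10, 16, 32] : List ℕ).getD k 0)) iZ else f (([1, 10, 16, 32] : List ℕ).getD k 0)

/-- the facts used of an automorphism of the extraspecial subgroup -/
noncomputable def liftOK (f : ℕ → ℕ) (c : ℕ) : Bool :=
  qL.all (fun i => qL.contains (f i) && (f (f (f i)) == i) && qL.all fun j => f (mS i j) == mS (f i) (f j)) &&
    (List.range 16).all (fun n => f (qix n) == qix (app c n) || f (qix n) == mS (qix (app c n)) iZ) && adjOK f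

theorem chi_ok : liftOK chiI cChi = true := by decide +kernel

theorem tau_ok : liftOK tauI cTau = true := by decide +kernel

theorem rel_ok : (qL.all fun i => cjI 2 (chiI (cjI 2 (chiI i))) == i && chiI (tauI i) == tauI (chiI i) &&
    cjI 2 (tauI (cjI 2 i)) == tauI i) = true ∧
    ((List.range 64).all fun i => Nat.blt (tauI i) 64 && (List.range 64).all fun j => tauI (mS i j) == mS (tauI i) (tauI j)) = true ∧
    tauI 2 = 2 ∧ (qL.all fun i => i == 0 || i == iZ || qL.any fun j => mS i j != mS j i) = true := by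
  decide +kernel

end CfsgLib.A8Syl
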