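import Cfsg.Agent.Lib.A8Syl.BarAct
import Cfsg.Agent.Lib.A8Syl.LiftData

/-!
Exact elements of order three in the quotient of the centraliser.
-/

set_option autoImplicit false
set_option linter.style.haveILetI false
set_option linter.unusedSectionVars false

namespace CfsgLib.A8Syl

open CfsgLib.PSpFourRecog (app comp)

namespace Loc

variable {X : Type*} [Group X] [Finite X] {ψ : ℕ → X} {T : Subgroup X} (L : Loc ψ T)
include L

/-- acts exactly as `f` on the extraspecial subgroup -/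
def Exact (_ : Loc ψ T) (x : X) (f : ℕ → ℕ) : Prop := ∀ i ∈ qL, x * ψ i * x⁻¹ = ψ (f i)

theorem exact_mul {x y : X} {f g : ℕ → ℕ} (hx : L.Exact x f) (hy : L.Exact y g) (hg : ∀ i ∈ qL, g i ∈ qL) :
    L.Exact (x * y) (f ∘ g) := fun i hi => by
  rw [show x * y * ψ i * (x * y)⁻¹ = x * (y * ψ i * y⁻¹) * x⁻¹ by group, hy i hi, hx _ (hg i hi)]
  rfl

theorem central_of_exact {w : X} (h : L.Exact w id) : w = 1 ∨ w = ψ iZ := by
  have K := L.hyp
  obtain ⟨-, -, hqok, -⟩ := qL_invol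
  have hw : w ∈ K.sub qL := by
    refine L.mem_q_of_id ⟨by decide, fun n hn => .inl ?_⟩
    have hidn : ((List.range 16).all fun n => app cId n == n) = true := by decide +kernel
    simp only [List.all_eq_true, List.mem_range, beq_iff_eq] at hidn
    rw [hidn n hn]
    exact h _ (qix_lt hn).2
  obtain ⟨i, hi, rfl⟩ := (K.mem_sub hqok).1 hw
  have hc := rel_ok.2.2.2
  simp only [List.all_eq_true, List.any_eq_true, Bool.or_eq_true, beq_iff_eq, bne_iff_ne] at hc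
  rcases hc i hi with (rfl | rfl) | ⟨j, hj, hne⟩
  · exact .inl K.one
  · exact .inr rfl
  · exact absurd ((K.comm_iff (K.lt_of_lOK hqok hi) (K.lt_of_lOK hqok hj)).1
      (mul_inv_eq_iff_eq_mul.1 (h j hj))) hne

theorem exists_exact {f : ℕ → ℕ} {c : ℕ} (hf : liftOK f c = true) (h : L.Has c) : ∃ x, L.Exact x f := by
  have K := L.hyp
  obtain ⟨x, -, hx⟩ := h
  obtain ⟨-, -, hqok, -⟩ := qL_invol
  simp only [liftOK, adjOK, Bool.and_eq_true, List.all_eq_true, List.mem_range, List.any_eq_true, beq_iff_eq,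
    Bool.or_eq_true, List.contains_iff_mem] at hf
  obtain ⟨⟨hf1, hf2⟩, hf3⟩ := hf
  set gen : ℕ → ℕ := fun k => ([1, 10, 16, 32] : List ℕ).getD k 0 with hgen
  have hgq : ∀ k < 4, qix (2 ^ k) = gen k ∧ gen k ∈ qL ∧ 2 ^ k < 16 := by
    intro k hk
    interval_cases k <;> exact ⟨by decide +kernel, by decide +kernel, by norm_num⟩
  have hfl : ∀ i ∈ qL, f i < 64 := fun i hi => K.lt_of_lOK hqok (hf1 i hi).1.1
  have hor : ∀ k < 4, x * ψ (gen k) * x⁻¹ = ψ (f (gen k)) ∨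
      x * ψ (gen k) * x⁻¹ = ψ (f (gen k)) * ψ iZ := by
    intro k hk
    obtain ⟨e, hk', h16⟩ := hgq k hk
    rw [← e]
    refine L.eqz_trans (hx _ h16) (L.eqz_symm ?_)
    rcases hf2 _ h16 with e' | e'
    · exact .inl (by rw [e'])
    · exact .inr (by rw [e', K.mul _ (qix_lt (PSpFourRecog.app_lt _ _)).1 iZ (by decide)])
  classical
  set bit : ℕ → Bool := fun k => decide (x * ψ (gen k) * x⁻¹ ≠ ψ (f (gen k))) with hbit
  obtain ⟨e, he, hbe⟩ : ∃ e < 16, ∀ k < 4, e.testBit k = bit k := by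
    have h : ∀ a b c d : Bool, ∃ e < 16, e.testBit 0 = a ∧ e.testBit 1 = b ∧ e.testBit 2 = c ∧
        e.testBit 3 = d := by decide
    obtain ⟨e, he, e0, e1, e2, e3⟩ := h (bit 0) (bit 1) (bit 2) (bit 3)
    refine ⟨e, he, fun k hk => ?_⟩
    interval_cases k <;> assumption
  obtain ⟨q, hq, hqk⟩ := hf3 e he
  have hql := K.lt_of_lOK hqok hq
  refine ⟨ψ q * x, ?_⟩
  set y := ψ q * x with hy
  have hgenx : ∀ k < 4, y * ψ (gen k) * y⁻¹ = ψ (f (gen k)) := by
    intro k hk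
    obtain ⟨-, hk', -⟩ := hgq k hk
    have hl := hfl _ hk'
    rw [hy, show ψ q * x * ψ (gen k) * (ψ q * x)⁻¹ = ψ q * (x * ψ (gen k) * x⁻¹) * (ψ q)⁻¹ by group]
    have hqk' := hqk k hk
    rw [hbe k hk] at hqk'
    by_cases hb : x * ψ (gen k) * x⁻¹ = ψ (f (gen k))
    · rw [show bit k = false from decide_eq_false (not_not.2 hb), cond_false] at hqk'
      rw [hb, ← K.conj_eq hql hl]
      exact congrArg ψ hqk'
    · rw [show bit k = true from decide_eq_true hb, cond_true] at hqk'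
      rw [(hor k hk).resolve_left hb,
        show ψ q * (ψ (f (gen k)) * ψ iZ) * (ψ q)⁻¹ = ψ q * ψ (f (gen k)) * (ψ iZ * (ψ q)⁻¹) by group,
        ← L.cent (ψ q)⁻¹, ← mul_assoc, ← K.conj_eq hql hl, show cjI q (f (gen k)) = _ from hqk',
        K.mul _ hl iZ (by decide), mul_assoc, L.z_mul_self, mul_one]
  -- the set of indices with exact action is closed
  have hcl : ∀ {i j : ℕ}, i ∈ qL → j ∈ qL → y * ψ i * y⁻¹ = ψ (f i) → y * ψ j * y⁻¹ = ψ (f j) →
      mS i j ∈ qL ∧ y * ψ (mS i j) * y⁻¹ = ψ (f (mS i j)) := by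
    intro i j hi hj ei ej
    refine ⟨?_, ?_⟩
    · have h := hqok
      simp only [lOK, Bool.and_eq_true, List.all_eq_true, List.contains_iff_mem] at h
      exact (h.2 i hi).2 j hj
    · rw [(hf1 i hi).2 j hj, K.mul _ (hfl i hi) _ (hfl j hj), ← ei, ← ej,
        K.mul i (K.lt_of_lOK hqok hi) j (K.lt_of_lOK hqok hj)]
      group
  have h0 : (0 : ℕ) ∈ qL := by decide +kernel
  have hf0 : f 0 = 0 := by
    have h := (hf1 0 h0).2 0 h0
    rw [show mS 0 0 = 0 by decide +kernel] at h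
    refine (K.eq_one_iff (hfl 0 h0)).1 ?_
    have h' := congrArg ψ h
    rw [K.mul _ (hfl 0 h0) _ (hfl 0 h0)] at h'
    simpa using h'
  have hbase : ∀ k < 4, ∀ b : Bool, (bif b then gen k else 0) ∈ qL ∧
      y * ψ (bif b then gen k else 0) * y⁻¹ = ψ (f (bif b then gen k else 0)) := by
    intro k hk b
    cases b
    · exact ⟨h0, by rw [cond_false, hf0, K.one]; group⟩
    · exact ⟨(hgq k hk).2.1, hgenx k hk⟩
  have hz : iZ ∈ qL ∧ y * ψ iZ * y⁻¹ = ψ (f iZ) := by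
    obtain ⟨a, ea⟩ := hbase 0 (by norm_num) true
    obtain ⟨b, eb⟩ := hbase 3 (by norm_num) true
    obtain ⟨m1, n1⟩ := hcl b a eb ea
    obtain ⟨m2, n2⟩ := hcl m1 b n1 eb
    obtain ⟨m3, n3⟩ := hcl m2 a n2 ea
    simp only [cond_true] at m3 n3
    rw [show mS (mS (mS (gen 3) (gen 0)) (gen 3)) (gen 0) = iZ by simp only [hgen]; decide +kernel] at m3 n3
    exact ⟨m3, n3⟩
  intro i hi
  have hw := qL_gen
  simp only [List.all_eq_true, List.any_eq_true, List.mem_range, beq_iff_eq] at hw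
  obtain ⟨n, -, e, he, rfl⟩ := hw i hi
  obtain ⟨a0, e0⟩ := hbase 0 (by norm_num) (n.testBit 0)
  obtain ⟨a1, e1⟩ := hbase 1 (by norm_num) (n.testBit 1)
  obtain ⟨a2, e2⟩ := hbase 2 (by norm_num) (n.testBit 2)
  obtain ⟨a3, e3⟩ := hbase 3 (by norm_num) (n.testBit 3)
  obtain ⟨m1, n1⟩ := hcl a0 a1 e0 e1
  obtain ⟨m2, n2⟩ := hcl m1 a2 n1 e2
  obtain ⟨m3, n3⟩ := hcl m2 a3 n2 e3
  rcases (show e = 0 ∨ e = 1 by omega) with rfl | rfl
  · exact (hcl m3 h0 n3 (by rw [hf0, K.one]; group)).2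
  · exact (hcl m3 hz.1 n3 hz.2).2

theorem exists_three {f : ℕ → ℕ} {c : ℕ} (hf : liftOK f c = true) (h : L.Has c) :
    ∃ x, x ^ 3 = 1 ∧ L.Exact x f := by
  obtain ⟨x, hx⟩ := L.exists_exact hf h
  simp only [liftOK, Bool.and_eq_true, List.all_eq_true, beq_iff_eq, List.contains_iff_mem] at hf
  have hf1 := hf.1.1
  have h3 : L.Exact (x * x * x) id := fun i hi => by
    rw [L.exact_mul (L.exact_mul hx hx fun j hj => (hf1 j hj).1.1) hx (fun j hj => (hf1 j hj).1.1) i hi]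
    exact congrArg ψ (hf1 i hi).1.2
  rcases L.central_of_exact h3 with e | e
  · exact ⟨x, by rw [pow_succ, pow_two, e], hx⟩
  · refine ⟨x * ψ iZ, ?_, fun i hi => ?_⟩
    · rw [(show Commute x (ψ iZ) from L.cent x).mul_pow, pow_succ x, pow_two x, e, pow_succ (ψ iZ),
        pow_two (ψ iZ), L.z_mul_self, one_mul, L.z_mul_self]
    · rw [show x * ψ iZ * ψ i * (x * ψ iZ)⁻¹ = x * (ψ iZ * ψ i) * (ψ iZ)⁻¹ * x⁻¹ by group,
        ← L.cent (ψ i), show x * (ψ i * ψ iZ) * (ψ iZ)⁻¹ * x⁻¹ = x * ψ i * x⁻¹ by group]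
      exact hx i hi

theorem two_two : ψ 2 * ψ 2 = 1 := by
  rw [← L.hyp.mul 2 (by norm_num) 2 (by norm_num), show mS 2 2 = 0 by decide +kernel, L.hyp.one]

theorem cjI_two_mem : ∀ i ∈ qL, cjI 2 i ∈ qL := by
  have h : (qL.all fun i => qL.contains (cjI 2 i)) = true := by decide +kernel
  simp only [List.all_eq_true, List.contains_iff_mem] at h
  exact h

theorem exact_two : L.Exact (ψ 2) (cjI 2) := fun i hi =>
  (L.hyp.conj_eq (by norm_num) (L.hyp.lt_of_lOK qL_invol.2.2.1 hi)).symm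

theorem exists_chi (h : L.Has cChi) :
    ∃ x, x ^ 3 = 1 ∧ L.Exact x chiI ∧ ψ 2 * x * ψ 2 = x⁻¹ := by
  obtain ⟨x, hx3, hx⟩ := L.exists_three chi_ok h
  refine ⟨x, hx3, hx, ?_⟩
  have hf := chi_ok
  simp only [liftOK, Bool.and_eq_true, List.all_eq_true, beq_iff_eq, List.contains_iff_mem] at hf
  have hm := fun j hj => (hf.1.1 j hj).1.1
  set w := ψ 2 * x * ψ 2 * x
  have hw : L.Exact w id := fun i hi => by
    rw [L.exact_mul (L.exact_mul (L.exact_mul L.exact_two hx hm) L.exact_two L.cjI_two_mem) hx hm i hi]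
    have hr := rel_ok.1
    simp only [List.all_eq_true, Bool.and_eq_true, beq_iff_eq] at hr
    exact congrArg ψ (hr i hi).1.1
  rcases L.central_of_exact hw with e | e
  · exact eq_inv_of_mul_eq_one_left e
  · exfalso
    have h1 : ψ 2 * x * ψ 2 = ψ iZ * x⁻¹ := eq_mul_inv_of_mul_eq e
    have h2 : (ψ 2 * x * ψ 2) ^ 3 = 1 := by
      rw [show ψ 2 * x * ψ 2 = ψ 2 * x * (ψ 2)⁻¹ by rw [inv_eq_of_mul_eq_one_right L.two_two], conj_pow, hx3]
      group
    rw [h1, (show Commute (ψ iZ) x⁻¹ from (L.cent x⁻¹).symm).mul_pow, inv_pow, hx3, inv_one, mul_one,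
      pow_succ, pow_two, L.z_mul_self, one_mul] at h2
    have h4 := L.hyp.t_order
    rw [h2, orderOf_one] at h4
    omega

theorem exists_tau (h : L.Has cTau) :
    ∃ x, x ^ 3 = 1 ∧ (∀ i < 64, x * ψ i * x⁻¹ = ψ (tauI i)) := by
  obtain ⟨x, hx3, hx⟩ := L.exists_three tau_ok h
  refine ⟨x, hx3, ?_⟩
  have K := L.hyp
  have hf := tau_ok
  simp only [liftOK, Bool.and_eq_true, List.all_eq_true, beq_iff_eq, List.contains_iff_mem] at hf
  have hm := fun j hj => (hf.1.1 j hj).1.1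
  have hm2 : ∀ i ∈ qL, tauI (tauI i) ∈ qL := fun i hi => hm _ (hm i hi)
  have hxi : L.Exact x⁻¹ (tauI ∘ tauI) := by
    rw [show x⁻¹ = x * x from inv_eq_of_mul_eq_one_right (by rw [← mul_assoc, ← pow_two, ← pow_succ, hx3])]
    exact L.exact_mul hx hx hm
  set w := x * ψ 2 * x⁻¹ * ψ 2
  have hw : L.Exact w id := fun i hi => by
    rw [L.exact_mul (L.exact_mul (L.exact_mul hx L.exact_two L.cjI_two_mem) hxi hm2) L.exact_two
      L.cjI_two_mem i hi]
    refine congrArg ψ ?_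
    show tauI (cjI 2 (tauI (tauI (cjI 2 i)))) = i
    have hr := rel_ok.1
    simp only [List.all_eq_true, Bool.and_eq_true, beq_iff_eq] at hr
    have h1 := (hr _ (hm _ (L.cjI_two_mem i hi))).2
    have h2 := (hr _ (hm _ (hm _ (L.cjI_two_mem i hi)))).2
    have h3 : (qL.all fun i => tauI (cjI 2 (tauI (tauI (cjI 2 i)))) == i) = true := by decide +kernel
    simp only [List.all_eq_true, beq_iff_eq] at h3
    exact h3 i hi
  have h2 : x * ψ 2 * x⁻¹ = ψ 2 := by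
    rcases L.central_of_exact hw with e | e
    · calc x * ψ 2 * x⁻¹ = x * ψ 2 * x⁻¹ * (ψ 2 * ψ 2) := by rw [L.two_two, mul_one]
        _ = w * ψ 2 := by rw [← mul_assoc]
        _ = ψ 2 := by rw [e, one_mul]
    · exfalso
      have h1 : x * ψ 2 * x⁻¹ = ψ iZ * ψ 2 := by
        calc x * ψ 2 * x⁻¹ = x * ψ 2 * x⁻¹ * (ψ 2 * ψ 2) := by rw [L.two_two, mul_one]
          _ = w * ψ 2 := by rw [← mul_assoc]
          _ = ψ iZ * ψ 2 := by rw [e]
      have hc : ψ iZ * ψ iZ * ψ iZ * ψ 2 = ψ 2 := by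
        calc ψ iZ * ψ iZ * ψ iZ * ψ 2 = ψ iZ * (ψ iZ * (x * ψ 2 * x⁻¹)) := by rw [h1]; simp only [mul_assoc]
          _ = ψ iZ * (x * (ψ iZ * ψ 2) * x⁻¹) := by
            rw [show ψ iZ * (x * ψ 2 * x⁻¹) = ψ iZ * x * ψ 2 * x⁻¹ by group, ← L.cent x]; group
          _ = x * (x * (ψ iZ * ψ 2) * x⁻¹) * x⁻¹ := by
            conv_lhs => rw [show ψ iZ * (x * (ψ iZ * ψ 2) * x⁻¹) = ψ iZ * x * (ψ iZ * ψ 2) * x⁻¹ by group, ← L.cent x]
            rw [show x * (ψ iZ * ψ 2) * x⁻¹ = ψ iZ * (x * ψ 2 * x⁻¹) by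
              rw [← mul_assoc x, L.cent x]; group, h1]
            group
          _ = x ^ 3 * ψ 2 * (x ^ 3)⁻¹ := by rw [← h1, pow_succ, pow_two]; group
          _ = ψ 2 := by rw [hx3]; group
      rw [L.z_mul_self, one_mul, mul_eq_right] at hc
      have h4 := L.hyp.t_order
      rw [hc, orderOf_one] at h4
      omega
  intro i hi
  obtain ⟨hhom, h22, -⟩ := rel_ok.2
  simp only [List.all_eq_true, List.mem_range, Bool.and_eq_true, Nat.blt_eq, beq_iff_eq] at hhom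
  have hq := sig_ok.2.2
  simp only [List.all_eq_true, List.mem_range, Bool.or_eq_true, List.contains_iff_mem] at hq
  rcases hq i hi with e | e
  · exact hx i e
  · have hl : mS 2 i < 64 := mS_lt (by norm_num) hi
    have e' : ψ i = ψ 2 * ψ (mS 2 i) := by
      rw [K.mul 2 (by norm_num) i hi, ← mul_assoc, L.two_two, one_mul]
    have hback : mS 2 (mS 2 i) = i := by
      refine K.inj _ (mS_lt (by norm_num) hl) i hi ?_
      rw [K.mul 2 (by norm_num) _ hl, ← e']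
    calc x * ψ i * x⁻¹ = x * ψ 2 * x⁻¹ * (x * ψ (mS 2 i) * x⁻¹) := by rw [e']; group
      _ = ψ 2 * ψ (tauI (mS 2 i)) := by rw [h2, hx _ e]
      _ = ψ (tauI i) := by
        rw [← K.mul 2 (by norm_num) _ (hhom _ hl).1]
        conv_rhs => rw [← hback, (hhom 2 (by norm_num)).2 _ hl, h22]

theorem chi_tau_comm {x y : X} (hx3 : x ^ 3 = 1) (hx : L.Exact x chiI)
    (hy : ∀ i < 64, y * ψ i * y⁻¹ = ψ (tauI i)) : x * y = y * x := by
  have hf := chi_ok
  simp only [liftOK, Bool.and_eq_true, List.all_eq_true, beq_iff_eq, List.contains_iff_mem] at hf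
  have hm := fun j hj => (hf.1.1 j hj).1.1
  have hq : ∀ i ∈ qL, i < 64 := fun i hi => L.hyp.lt_of_lOK qL_invol.2.2.1 hi
  have hc : ∀ i ∈ qL, x * y * ψ i * (x * y)⁻¹ = y * x * ψ i * (y * x)⁻¹ := by
    intro i hi
    have hr := rel_ok.1
    simp only [List.all_eq_true, Bool.and_eq_true, beq_iff_eq] at hr
    have ht := tau_ok
    simp only [liftOK, Bool.and_eq_true, List.all_eq_true, beq_iff_eq, List.contains_iff_mem] at ht
    rw [show x * y * ψ i * (x * y)⁻¹ = x * (y * ψ i * y⁻¹) * x⁻¹ by group, hy i (hq i hi),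
      hx _ (ht.1.1 i hi).1.1, show y * x * ψ i * (y * x)⁻¹ = y * (x * ψ i * x⁻¹) * y⁻¹ by group, hx i hi,
      hy _ (hq _ (hm i hi)), (hr i hi).1.2]
  have hw : L.Exact ((y * x)⁻¹ * (x * y)) id := fun i hi => by
    rw [show (y * x)⁻¹ * (x * y) * ψ i * ((y * x)⁻¹ * (x * y))⁻¹ =
      (y * x)⁻¹ * (x * y * ψ i * (x * y)⁻¹) * (y * x) by group, hc i hi]
    show _ = ψ i
    group
  rcases L.central_of_exact hw with e | e
  · exact (inv_mul_eq_one.1 e).symm
  · exfalso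
    have h1 : x * y = y * x * ψ iZ := by rw [← e]; group
    have h2 : y⁻¹ * x * y = x * ψ iZ := by rw [mul_assoc, h1]; group
    have h3 : (y⁻¹ * x * y) ^ 3 = 1 := by
      rw [show y⁻¹ * x * y = y⁻¹ * x * y⁻¹⁻¹ by rw [inv_inv], conj_pow, hx3]; group
    rw [h2, (show Commute x (ψ iZ) from L.cent x).mul_pow, hx3, one_mul, pow_succ, pow_two, L.z_mul_self,
      one_mul] at h3
    have h4 := L.hyp.t_order
    rw [h3, orderOf_one] at h4
    omega

end Loc

end CfsgLib.A8Syl
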