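import Cfsg.Agent.Lib.PSpFourRecog.Code
import Cfsg.Agent.Lib.M12Syl.SylIn
import Mathlib

/-!
A table for a Sylow 2-subgroup of the alternating group of degree eight: the index `i` stands for the product
of the element `i % 16` of an elementary abelian group and the element `i / 16` of a complementary four-group.
-/

set_option autoImplicit false
set_option linter.style.haveILetI false
set_option linter.unusedSectionVars false

namespace CfsgLib.A8Syl

open CfsgLib.PSpFourRecog (app app_xor app_lt)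

/-- the action of the complement, four bits for each pair of a complement element and an element -/
def vTab : ℕ := 0xae62bf739d518c40fb73ea62d951c840ab98efdc67542310fedcba9876543210

/-- the inverses, six bits each -/
def invTab : ℕ := 0xebedb2effdf3e7dd71e3cd30beb9e3baa9a2b69961b2892069b65879f75c5975544934503ce34c2ca2481c61440c2040

/-- multiplication -/
def mS (i j : ℕ) : ℕ :=
  Nat.add
    (Nat.xor (Nat.mod i (nat_lit 16)) (Nat.mod (Nat.shiftRight vTab (Nat.mul (nat_lit 4)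
      (Nat.add (Nat.mul (nat_lit 16) (Nat.div i (nat_lit 16))) (Nat.mod j (nat_lit 16))))) (nat_lit 16)))
    (Nat.mul (nat_lit 16) (Nat.xor (Nat.div i (nat_lit 16)) (Nat.div j (nat_lit 16))))

/-- inverse -/
def invI (i : ℕ) : ℕ := Nat.mod (Nat.shiftRight invTab (Nat.mul (nat_lit 6) i)) (nat_lit 64)

/-- conjugation of indices -/
def cjI (p i : ℕ) : ℕ := mS (mS p i) (invI p)

/-- commutator of indices -/
def cmI (a b : ℕ) : ℕ := mS (mS a b) (mS (invI a) (invI b))

theorem tbl_ok : ((List.range 64).all fun i => Nat.blt (invI i) 64 && mS i (invI i) == 0 &&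
    mS (invI i) i == 0 && mS 0 i == i && mS i 0 == i &&
    (List.range 64).all fun j => Nat.blt (mS i j) 64) = true := by decide +kernel

theorem mS_lt {i j : ℕ} (hi : i < 64) (hj : j < 64) : mS i j < 64 := by
  have h := tbl_ok
  simp only [List.all_eq_true, List.mem_range, Bool.and_eq_true, Nat.blt_eq] at h
  exact (h i hi).2 j hj

theorem invI_spec {i : ℕ} (hi : i < 64) : invI i < 64 ∧ mS i (invI i) = 0 ∧ mS (invI i) i = 0 := by
  have h := tbl_ok
  simp only [List.all_eq_true, List.mem_range, Bool.and_eq_true, Nat.blt_eq, beq_iff_eq] at h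
  exact ⟨(h i hi).1.1.1.1.1, (h i hi).1.1.1.1.2, (h i hi).1.1.1.2⟩

theorem mS_zero {i : ℕ} (hi : i < 64) : mS 0 i = i ∧ mS i 0 = i := by
  have h := tbl_ok
  simp only [List.all_eq_true, List.mem_range, Bool.and_eq_true, Nat.blt_eq, beq_iff_eq] at h
  exact ⟨(h i hi).1.1.2, (h i hi).1.2⟩

theorem cjI_lt {p i : ℕ} (hp : p < 64) (hi : i < 64) : cjI p i < 64 :=
  mS_lt (mS_lt hp hi) (invI_spec hp).1

/-- the central involution -/
def iZ : ℕ := 5

/-- the extraspecial subgroup of order 32 -/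
def qL : List ℕ := (List.range 64).filter fun i => [0, 1, 4, 5, 10, 11, 14, 15].contains (i % 16)

/-- `S` is described by `φ` on the indices below 64. -/
structure Hyp {G : Type*} [Group G] (φ : ℕ → G) (S : Subgroup G) : Prop where
  mem : ∀ i < 64, φ i ∈ S
  surj : ∀ x ∈ S, ∃ i < 64, φ i = x
  inj : ∀ i < 64, ∀ j < 64, φ i = φ j → i = j
  mul : ∀ i < 64, ∀ j < 64, φ (mS i j) = φ i * φ j

namespace Hyp

/-- the checks on a list of indices forming a subgroup -/
def _root_.CfsgLib.A8Syl.lOK (l : List ℕ) : Bool :=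
  l.contains 0 && l.all fun i => Nat.blt i 64 && l.contains (invI i) && l.all fun j => l.contains (mS i j)

theorem _root_.CfsgLib.A8Syl.eS_ok : lOK (List.range 16) = true := by decide +kernel

variable {G : Type*} [Group G] {φ : ℕ → G} {S : Subgroup G} (K : Hyp φ S)
include K

theorem one : φ 0 = 1 := by
  have h := K.mul 0 (by norm_num) 0 (by norm_num)
  rw [show mS 0 0 = 0 by decide +kernel] at h
  simpa using h

theorem eq_iff {i j : ℕ} (hi : i < 64) (hj : j < 64) : φ i = φ j ↔ i = j :=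
  ⟨K.inj i hi j hj, fun h => h ▸ rfl⟩

theorem eq_one_iff {i : ℕ} (hi : i < 64) : φ i = 1 ↔ i = 0 := by
  rw [← K.one, K.eq_iff hi (by norm_num)]

theorem comm_iff {i j : ℕ} (hi : i < 64) (hj : j < 64) : φ i * φ j = φ j * φ i ↔ mS i j = mS j i := by
  rw [← K.mul i hi j hj, ← K.mul j hj i hi, K.eq_iff (mS_lt hi hj) (mS_lt hj hi)]

theorem inv_eq {i : ℕ} (hi : i < 64) : φ (invI i) = (φ i)⁻¹ := by
  obtain ⟨h1, h2, -⟩ := invI_spec hi
  refine eq_inv_of_mul_eq_one_right ?_
  rw [← K.mul i hi _ h1, h2, K.one]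

theorem conj_eq {p i : ℕ} (hp : p < 64) (hi : i < 64) : φ (cjI p i) = φ p * φ i * (φ p)⁻¹ := by
  rw [cjI, K.mul _ (mS_lt hp hi) _ (invI_spec hp).1, K.mul p hp i hi, K.inv_eq hp]

theorem cmI_eq {a b : ℕ} (ha : a < 64) (hb : b < 64) :
    φ (cmI a b) = φ a * φ b * (φ a)⁻¹ * (φ b)⁻¹ := by
  rw [cmI, K.mul _ (mS_lt ha hb) _ (mS_lt (invI_spec ha).1 (invI_spec hb).1), K.mul a ha b hb,
    K.mul _ (invI_spec ha).1 _ (invI_spec hb).1, K.inv_eq ha, K.inv_eq hb, ← mul_assoc]

theorem orderOf_two {i : ℕ} (hi : i < 64) (h : mS i i = 0) (h0 : i ≠ 0) : orderOf (φ i) = 2 :=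
  orderOf_eq_prime (by rw [pow_two, ← K.mul i hi i hi, h, K.one]) fun e => h0 ((K.eq_one_iff hi).1 e)

theorem idx_invol {x : G} (hx : orderOf x = 2) (hxS : x ∈ S) :
    ∃ i < 64, φ i = x ∧ mS i i = 0 ∧ i ≠ 0 := by
  obtain ⟨i, hi, rfl⟩ := K.surj x hxS
  refine ⟨i, hi, rfl, (K.eq_one_iff (mS_lt hi hi)).1 ?_, ?_⟩
  · rw [K.mul i hi i hi, ← pow_two, ← hx, pow_orderOf_eq_one]
  · rintro rfl
    rw [K.one, orderOf_one] at hx
    omega

theorem t_order : orderOf (φ iZ) = 2 := K.orderOf_two (by decide) (by decide +kernel) (by decide)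

theorem z_central {x : G} (hx : x ∈ S) : x * φ iZ = φ iZ * x := by
  obtain ⟨i, hi, rfl⟩ := K.surj x hx
  have h : ((List.range 64).all fun i => mS i iZ == mS iZ i) = true := by decide +kernel
  simp only [List.all_eq_true, List.mem_range, beq_iff_eq] at h
  exact (K.comm_iff hi (by decide)).2 (h i hi)

/-- the subgroup given by a list of indices -/
def sub (_ : Hyp φ S) (l : List ℕ) : Subgroup G := Subgroup.closure {x | ∃ i ∈ l, φ i = x}

theorem lt_of_lOK {l : List ℕ} (hl : lOK l = true) {i : ℕ} (hi : i ∈ l) : i < 64 := by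
  simp only [lOK, Bool.and_eq_true, List.all_eq_true, Nat.blt_eq] at hl
  exact (hl.2 i hi).1.1

theorem mem_sub {l : List ℕ} (hl : lOK l = true) {x : G} : x ∈ K.sub l ↔ ∃ i ∈ l, φ i = x := by
  simp only [lOK, Bool.and_eq_true, List.all_eq_true, List.contains_iff_mem, Nat.blt_eq] at hl
  obtain ⟨h0, hl⟩ := hl
  refine ⟨fun h => ?_, fun ⟨i, hi, e⟩ => Subgroup.subset_closure ⟨i, hi, e⟩⟩
  induction h using Subgroup.closure_induction with
  | mem x hx => exact hx
  | one => exact ⟨0, h0, K.one⟩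
  | mul x y _ _ hx hy =>
    obtain ⟨i, hi, rfl⟩ := hx
    obtain ⟨j, hj, rfl⟩ := hy
    exact ⟨_, (hl i hi).2 j hj, K.mul i (hl i hi).1.1 j (hl j hj).1.1⟩
  | inv x _ hx =>
    obtain ⟨i, hi, rfl⟩ := hx
    exact ⟨_, (hl i hi).1.2, K.inv_eq (hl i hi).1.1⟩

theorem sub_le {l : List ℕ} (hl : lOK l = true) : K.sub l ≤ S := by
  intro x hx
  obtain ⟨i, hi, rfl⟩ := (K.mem_sub hl).1 hx
  exact K.mem i (lt_of_lOK K hl hi)

theorem mem_sub_iff {l : List ℕ} (hl : lOK l = true) {i : ℕ} (hi : i < 64) : φ i ∈ K.sub l ↔ i ∈ l :=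
  ⟨fun h => by
    obtain ⟨j, hj, e⟩ := (K.mem_sub hl).1 h
    exact K.inj j (lt_of_lOK K hl hj) i hi e ▸ hj, fun h => (K.mem_sub hl).2 ⟨i, h, rfl⟩⟩

theorem card_sub {l : List ℕ} (hl : lOK l = true) (hd : l.Nodup) : Nat.card (K.sub l) = l.length := by
  rw [← List.toFinset_card_of_nodup hd, ← Nat.card_eq_finsetCard]
  refine (Nat.card_eq_of_bijective
    (fun i => ⟨φ i.1, (K.mem_sub hl).2 ⟨i.1, List.mem_toFinset.1 i.2, rfl⟩⟩) ⟨?_, ?_⟩).symm
  · intro i j h
    exact Subtype.ext (K.inj _ (lt_of_lOK K hl (List.mem_toFinset.1 i.2)) _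
      (lt_of_lOK K hl (List.mem_toFinset.1 j.2)) (Subtype.ext_iff.1 h))
  · rintro ⟨x, hx⟩
    obtain ⟨i, hi, rfl⟩ := (K.mem_sub hl).1 hx
    exact ⟨⟨i, List.mem_toFinset.2 hi⟩, rfl⟩

theorem card_eq : Nat.card S = 64 := by
  refine (Nat.card_eq_of_bijective (fun i : Fin 64 => (⟨φ i, K.mem i i.2⟩ : S)) ⟨fun i j h => ?_, ?_⟩).symm.trans
    (Nat.card_fin 64)
  · exact Fin.ext (K.inj i i.2 j j.2 (congrArg Subtype.val h))
  · rintro ⟨x, hx⟩
    obtain ⟨i, hi, e⟩ := K.surj x hx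
    exact ⟨⟨i, hi⟩, Subtype.ext e⟩

/-- a relabelling by an automorphism of the table -/
theorem twist {s t : ℕ → ℕ} (hs : ∀ i < 64, s i < 64 ∧ t i < 64 ∧ s (t i) = i ∧ t (s i) = i)
    (hm : ∀ i < 64, ∀ j < 64, s (mS i j) = mS (s i) (s j)) : Hyp (φ ∘ s) S := by
  refine ⟨fun i hi => K.mem _ (hs i hi).1, fun x hx => ?_, fun i hi j hj h => ?_, fun i hi j hj => ?_⟩
  · obtain ⟨i, hi, rfl⟩ := K.surj x hx
    exact ⟨t i, (hs i hi).2.1, by rw [Function.comp_apply, (hs i hi).2.2.1]⟩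
  · rw [← (hs i hi).2.2.2, ← (hs j hj).2.2.2, K.inj _ (hs i hi).1 _ (hs j hj).1 h]
  · rw [Function.comp_apply, hm i hi j hj]
    exact K.mul _ (hs i hi).1 _ (hs j hj).1

/-- the elementary abelian subgroup of order 16 -/
def eS (_ : Hyp φ S) : Subgroup G := Subgroup.closure {x | ∃ i ∈ List.range 16, φ i = x}

theorem mem_eS {x : G} : x ∈ K.eS ↔ ∃ i < 16, φ i = x := by
  refine (K.mem_sub eS_ok (x := x)).trans ?_
  simp

theorem eS_mul {i j : ℕ} (hi : i < 16) (hj : j < 16) : φ i * φ j = φ (i ^^^ j) := by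
  have h : ((List.range 16).all fun i => (List.range 16).all fun j => mS i j == i ^^^ j) = true := by
    decide +kernel
  simp only [List.all_eq_true, List.mem_range, beq_iff_eq] at h
  rw [← K.mul i (by omega) j (by omega), h i hi j hj]

theorem eS_comm {a b : G} (ha : a ∈ K.eS) (hb : b ∈ K.eS) : a * b = b * a := by
  obtain ⟨i, hi, rfl⟩ := K.mem_eS.1 ha
  obtain ⟨j, hj, rfl⟩ := K.mem_eS.1 hb
  rw [K.eS_mul hi hj, K.eS_mul hj hi, Nat.xor_comm]

theorem eS_sq {a : G} (ha : a ∈ K.eS) : a * a = 1 := by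
  obtain ⟨i, hi, rfl⟩ := K.mem_eS.1 ha
  rw [K.eS_mul hi hi, Nat.xor_self, K.one]

theorem eS_le : K.eS ≤ S := K.sub_le eS_ok

theorem card_eS : Nat.card K.eS = 16 :=
  (K.card_sub eS_ok List.nodup_range).trans List.length_range

/-- `E` is the only elementary abelian subgroup of order 16 of `S`. -/
theorem eS_unique [Finite G] {Y : Subgroup G} (hY : Y ≤ S) (hc : Nat.card Y = 16) (hsq : ∀ y ∈ Y, y * y = 1) :
    Y = K.eS := by
  classical
  have hfew : ((List.range 64).all fun u => Nat.blt u 16 || mS u u != 0 ||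
      Nat.blt (((List.range 64).filter fun j => mS j j == 0 && mS u j == mS j u).length) 16) = true := by
    decide +kernel
  simp only [List.all_eq_true, List.mem_range, Bool.or_eq_true, Nat.blt_eq, bne_iff_ne] at hfew
  refine Subgroup.eq_of_le_of_card_ge (fun y hy => ?_) (by rw [K.card_eS, hc])
  obtain ⟨u, hu, rfl⟩ := K.surj y (hY hy)
  by_contra hne
  rcases hfew u hu with (h | h) | h
  · exact hne (K.mem_eS.2 ⟨u, h, rfl⟩)
  · refine h ((K.eq_one_iff (mS_lt hu hu)).1 ?_)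
    rw [K.mul u hu u hu, hsq _ hy]
  · set l := (List.range 64).filter fun j => mS j j == 0 && mS u j == mS j u with hl
    have hcomm : ∀ a ∈ Y, ∀ b ∈ Y, a * b = b * a := fun a ha b hb => by
      have h1 := inv_eq_of_mul_eq_one_right (hsq a ha)
      have h2 := inv_eq_of_mul_eq_one_right (hsq b hb)
      have h3 := inv_eq_of_mul_eq_one_right (hsq _ (mul_mem ha hb))
      rw [mul_inv_rev, h1, h2] at h3
      exact h3.symm
    have hmem : ∀ x : Y, ∃ j ∈ l.toFinset, φ j = (x : G) := fun x => by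
      obtain ⟨j, hj, e⟩ := K.surj (x : G) (hY x.2)
      refine ⟨j, ?_, e⟩
      rw [List.mem_toFinset, hl, List.mem_filter, Bool.and_eq_true, beq_iff_eq, beq_iff_eq, List.mem_range]
      refine ⟨hj, (K.eq_one_iff (mS_lt hj hj)).1 ?_, (K.comm_iff hu hj).1 ?_⟩
      · rw [K.mul j hj j hj, e, hsq _ x.2]
      · rw [e]; exact hcomm _ hy _ x.2
    choose f hf hf' using hmem
    have h16 : Nat.card Y ≤ Nat.card l.toFinset :=
      Nat.card_le_card_of_injective (fun x => (⟨f x, hf x⟩ : l.toFinset)) fun a b e =>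
        Subtype.ext (by rw [← hf' a, ← hf' b]; exact congrArg φ (congrArg Subtype.val e :))
    rw [hc, Nat.card_eq_finsetCard] at h16
    exact absurd (h16.trans (List.toFinset_card_le l)) (not_le.2 h)

end Hyp

end CfsgLib.A8Syl
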