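import Cfsg.Agent.Lib.A8Syl.CentCases
import Cfsg.Agent.Lib.PSpFourRecog.Main

/-!
The table of the centraliser of order 576 against that of PSp(4,3).
-/

set_option autoImplicit false
set_option linter.style.longLine false

namespace CfsgLib.A8Syl

/-- moving the element of order three to the left -/
def rA (s : ℕ) : ℕ × ℕ :=
  bif qL.contains s then (1, chiI (chiI s)) else (2, mS 2 (chiI (chiI (mS 2 s))))

/-- moving a power of it to the left -/
def rAp (i s : ℕ) : ℕ × ℕ :=
  bif i == 0 then (0, s) else bif i == 1 then rA s else ((rA s).1 + (rA (rA s).2).1, (rA (rA s).2).2)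

/-- the product of two coded products `a ^ i * y ^ j * s` -/
def mN (u v : ℕ) : ℕ :=
  let r := rAp (v / 192) (u % 64)
  (u / 192 + r.1) % 3 * 192 + (u % 192 / 64 + v % 192 / 64) % 3 * 64 +
    mS (tauP (2 * (v % 192 / 64) % 3) r.2) (v % 64)

/-- the coded product of an index -/
def eB (i : ℕ) : ℕ :=
  ([0, 30, 261, 548, 286, 570, 539, 36, 314, 289, 517, 58, 43, 48, 302, 522, 304, 529, 565, 10, 273, 271, 558, 17,
    453, 475, 128, 225, 155, 255, 222, 481, 191, 164, 192, 511, 372, 362, 433, 85, 426, 75, 111, 341, 395, 400, 113, 331,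
    491, 496, 174, 202, 176, 209, 245, 458, 145, 143, 238, 465, 346, 321, 415, 126, 385, 101, 68, 382, 421, 443, 95, 357,
    366, 373, 427, 79, 437, 84, 112, 335, 404, 394, 107, 340, 52, 42, 305, 533, 298, 523, 559, 21, 267, 272, 561, 11,
    474, 449, 159, 254, 129, 229, 196, 510, 165, 187, 223, 485, 497, 495, 180, 208, 175, 206, 234, 464, 142, 149, 244, 462,
    325, 347, 384, 97, 411, 127, 94, 353, 447, 420, 64, 383, 26, 1, 287, 574, 257, 549, 516, 62, 293, 315, 543, 37,
    5, 27, 256, 545, 283, 575, 542, 33, 319, 292, 512, 63, 46, 53, 299, 527, 309, 532, 560, 15, 276, 266, 555, 20,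
    448, 478, 133, 228, 158, 250, 219, 484, 186, 161, 197, 506, 369, 367, 436, 80, 431, 78, 106, 336, 398, 405, 116, 334,
    494, 501, 171, 207, 181, 212, 240, 463, 148, 138, 235, 468, 351, 324, 410, 123, 388, 96, 65, 379, 416, 446, 90, 352,
    363, 368, 430, 74, 432, 81, 117, 330, 401, 399, 110, 337, 49, 47, 308, 528, 303, 526, 554, 16, 270, 277, 564, 14,
    479, 452, 154, 251, 132, 224, 193, 507, 160, 190, 218, 480, 500, 490, 177, 213, 170, 203, 239, 469, 139, 144, 241, 459,
    320, 350, 389, 100, 414, 122, 91, 356, 442, 417, 69, 378, 31, 4, 282, 571, 260, 544, 513, 59, 288, 318, 538, 32,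
    391, 428, 66, 371, 108, 349, 361, 435, 93, 118, 322, 413, 409, 439, 92, 365, 119, 326, 370, 429, 70, 104, 348, 390,
    258, 297, 519, 54, 553, 24, 44, 310, 536, 563, 7, 280, 163, 141, 230, 466, 205, 505, 456, 146, 249, 215, 486, 185,
    281, 311, 540, 45, 567, 6, 50, 301, 518, 552, 28, 262, 189, 150, 248, 460, 214, 482, 467, 140, 226, 201, 504, 162,
    156, 178, 217, 488, 242, 451, 503, 168, 195, 237, 473, 131, 419, 397, 102, 338, 77, 377, 328, 402, 121, 87, 358, 441,
    317, 278, 568, 12, 534, 34, 19, 268, 546, 521, 56, 290, 294, 264, 547, 23, 520, 60, 13, 279, 572, 530, 35, 316,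
    130, 169, 199, 502, 233, 472, 492, 182, 216, 243, 455, 152, 445, 406, 120, 332, 86, 354, 339, 396, 98, 73, 376, 418,
    386, 425, 71, 374, 105, 344, 364, 438, 88, 115, 327, 408, 412, 434, 89, 360, 114, 323, 375, 424, 67, 109, 345, 387,
    263, 300, 514, 51, 556, 29, 41, 307, 541, 566, 2, 285, 166, 136, 227, 471, 200, 508, 461, 151, 252, 210, 483, 188,
    284, 306, 537, 40, 562, 3, 55, 296, 515, 557, 25, 259, 184, 147, 253, 457, 211, 487, 470, 137, 231, 204, 509, 167,
    153, 183, 220, 493, 247, 454, 498, 173, 198, 232, 476, 134, 422, 392, 99, 343, 72, 380, 333, 407, 124, 82, 355, 444,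
    312, 275, 573, 9, 531, 39, 22, 265, 551, 524, 61, 295, 291, 269, 550, 18, 525, 57, 8, 274, 569, 535, 38, 313,
    135, 172, 194, 499, 236, 477, 489, 179, 221, 246, 450, 157, 440, 403, 125, 329, 83, 359, 342, 393, 103, 76, 381, 423] : List ℕ).getD i 0

theorem rA_ok : ((List.range 64).all fun s =>
    (qL.contains s && qL.contains (chiI (chiI s)) && chiI (chiI (chiI s)) == s ||
      !qL.contains s && qL.contains (mS 2 s) && qL.contains (chiI (chiI (mS 2 s))) &&
        chiI (chiI (chiI (mS 2 s))) == mS 2 s && mS 2 (mS 2 s) == s) &&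
      Nat.blt (rA s).2 64 && tauI (tauI (tauI s)) == s) = true := by
  decide +kernel

set_option maxHeartbeats 1000000 in
theorem eB_ok : (PSpFourRecog.genC.all fun g => (List.range 576).all fun i =>
      Nat.beq (eB (PSpFourRecog.mC i g)) (mN (eB i) (eB g))) = true ∧
    ((List.range 576).all fun i => Nat.blt (eB i) 576 && (eB i != 0 || i == 0)) = true ∧
    eB 0 = 0 ∧ eB PSpFourRecog.iT = iZ := by
  refine ⟨?_, ?_, ?_, ?_⟩ <;> decide +kernel

end CfsgLib.A8Syl
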