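import Cfsg.Agent.Lib.A8Syl.CentElts
import Cfsg.Agent.Lib.A8Syl.BigData

/-!
The centraliser of order 576: PSp(4,3).
-/

set_option autoImplicit false
set_option linter.style.haveILetI false
set_option linter.unusedSectionVars false

namespace CfsgLib.A8Syl

open PSpFourRecog (mC tabC iT genC invC_spec)

namespace Hyp

variable {G : Type*} [Group G] [Finite G] {φ : ℕ → G} {S : Subgroup G} (K : Hyp φ S)
  (hS : M12Syl.SylIn ⊤ S) (hsol : Group.IsSolvable K.cT) (hθ : K.theta = ⊥)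
include K hS hsol hθ

theorem exists_table (hc : K.HasChi hS hsol) (ht : K.HasTau hS hsol) :
    ∃ ψ : ℕ → G, PSpFourRecog.Hyp ψ := by
  classical
  obtain ⟨a, haT, ha3, haq, hinv, hnorm, -, hboth⟩ := K.chi_elt hS hsol hθ hc
  obtain ⟨y, hyT, hy3, hya⟩ := K.tau_elt hS hsol hθ ht
  obtain ⟨hay, hform⟩ := hboth y hyT hya
  have hr := rA_ok
  simp only [List.all_eq_true, List.mem_range, Bool.and_eq_true, Bool.or_eq_true, Nat.blt_eq, beq_iff_eq,
    List.contains_iff_mem, Bool.not_eq_true', ← Bool.not_eq_true] at hr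
  have hqok := qL_invol.2.2.1
  have hql : ∀ i ∈ qL, i < 64 := fun i hi => K.lt_of_lOK hqok hi
  have h22 : φ 2 * φ 2 = 1 := by
    rw [← K.mul 2 (by norm_num) 2 (by norm_num), show mS 2 2 = 0 by decide +kernel, K.one]
  -- moving one element
  have hrA : ∀ s < 64, φ s * a = a ^ (rA s).1 * φ (rA s).2 := by
    intro s hs
    have hq : ∀ q ∈ qL, chiI (chiI q) ∈ qL → chiI (chiI (chiI q)) = q → φ q * a = a * φ (chiI (chiI q)) := by
      intro q _ h2 h3
      have := haq _ h2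
      rw [h3, mul_inv_eq_iff_eq_mul] at this
      exact this.symm
    unfold rA
    rcases (hr s hs).1.1 with ⟨⟨h1, h2⟩, h3⟩ | ⟨⟨⟨⟨h1, hm⟩, h2⟩, h3⟩, h4⟩
    · rw [List.contains_iff_mem.2 h1, cond_true, pow_one]
      exact hq s h1 h2 h3
    · rw [show qL.contains s = false from Bool.eq_false_iff.2 fun h => h1 (List.contains_iff_mem.1 h), cond_false]
      have hml : mS 2 s < 64 := mS_lt (by norm_num) hs
      have h2a : φ 2 * a = a⁻¹ * φ 2 := by
        rw [← hinv, mul_assoc, mul_assoc, h22, mul_one]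
      show φ s * a = a ^ 2 * φ (mS 2 (chiI (chiI (mS 2 s))))
      rw [K.mul 2 (by norm_num) _ (hql _ h2), show φ s = φ 2 * φ (mS 2 s) by
        rw [← K.mul 2 (by norm_num) _ hml, h4], mul_assoc, hq _ hm h2 h3, ← mul_assoc, h2a,
        show a ^ 2 = a⁻¹ from eq_inv_of_mul_eq_one_left (by rw [← pow_succ]; exact ha3), mul_assoc]
  have hrAp : ∀ s < 64, ∀ i < 3, φ s * a ^ i = a ^ (rAp i s).1 * φ (rAp i s).2 ∧ (rAp i s).2 < 64 := by
    intro s hs i hi
    interval_cases i
    · exact ⟨by simp [rAp], hs⟩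
    · exact ⟨by rw [pow_one]; exact hrA s hs, (hr s hs).1.2⟩
    · refine ⟨?_, (hr _ (hr s hs).1.2).1.2⟩
      show φ s * a ^ 2 = a ^ ((rA s).1 + (rA (rA s).2).1) * φ (rA (rA s).2).2
      rw [pow_two, ← mul_assoc, hrA s hs, mul_assoc, hrA _ (hr s hs).1.2, ← mul_assoc, pow_add]
  have hyp : ∀ s < 64, ∀ j < 3, φ s * y ^ j = y ^ j * φ (tauP (2 * j % 3) s) ∧ tauP (2 * j % 3) s < 64 := by
    intro s hs j hj
    have h1 : ∀ s < 64, φ s * y = y * φ (tauI (tauI s)) := fun s hs => by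
      have := hya _ (tauI_facts.1 _ (tauI_facts.1 s hs).1).1
      rw [(hr s hs).2, mul_inv_eq_iff_eq_mul] at this
      exact this.symm
    have hl : ∀ s < 64, tauI (tauI s) < 64 := fun s hs => (tauI_facts.1 _ (tauI_facts.1 s hs).1).1
    interval_cases j
    · exact ⟨by simp [tauP], hs⟩
    · exact ⟨by rw [pow_one]; exact h1 s hs, hl s hs⟩
    · refine ⟨?_, (tauI_facts.1 s hs).1⟩
      show φ s * y ^ 2 = y ^ 2 * φ (tauI s)
      rw [pow_two, ← mul_assoc, h1 s hs, mul_assoc, h1 _ (hl s hs), ← mul_assoc,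
        (hr _ (tauI_facts.1 s hs).1).2]
  let val : ℕ → G := fun u => a ^ (u / 192) * y ^ (u % 192 / 64) * φ (u % 64)
  have hval : ∀ u < 576, val u ∈ K.cT := fun u hu =>
    mul_mem (mul_mem (pow_mem haT _) (pow_mem hyT _)) (K.S_le_cT (K.mem _ (Nat.mod_lt _ (by norm_num))))
  have hmN : ∀ u < 576, ∀ v < 576, mN u v < 576 ∧ val (mN u v) = val u * val v := by
    intro u hu v hv
    set i := u / 192
    set j := u % 192 / 64
    set s := u % 64
    set i' := v / 192
    set j' := v % 192 / 64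
    set s' := v % 64
    obtain ⟨e1, hs1⟩ := hrAp s (by omega) i' (by omega)
    obtain ⟨e2, hs2⟩ := hyp _ hs1 j' (by omega)
    set k := (rAp i' s).1
    set s1 := (rAp i' s).2
    set s2 := tauP (2 * j' % 3) s1
    have hs' : s' < 64 := Nat.mod_lt _ (by norm_num)
    have hlt : mS s2 s' < 64 := mS_lt hs2 hs'
    have emN : mN u v = (i + k) % 3 * 192 + (j + j') % 3 * 64 + mS s2 s' := rfl
    refine ⟨by omega, ?_⟩
    show a ^ (mN u v / 192) * y ^ (mN u v % 192 / 64) * φ (mN u v % 64) = _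
    rw [show mN u v / 192 = (i + k) % 3 by omega, show mN u v % 192 / 64 = (j + j') % 3 by omega,
      show mN u v % 64 = mS s2 s' by omega, ← pow_eq_pow_mod _ ha3, ← pow_eq_pow_mod _ hy3, K.mul _ hs2 _ hs']
    show _ = a ^ i * y ^ j * φ s * (a ^ i' * y ^ j' * φ s')
    calc a ^ (i + k) * y ^ (j + j') * (φ s2 * φ s')
        = a ^ i * (a ^ k * y ^ j) * (y ^ j' * φ s2) * φ s' := by rw [pow_add, pow_add]; group
      _ = a ^ i * (y ^ j * a ^ k) * (φ s1 * y ^ j') * φ s' := by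
        rw [((show Commute a y from hay).pow_pow k j).eq, e2]
      _ = a ^ i * y ^ j * (a ^ k * φ s1) * y ^ j' * φ s' := by group
      _ = _ := by rw [← e1]; group
  obtain ⟨hgen, hlt, he0, heT⟩ := eB_ok
  simp only [List.all_eq_true, List.mem_range, Bool.and_eq_true, Bool.or_eq_true, Nat.blt_eq, Nat.beq_eq,
    bne_iff_ne, beq_iff_eq] at hgen hlt
  let ψ : ℕ → G := fun i => val (eB i)
  have hψ0 : ψ 0 = 1 := by
    show val (eB 0) = 1
    rw [he0]
    simp [val, K.one]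
  have hψT : ψ iT = φ iZ := by
    show val (eB iT) = φ iZ
    rw [heT]
    simp [val, iZ]
  have hmul : ∀ i < 576, ∀ j < 576, ψ (mC i j) = ψ i * ψ j :=
    tabC.map_mul hψ0 fun i hi g hg => by
      show val (eB (mC i g)) = _
      rw [hgen g hg i hi, (hmN _ (hlt i hi).1 _ (hlt g (tabC.gen_lt g hg)).1).2]
  have ha1 : a ≠ 1 := fun e => by
    have h := qL_invol
    have hk : (16 ∈ qL ∧ chiI 16 ≠ 16) := by decide +kernel
    have := haq 16 hk.1
    rw [e, one_mul, inv_one, mul_one] at this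
    exact hk.2 (K.inj _ (hql _ hk.1) _ (hql _ (tauI_facts.2.2 _ hk.1)) this).symm
  have hy1 : y ≠ 1 := fun e => by
    have := hya 1 (by norm_num)
    rw [e, one_mul, inv_one, mul_one] at this
    exact absurd (K.inj 1 (by norm_num) _ (tauI_facts.1 1 (by norm_num)).1 this) (by decide +kernel)
  have hone : ∀ u < 576, val u = 1 → u = 0 := by
    intro u hu h
    have hs : φ (u % 64) ∈ S := K.mem _ (Nat.mod_lt _ (by norm_num))
    set i := u / 192
    set j := u % 192 / 64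
    have hyS : ∀ s ∈ S, ∀ n, y ^ n * s * (y ^ n)⁻¹ ∈ S := fun s hs n => by
      induction n with
      | zero => simpa using hs
      | succ n ih =>
        obtain ⟨k, hk, e⟩ := K.surj _ ih
        rw [pow_succ', show y * y ^ n * s * (y * y ^ n)⁻¹ = y * (y ^ n * s * (y ^ n)⁻¹) * y⁻¹ by group, ← e,
          hya k hk]
        exact K.mem _ (tauI_facts.1 k hk).1
    have hij : a ^ i * y ^ j = (φ (u % 64))⁻¹ := eq_inv_of_mul_eq_one_left h
    have hi0 : a ^ i = 1 := by
      refine hnorm i fun s hsS => ?_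
      have e : a ^ i = (φ (u % 64))⁻¹ * (y ^ j)⁻¹ := by rw [← hij, mul_inv_cancel_right]
      have hyi : (y ^ j)⁻¹ = y ^ (2 * j) := inv_eq_of_mul_eq_one_right (by
        rw [← pow_add, show j + 2 * j = 3 * j by ring, pow_mul, hy3, one_pow])
      rw [e, hyi, show (φ (u % 64))⁻¹ * y ^ (2 * j) * s * ((φ (u % 64))⁻¹ * y ^ (2 * j))⁻¹ =
        (φ (u % 64))⁻¹ * (y ^ (2 * j) * s * (y ^ (2 * j))⁻¹) * φ (u % 64) by group]
      exact mul_mem (mul_mem (inv_mem hs) (hyS s hsS _)) hs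
    rw [hi0, one_mul] at hij
    have hj1 : y ^ j = 1 :=
      K.eq_one_of_pow_three hS (by rw [← pow_mul, mul_comm, pow_mul, hy3, one_pow]) (hij ▸ inv_mem hs)
    have hdi := orderOf_dvd_of_pow_eq_one hi0
    have hdj := orderOf_dvd_of_pow_eq_one hj1
    rw [orderOf_eq_prime (hp := ⟨Nat.prime_three⟩) ha3 ha1] at hdi
    rw [orderOf_eq_prime (hp := ⟨Nat.prime_three⟩) hy3 hy1] at hdj
    rw [hj1, eq_comm, inv_eq_one, K.eq_one_iff (Nat.mod_lt _ (by norm_num))] at hij
    have : i < 3 := by omega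
    have : j < 3 := by omega
    omega
  have hinj : ∀ i < 576, ∀ j < 576, ψ i = ψ j → i = j := by
    intro i hi j hj h
    obtain ⟨h1, h2, h3⟩ := invC_spec hi
    have hl := tabC.lt _ h1 j hj
    have e : ψ (mC (PSpFourRecog.invC.getD i 0) j) = 1 := by
      rw [hmul _ h1 j hj, ← h, ← hmul _ h1 i hi, h3, hψ0]
    have h0 : mC (PSpFourRecog.invC.getD i 0) j = 0 := by
      have := hone _ (hlt _ hl).1 e
      exact (hlt _ hl).2.resolve_left fun hne => hne this
    have := congrArg (mC i) h0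
    rw [tabC.assoc hi h1 hj, h2, tabC.one_left j hj, tabC.one_right i hi] at this
    exact this.symm
  have hcard : Nat.card K.cT ≤ 576 := by
    refine (Nat.card_le_card_of_surjective (fun u : Fin 576 => (⟨val u, hval u u.2⟩ : K.cT)) ?_).trans (by simp)
    rintro ⟨x, hx⟩
    obtain ⟨i, hi, j, hj, s, hs, rfl⟩ := hform x hx
    refine ⟨⟨i * 192 + j * 64 + s, by omega⟩, Subtype.ext ?_⟩
    show a ^ ((i * 192 + j * 64 + s) / 192) * y ^ ((i * 192 + j * 64 + s) % 192 / 64) *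
      φ ((i * 192 + j * 64 + s) % 64) = _
    rw [show (i * 192 + j * 64 + s) / 192 = i by omega, show (i * 192 + j * 64 + s) % 192 / 64 = j by omega,
      show (i * 192 + j * 64 + s) % 64 = s by omega]
  refine ⟨ψ, ?_⟩
  rw [PSpFourRecog.Hyp, hψT]
  refine ⟨by norm_num, tabC.lt, fun i hi => hval _ (hlt i hi).1, fun x hx => ?_, hinj, hmul, hψ0⟩
  let f : Fin 576 → K.cT := fun i => ⟨ψ i, hval _ (hlt i i.2).1⟩
  have hf : Function.Injective f := fun i j h => Fin.ext (hinj i i.2 j j.2 (congrArg Subtype.val h))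
  have hbij : Function.Bijective f := (Nat.bijective_iff_injective_and_card f).2
    ⟨hf, le_antisymm (Nat.card_le_card_of_injective f hf) (by simpa using hcard)⟩
  obtain ⟨i, hi⟩ := hbij.2 ⟨x, hx⟩
  exact ⟨i, i.2, congrArg Subtype.val hi⟩

theorem big_case (hc : K.HasChi hS hsol) (ht : K.HasTau hS hsol) (hO2 : Cfsg.pResidual 2 G = ⊤) :
    ∃ (F : Type) (_ : Field F) (_ : Fintype F), Fintype.card F = 3 ∧ Nonempty (G ≃* Cfsg.PSp 2 F) := by
  haveI := Fact.mk Nat.prime_three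
  obtain ⟨ψ, K₀⟩ := K.exists_table hS hsol hθ hc ht
  have hG : ∀ H : Subgroup G, H.index ≠ 2 := fun H hH => by
    haveI : H.Normal := Subgroup.normal_of_index_eq_two hH
    have hle : Cfsg.pResidual 2 G ≤ H := by
      refine (Subgroup.closure_le H).2 fun g hg => ?_
      rw [SetLike.mem_coe, ← QuotientGroup.eq_one_iff, ← orderOf_eq_one_iff]
      exact Nat.eq_one_of_dvd_coprimes (hg : Nat.Coprime (orderOf g) 2) (orderOf_map_dvd (QuotientGroup.mk' H) g)
        (hH ▸ orderOf_dvd_natCard (g : G ⧸ H))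
    rw [hO2, top_le_iff] at hle
    rw [hle, Subgroup.index_top] at hH
    omega
  obtain ⟨e⟩ := PSpFourRecog.recognition hG K₀
  obtain ⟨E⟩ := PSpFourRecog.exists_iso (F := ZMod 3) (ZMod.card 3)
  exact ⟨ZMod 3, inferInstance, inferInstance, ZMod.card 3, ⟨e.trans E.symm⟩⟩

end Hyp

end CfsgLib.A8Syl
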