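import Cfsg.Agent.Lib.A8Syl.CentElts
import Cfsg.Agent.Lib.Extraspecial.Setting
import Cfsg.Agent.Lib.TwoFourSThree.Main

/-!
The centraliser of order 192: the alternating groups of degree eight and nine.
-/

set_option autoImplicit false
set_option linter.style.haveILetI false
set_option linter.unusedSectionVars false

open scoped commutatorElement

namespace CfsgLib.A8Syl

theorem qL_facts : (qL.all fun i => i == 0 || i == iZ || chiI i != i) = true ∧
    (qL.all fun i => qL.all fun j => cmI i j == 0 || cmI i j == iZ) = true ∧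
    (qL.all fun i => mS i i == 0 || mS i i == iZ) = true ∧
    qL.Nodup ∧ qL.length = 32 ∧ iZ ∈ qL ∧ 1 ∈ qL ∧ 16 ∈ qL ∧ 2 ∉ qL ∧ chiI 16 ≠ 16 ∧ cmI 1 32 = iZ ∧ 32 ∈ qL ∧
    ((List.range 64).all fun s => qL.all fun q => qL.contains (cjI s q)) = true ∧
    ((List.range 64).all fun i => mS (mS i i) (mS i i) == 0) = true := by
  refine ⟨?_, ?_, ?_, ?_, ?_, ?_, ?_, ?_, ?_, ?_, ?_, ?_, ?_, ?_⟩ <;> decide +kernel

theorem m12_eight : ((List.range 192).any fun i =>
    let s (x : ℕ) := M12Recog.mH x x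
    s (s i) != 0 && s (s (s i)) == 0) = true := by decide +kernel

namespace Hyp

variable {G : Type*} [Group G] [Finite G] {φ : ℕ → G} {S : Subgroup G} (K : Hyp φ S)
  (hS : M12Syl.SylIn ⊤ S)
include K hS

/-- The Mathieu group on twelve letters has another Sylow subgroup. -/
theorem not_isoM12 (h : Cfsg.Spor.IsoM12 G) : False := by
  haveI := Fact.mk Nat.prime_two
  obtain ⟨e⟩ := h
  have hm := m12_eight
  simp only [List.any_eq_true, List.mem_range, Bool.and_eq_true, bne_iff_ne, beq_iff_eq] at hm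
  obtain ⟨i, hi, h4, h8⟩ := hm
  have R := M12Recog.rep0
  set v := M12Recog.f0 i
  have hl := M12Recog.tabH.lt
  have e2 : M12Recog.f0 (M12Recog.mH i i) = v ^ 2 := by rw [R.mul i hi i hi, pow_two]
  have e4 : M12Recog.f0 (M12Recog.mH (M12Recog.mH i i) (M12Recog.mH i i)) = v ^ 4 := by
    rw [R.mul _ (hl i hi i hi) _ (hl i hi i hi), e2, ← pow_add]
  have e8 : v ^ 8 = 1 := by
    rw [show (8 : ℕ) = 4 + 4 from rfl, pow_add, ← e4, ← R.mul _ (hl _ (hl i hi i hi) _ (hl i hi i hi)) _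
      (hl _ (hl i hi i hi) _ (hl i hi i hi)), h8, R.one]
  set x := e.symm v
  have hx8 : x ^ 8 = 1 := by rw [← map_pow, e8, map_one]
  have hY : IsPGroup 2 (Subgroup.zpowers x) := fun y => ⟨3, by
    obtain ⟨k, hk⟩ := y.2
    refine Subtype.ext ?_
    rw [SubmonoidClass.coe_pow, ← hk, OneMemClass.coe_one]
    show (x ^ k) ^ (2 ^ 3) = 1
    rw [← zpow_natCast, ← zpow_mul, mul_comm, zpow_mul, zpow_natCast]
    show (x ^ (2 ^ 3)) ^ k = 1
    rw [show (2 : ℕ) ^ 3 = 8 from rfl, hx8, one_zpow]⟩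
  obtain ⟨d, -, hd⟩ := hS.absorb (Subgroup.zpowers x) le_top hY
  obtain ⟨j, hj, ej⟩ := K.surj _ (hd x (Subgroup.mem_zpowers x))
  have h4S : (φ j) ^ 4 = 1 := by
    have hk := qL_facts.2.2.2.2.2.2.2.2.2.2.2.2.2
    simp only [List.all_eq_true, List.mem_range, beq_iff_eq] at hk
    rw [show (4 : ℕ) = 2 + 2 from rfl, pow_add, pow_two, ← K.mul j hj j hj,
      ← K.mul _ (mS_lt hj hj) _ (mS_lt hj hj), hk j hj, K.one]
  rw [ej, conj_pow, conj_eq_one_iff, ← map_pow, MulEquiv.map_eq_one_iff] at h4S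
  refine h4 (R.inj _ (hl _ (hl i hi i hi) _ (hl i hi i hi)) 0 (by norm_num) ?_)
  rw [R.one, e4, h4S]

variable (hsol : Group.IsSolvable K.cT)
include hsol

theorem small_case (hθ : K.theta = ⊥) (hc : K.HasChi hS hsol) (ht : ¬ K.HasTau hS hsol)
    (hnwc : IsConj (φ iZ) (φ 1)) (hcore2 : Cfsg.pCore 2 G = ⊥) :
    Nonempty (G ≃* ↥(alternatingGroup (Fin 8))) ∨ Nonempty (G ≃* ↥(alternatingGroup (Fin 9))) := by
  classical
  haveI := Fact.mk Nat.prime_two
  haveI := Fact.mk Nat.prime_three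
  obtain ⟨a, haT, ha3, haq, -, hnorm, hform, -⟩ := K.chi_elt hS hsol hθ hc
  have hform := hform ht
  obtain ⟨hfix, hcm, hsq, hnd, hlen, hzq, h1q, h16q, h2q, h16, hcm1, h32q, hcj, -⟩ := qL_facts
  simp only [List.all_eq_true, Bool.or_eq_true, beq_iff_eq, bne_iff_ne, List.mem_range,
    List.contains_iff_mem] at hfix hcm hsq hcj
  have hqok := qL_invol.2.2.1
  have hql : ∀ i ∈ qL, i < 64 := fun i hi => K.lt_of_lOK hqok hi
  have hz2 := K.t_order
  have ha1 : a ≠ 1 := fun e => h16 (by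
    have := haq 16 h16q
    rw [e, one_mul, inv_one, mul_one] at this
    exact (K.inj _ (hql _ h16q) _ (hql _ (tauI_facts.2.2 _ h16q)) this).symm)
  have hao : orderOf a = 3 := orderOf_eq_prime ha3 ha1
  have hai : ∀ i < 3, a ^ i ∈ S → i = 0 := by
    intro i hi h
    have h1 : a ^ i = 1 := K.eq_one_of_pow_three hS (by rw [← pow_mul, mul_comm, pow_mul, ha3, one_pow]) h
    have := orderOf_dvd_of_pow_eq_one h1
    rw [hao] at this
    exact Nat.eq_zero_of_dvd_of_lt this hi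
  set L := K.cT
  have hcard : Nat.card L = 192 := by
    refine (Nat.card_eq_of_bijective (fun p : Fin 3 × Fin 64 => (⟨a ^ (p.1 : ℕ) * φ p.2,
      mul_mem (pow_mem haT _) (K.S_le_cT (K.mem _ p.2.2))⟩ : L)) ⟨?_, ?_⟩).symm.trans (by simp)
    · rintro ⟨i, s⟩ ⟨j, t⟩ h
      have h' : a ^ (i : ℕ) * φ s = a ^ (j : ℕ) * φ t := congrArg Subtype.val h
      have key : ∀ {i j : ℕ} {s t : ℕ}, i ≤ j → j < 3 → s < 64 → t < 64 → a ^ i * φ s = a ^ j * φ t → i = j := by
        intro i j s t hij hj hs ht h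
        have : a ^ (j - i) ∈ S := by
          have e : a ^ (j - i) = φ s * (φ t)⁻¹ := by
            rw [eq_mul_inv_iff_mul_eq]
            refine mul_left_cancel (a := a ^ i) ?_
            rw [← mul_assoc, ← pow_add, Nat.add_sub_cancel' hij, h]
          rw [e]; exact mul_mem (K.mem s hs) (inv_mem (K.mem t ht))
        have := hai _ (by omega) this
        omega
      have hij : (i : ℕ) = j := by
        rcases le_total (i : ℕ) j with hl | hl
        · exact key hl j.2 s.2 t.2 h'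
        · exact (key hl i.2 t.2 s.2 h'.symm).symm
      rw [hij] at h'
      exact Prod.ext (Fin.ext hij) (Fin.ext (K.inj _ s.2 _ t.2 (mul_left_cancel h')))
    · rintro ⟨x, hx⟩
      obtain ⟨i, hi, s, hs, rfl⟩ := hform x hx
      exact ⟨(⟨i, hi⟩, ⟨s, hs⟩), rfl⟩
  set Q := K.sub qL
  have hQS : Q ≤ S := K.sub_le hqok
  have hQc : Nat.card Q = 32 := (K.card_sub hqok hnd).trans hlen
  -- the core
  set Qc := Cfsg.pCore 2 L
  set SL := S.subgroupOf L
  have hSLc : Nat.card SL = 64 := by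
    rw [Nat.card_congr (Subgroup.subgroupOfEquivOfLe K.S_le_cT).toEquiv, K.card_eq]
  have hSL2 : IsPGroup 2 SL := hS.two.comap_subtype
  have hQn : (Q.subgroupOf L).Normal := by
    refine ⟨fun q hq x => ?_⟩
    obtain ⟨k, hk, e⟩ := (K.mem_sub hqok).1 (Subgroup.mem_subgroupOf.1 hq)
    obtain ⟨i, -, s, hs, ex⟩ := hform x x.2
    refine Subgroup.mem_subgroupOf.2 ?_
    show (x : G) * q * (x : G)⁻¹ ∈ Q
    rw [ex, ← e, show a ^ i * φ s * φ k * (a ^ i * φ s)⁻¹ = a ^ i * (φ s * φ k * (φ s)⁻¹) * (a ^ i)⁻¹ by group,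
      ← K.conj_eq hs (hql k hk)]
    have hk' := hcj s hs k hk
    generalize cjI s k = m at hk'
    clear ex e
    induction i generalizing m with
    | zero => simpa using (K.mem_sub hqok).2 ⟨m, hk', rfl⟩
    | succ i ih =>
      rw [show a ^ (i + 1) * φ m * (a ^ (i + 1))⁻¹ = a ^ i * (a * φ m * a⁻¹) * (a ^ i)⁻¹ by
        rw [pow_succ]; group, haq m hk']
      exact ih _ (tauI_facts.2.2 m hk')
  have hQcore : Q.subgroupOf L ≤ Qc := le_sSup ⟨hQn, (hS.two.to_le hQS).comap_subtype⟩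
  have hSLidx : SL.index = 3 := by
    have h := SL.card_mul_index
    rw [hSLc, hcard] at h
    omega
  have hcoreS : Qc ≤ SL := by
    obtain ⟨P, hP⟩ := hSL2.exists_le_sylow
    have hPc : Nat.card P ≤ 64 := by
      have h := hS.card_le (Y := (P : Subgroup L).map L.subtype) le_top (P.isPGroup'.map _)
      rwa [Subgroup.card_map_of_injective L.subtype_injective, K.card_eq] at h
    rw [Subgroup.eq_of_le_of_card_ge hP (hPc.trans hSLc.ge)]
    exact IsPGroup.le_sylow_of_normal (Fitting.pCore_isPGroup 2) P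
  have hSn : ¬ ∀ s ∈ S, a * s * a⁻¹ ∈ S := fun h => ha1 (by
    have := hnorm 1 (by simpa using h)
    simpa using this)
  have hQeq : Qc = Q.subgroupOf L := by
    refine le_antisymm (fun x hx => ?_) hQcore
    by_contra hne
    refine hSn fun s hs => ?_
    have hcore_n : Qc.Normal := Fitting.pCore_normal 2
    -- the whole Sylow subgroup is in the core
    suffices hle : SL ≤ Qc by
      have h := hcoreS (hcore_n.conj_mem _ (hle (show (⟨s, K.S_le_cT hs⟩ : L) ∈ SL from hs)) ⟨a, haT⟩)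
      exact h
    refine (Subgroup.eq_of_le_of_card_ge hcoreS ?_).ge
    have hlt : Q.subgroupOf L < Qc := lt_of_le_of_ne hQcore fun e => hne (e ▸ hx)
    have h1 : Nat.card ↥(Q.subgroupOf L) = 32 := by
      rw [Nat.card_congr (Subgroup.subgroupOfEquivOfLe (hQS.trans K.S_le_cT)).toEquiv, hQc]
    obtain ⟨m, hm⟩ := Subgroup.card_dvd_of_le hlt.le
    have h2 : ¬ Nat.card Qc ≤ 32 := fun h => hlt.ne (Subgroup.eq_of_le_of_card_ge hlt.le (h1.symm ▸ h))
    rw [h1] at hm
    rw [hSLc]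
    rcases Nat.lt_or_ge m 2 with hm2 | hm2
    · omega
    · omega
  have hQmap : Q = Qc.map L.subtype := by
    rw [hQeq, Subgroup.map_subgroupOf_eq_of_le (hQS.trans K.S_le_cT)]
  -- extraspecial
  have hzQ : φ iZ ∈ Q := (K.mem_sub hqok).2 ⟨_, hzq, rfl⟩
  have hcenter : Subgroup.center Q = Subgroup.zpowers ⟨φ iZ, hzQ⟩ := by
    refine le_antisymm (fun q hq => ?_) (Subgroup.zpowers_le.2 (Subgroup.mem_center_iff.2 fun r =>
      Subtype.ext (K.z_central (hQS r.2))))
    obtain ⟨i, hi, e⟩ := (K.mem_sub hqok).1 q.2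
    have hr := rel_ok.2.2.2
    simp only [List.all_eq_true, List.any_eq_true, Bool.or_eq_true, beq_iff_eq, bne_iff_ne] at hr
    rcases hr i hi with (rfl | rfl) | ⟨j, hj, hne⟩
    · rw [show q = 1 from Subtype.ext (by rw [← e, K.one]; rfl)]
      exact one_mem _
    · rw [show q = ⟨φ iZ, hzQ⟩ from Subtype.ext e.symm]
      exact Subgroup.mem_zpowers _
    · refine absurd ?_ hne
      refine (K.comm_iff (hql i hi) (hql j hj)).1 ?_
      rw [e]
      exact congrArg Subtype.val (Subgroup.mem_center_iff.1 hq ⟨φ j, (K.mem_sub hqok).2 ⟨j, hj, rfl⟩⟩).symm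
  have hzmem : ∀ {q : Q} {i : ℕ}, (i = 0 ∨ i = iZ) → φ i = (q : G) → q ∈ Subgroup.center Q := by
    rintro q i (rfl | rfl) e
    · rw [show q = 1 from Subtype.ext (by rw [← e, K.one]; rfl)]
      exact one_mem _
    · rw [hcenter, show q = ⟨φ iZ, hzQ⟩ from Subtype.ext e.symm]
      exact Subgroup.mem_zpowers _
  have hex : Cfsg.IsExtraspecial 2 Q := by
    refine Extraspecial.isExtraspecial_of (hS.two.to_le hQS) ?_ (fun u v => ?_) (fun u => ?_) ?_
    · rw [hcenter, Nat.card_zpowers, ← Subgroup.orderOf_coe]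
      exact hz2
    · obtain ⟨i, hi, e⟩ := (K.mem_sub hqok).1 u.2
      obtain ⟨j, hj, e'⟩ := (K.mem_sub hqok).1 v.2
      refine hzmem (hcm i hi j hj) ?_
      rw [K.cmI_eq (hql i hi) (hql j hj), e, e', commutatorElement_def]
      rfl
    · obtain ⟨i, hi, e⟩ := (K.mem_sub hqok).1 u.2
      refine hzmem (hsq i hi) ?_
      rw [K.mul i (hql i hi) i (hql i hi), e, pow_two]
      rfl
    · refine ⟨⟨φ 1, (K.mem_sub hqok).2 ⟨1, h1q, rfl⟩⟩, ⟨φ 32, (K.mem_sub hqok).2 ⟨32, h32q, rfl⟩⟩, fun h => ?_⟩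
      have h' : φ 1 * φ 32 * (φ 1)⁻¹ * (φ 32)⁻¹ = 1 := congrArg Subtype.val h
      rw [← K.cmI_eq (by norm_num) (by norm_num), hcm1] at h'
      rw [h', orderOf_one] at hz2
      omega
  -- the quotient
  haveI : Qc.Normal := Fitting.pCore_normal 2
  let β : L →* Equiv.Perm (L ⧸ SL) := MulAction.toPermHom L (L ⧸ SL)
  have hker : β.ker = Qc := by
    rw [← Subgroup.normalCore_eq_ker]
    refine le_antisymm ?_ (Subgroup.normal_le_normalCore.2 hcoreS)
    exact le_sSup ⟨inferInstance, hSL2.to_le SL.normalCore_le⟩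
  obtain ⟨ε⟩ : Nonempty (Equiv.Perm (L ⧸ SL) ≃* Equiv.Perm (Fin 3)) :=
    ⟨(Finite.equivFinOfCardEq (show Nat.card (L ⧸ SL) = 3 from hSLidx)).permCongrHom⟩
  have hQcc : Nat.card Qc = 32 := by
    rw [hQeq, Nat.card_congr (Subgroup.subgroupOfEquivOfLe (hQS.trans K.S_le_cT)).toEquiv, hQc]
  have hquot : Nat.card (L ⧸ Qc) = 6 := by
    have h := Qc.card_eq_card_quotient_mul_card_subgroup
    rw [hcard, hQcc] at h
    omega
  have hP6 : Nat.card (Equiv.Perm (Fin 3)) = 6 := by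
    rw [Nat.card_eq_fintype_card, Fintype.card_perm, Fintype.card_fin]; rfl
  let η : L ⧸ Qc →* Equiv.Perm (Fin 3) :=
    QuotientGroup.lift Qc (ε.toMonoidHom.comp β) fun x hx => by
      rw [MonoidHom.mem_ker, MonoidHom.comp_apply, show β x = 1 from MonoidHom.mem_ker.1 (hker ▸ hx)]
      exact map_one _
  have hηinj : Function.Injective η := by
    rw [injective_iff_map_eq_one]
    intro x
    induction x using QuotientGroup.induction_on with
    | H x =>
      intro hx
      refine (QuotientGroup.eq_one_iff x).2 (hker ▸ MonoidHom.mem_ker.2 ?_)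
      exact ε.injective (by rw [map_one]; exact hx)
  have hηb : Function.Bijective η :=
    (Nat.bijective_iff_injective_and_card η).2 ⟨hηinj, by rw [hquot, hP6]⟩
  -- the Sylow 3-subgroup
  set aL : L := ⟨a, haT⟩
  have hX : Nat.card ↥(Subgroup.zpowers aL) = 3 ^ (Nat.card L).factorization 3 := by
    rw [Nat.card_zpowers, ← Subgroup.orderOf_coe, hao, hcard,
      show (192 : ℕ) = 3 ^ 1 * 64 from rfl, Nat.factorization_mul (by norm_num) (by norm_num),
      Finsupp.add_apply, Nat.prime_three.factorization_pow, Finsupp.single_eq_same,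
      Nat.factorization_eq_zero_of_not_dvd (show ¬ 3 ∣ 64 by norm_num)]
    rfl
  let X : Sylow 3 L := Sylow.ofCard _ hX
  have hXG : ((X : Subgroup L).map L.subtype : Subgroup G) = Subgroup.zpowers a := by
    show (Subgroup.zpowers aL).map L.subtype = _
    rw [MonoidHom.map_zpowers]
    rfl
  have hCQX : Q ⊓ Subgroup.centralizer (((X : Subgroup L).map L.subtype : Subgroup G) : Set G) =
      Subgroup.zpowers (φ iZ) := by
    rw [hXG]
    refine le_antisymm (fun q hq => ?_) (Subgroup.zpowers_le.2 ⟨hzQ, Subgroup.mem_centralizer_iff.2 ?_⟩)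
    · obtain ⟨hqQ, hqc⟩ := Subgroup.mem_inf.1 hq
      obtain ⟨i, hi, rfl⟩ := (K.mem_sub hqok).1 hqQ
      have hc := Subgroup.mem_centralizer_iff.1 hqc a (Subgroup.mem_zpowers a)
      rcases hfix i hi with (rfl | rfl) | hne
      · rw [K.one]; exact one_mem _
      · exact Subgroup.mem_zpowers _
      · refine absurd (K.inj _ (hql _ (tauI_facts.2.2 i hi)) _ (hql i hi) ?_) hne
        rw [← haq i hi, hc, mul_inv_cancel_right]
    · intro u hu
      obtain ⟨k, rfl⟩ := Subgroup.mem_zpowers_iff.1 hu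
      exact ((show Commute a (φ iZ) from K.mem_cT.1 haT).zpow_left k).eq
  have hconj : ∃ g : G, g * φ iZ * g⁻¹ ∈ Q ∧ g * φ iZ * g⁻¹ ≠ φ iZ := by
    obtain ⟨g, hg⟩ := isConj_iff.1 hnwc
    refine ⟨g, hg ▸ (K.mem_sub hqok).2 ⟨1, h1q, rfl⟩, fun e => ?_⟩
    have := K.inj 1 (by norm_num) iZ (by decide) (hg.symm.trans e)
    simp [iZ] at this
  obtain ⟨b, t, H⟩ := TwoFourSThree.exists_pre (φ iZ) hz2 L rfl Q hQmap hex hQc (MulEquiv.ofBijective η hηb) X hCQX
  obtain ⟨p₀, r₀, c, F₀⟩ := H.exists_frame₀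
  obtain ⟨p, r, F⟩ := (F₀.frame hconj).exists_std hconj
  rcases F.affine_or_simple with ⟨N, hN, -, hN2, hNc, -⟩ | ⟨hsimp, hna⟩
  · exfalso
    have hle : N ≤ Cfsg.pCore 2 G := le_sSup ⟨hN, IsPGroup.of_card (n := 3) (by rw [hNc]; rfl)⟩
    rw [hcore2, le_bot_iff] at hle
    rw [hle, Subgroup.card_bot] at hNc
    omega
  · haveI := hsimp
    cases c with
    | true => exact (K.not_isoM12 hS (F.toFrame.isoM12 hna hz2)).elim
    | false => exact F.eight_or_nine

end Hyp

end CfsgLib.A8Syl
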