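import Cfsg.Agent.Lib.A8Syl.BarForm
import Cfsg.Agent.Lib.Invol.SolvableCore
import Cfsg.Agent.Lib.Signalizer.CoreBalance
import Cfsg.Prelude.Def_Balance

/-!
The centraliser of the central involution: lifts from its quotient by the core.
-/

set_option autoImplicit false
set_option linter.style.haveILetI false
set_option linter.unusedSectionVars false

namespace CfsgLib.A8Syl

open CfsgLib.PSpFourRecog (app)

namespace Hyp

variable {G : Type*} [Group G] {φ : ℕ → G} {S : Subgroup G} (K : Hyp φ S)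
include K

/-- the centraliser of the central involution -/
abbrev cT (_ : Hyp φ S) : Subgroup G := Subgroup.centralizer ({φ iZ} : Set G)

theorem mem_cT {x : G} : x ∈ K.cT ↔ x * φ iZ = φ iZ * x := Subgroup.mem_centralizer_singleton_iff

theorem S_le_cT : S ≤ K.cT := fun _ hx => K.mem_cT.2 (K.z_central hx)

/-- its core -/
def theta (_ : Hyp φ S) : Subgroup G := Cfsg.centralizerPPrimeCore 2 (φ iZ)

theorem theta_le : K.theta ≤ K.cT := Subgroup.map_subtype_le _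

theorem theta_odd [Finite G] : ¬ 2 ∣ Nat.card K.theta := by
  haveI := Fact.mk Nat.prime_two
  exact fun hd => Nat.prime_two.ne_one
    (Nat.eq_one_of_dvd_coprimes (Signalizer.coprime_centralizerPPrimeCore (φ iZ)) hd (dvd_refl 2))

theorem theta_conj [Finite G] {x y : G} (hx : x ∈ K.cT) (hy : y ∈ K.theta) : x * y * x⁻¹ ∈ K.theta :=
  (Subgroup.mem_normalizer_iff.1 (Signalizer.centralizerPPrimeCore_normalized (p := 2) (φ iZ) hx) y).1 hy

theorem theta_inf [Finite G] {Y : Subgroup G} (hY : IsPGroup 2 Y) {x : G} (hθ : x ∈ K.theta) (hx : x ∈ Y) :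
    x = 1 := by
  haveI := Fact.mk Nat.prime_two
  obtain ⟨k, hk⟩ := (IsPGroup.iff_orderOf.1 hY) ⟨x, hx⟩
  rw [Subgroup.orderOf_mk] at hk
  rcases k with _ | k
  · exact orderOf_eq_one_iff.1 (by simpa using hk)
  · refine absurd ?_ K.theta_odd
    refine (dvd_pow_self 2 (Nat.succ_ne_zero k)).trans ?_
    rw [← hk, ← Subgroup.orderOf_mk (H := K.theta) x hθ]
    exact orderOf_dvd_natCard _

/-- the projection modulo the core -/
def prj (_ : Hyp φ S) : ↥(Subgroup.centralizer ({φ iZ} : Set G)) →*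
    ↥(Subgroup.centralizer ({φ iZ} : Set G)) ⧸ Cfsg.oddCore ↥(Subgroup.centralizer ({φ iZ} : Set G)) :=
  QuotientGroup.mk' _

/-- the indices in the quotient -/
noncomputable def psi (K : Hyp φ S) (i : ℕ) :
    ↥(Subgroup.centralizer ({φ iZ} : Set G)) ⧸ Cfsg.oddCore ↥(Subgroup.centralizer ({φ iZ} : Set G)) :=
  if h : i < 64 then K.prj ⟨φ i, K.S_le_cT (K.mem i h)⟩ else 1

theorem psi_eq {i : ℕ} (hi : i < 64) : K.psi i = K.prj ⟨φ i, K.S_le_cT (K.mem i hi)⟩ := dif_pos hi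

theorem prj_eq_one {x : K.cT} : K.prj x = 1 ↔ (x : G) ∈ K.theta := by
  refine (QuotientGroup.eq_one_iff x).trans ⟨fun h => ⟨x, h, rfl⟩, ?_⟩
  rintro ⟨y, hy, e⟩
  exact (Subtype.ext e : y = x) ▸ hy

theorem prj_eq {x y : K.cT} : K.prj x = K.prj y ↔ (x : G)⁻¹ * y ∈ K.theta := by
  rw [← inv_mul_eq_one, ← map_inv, ← map_mul, prj_eq_one]
  rfl

/-- the image of the Sylow subgroup -/
def tq (_ : Hyp φ S) : Subgroup
    (↥(Subgroup.centralizer ({φ iZ} : Set G)) ⧸ Cfsg.oddCore ↥(Subgroup.centralizer ({φ iZ} : Set G))) :=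
  (S.subgroupOf (Subgroup.centralizer ({φ iZ} : Set G))).map (QuotientGroup.mk' _)

theorem loc [Finite G] (hS : M12Syl.SylIn ⊤ S) (hsol : Group.IsSolvable K.cT) : Loc K.psi K.tq := by
  haveI := Fact.mk Nat.prime_two
  have hmemT : ∀ i (hi : i < 64), K.psi i ∈ K.tq := fun i hi => by
    rw [K.psi_eq hi]
    exact ⟨⟨φ i, K.S_le_cT (K.mem i hi)⟩, Subgroup.mem_subgroupOf.2 (K.mem i hi), rfl⟩
  refine ⟨⟨hmemT, fun x hx => ?_, fun i hi j hj e => ?_, fun i hi j hj => ?_⟩, ?_, fun x => ?_,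
    Invol.oddCore_quotient_eq_bot, ?_⟩
  · obtain ⟨y, hy, rfl⟩ := hx
    obtain ⟨i, hi, e⟩ := K.surj y (Subgroup.mem_subgroupOf.1 hy)
    exact ⟨i, hi, by rw [K.psi_eq hi]; exact congrArg _ (Subtype.ext e)⟩
  · rw [K.psi_eq hi, K.psi_eq hj, K.prj_eq] at e
    exact K.inj i hi j hj (inv_mul_eq_one.1 (K.theta_inf hS.two e (mul_mem (inv_mem (K.mem i hi)) (K.mem j hj))))
  · rw [K.psi_eq hi, K.psi_eq hj, K.psi_eq (mS_lt hi hj), ← map_mul]
    exact congrArg _ (Subtype.ext (K.mul i hi j hj))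
  · have hSc : M12Syl.SylIn K.cT S := by
      have h := hS.center (z := φ iZ) fun s hs => K.z_central hs
      rwa [top_inf_eq] at h
    refine ⟨le_top, (hS.two.comap_subtype).map _, fun Y _ hY => ?_⟩
    set M := Y.comap K.prj
    obtain ⟨P⟩ := (inferInstance : Nonempty (Sylow 2 M))
    obtain ⟨d, hd, hdP⟩ := hSc.absorb (((P : Subgroup M).map M.subtype).map K.cT.subtype)
      (Subgroup.map_subtype_le _) ((P.isPGroup'.map _).map _)
    refine ⟨K.prj ⟨d, hd⟩, trivial, fun y hy => ?_⟩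
    let f : M →* Y := (K.prj.comp M.subtype).codRestrict Y fun m => m.2
    have hf : Function.Surjective f := fun y => by
      obtain ⟨u, hu⟩ := QuotientGroup.mk'_surjective _ (y.1)
      exact ⟨⟨u, show K.prj u ∈ Y by rw [show K.prj u = y from hu]; exact y.2⟩, Subtype.ext hu⟩
    have htop : ((P.mapSurjective hf : Sylow 2 Y) : Subgroup Y) = ⊤ := by
      exact ((P.mapSurjective hf : Sylow 2 Y).3 (hY.to_subgroup ⊤ : IsPGroup 2 (⊤ : Subgroup Y)) le_top).symm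
    obtain ⟨p, hp, e⟩ : (⟨y, hy⟩ : Y) ∈ (P : Subgroup M).map f := by
      rw [← Sylow.coe_mapSurjective hf, htop]
      exact Subgroup.mem_top _
    have e' : K.prj p = y := congrArg Subtype.val e
    rw [← e', ← map_inv, ← map_mul, ← map_mul]
    exact ⟨_, Subgroup.mem_subgroupOf.2 (hdP _ ⟨_, ⟨p, hp, rfl⟩, rfl⟩), rfl⟩
  · obtain ⟨y, rfl⟩ := QuotientGroup.mk'_surjective _ x
    rw [K.psi_eq (by decide)]
    show K.prj y * _ = _ * K.prj y
    rw [← map_mul, ← map_mul]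
    exact congrArg _ (Subtype.ext (K.mem_cT.1 y.2))
  · haveI : Group.IsSolvable ↥(Subgroup.centralizer ({φ iZ} : Set G)) := hsol
    infer_instance

/-- An element whose image acts by `f` on a list differs by the core from one acting by `f`. -/
theorem lift [Finite G] (hS : M12Syl.SylIn ⊤ S) (hsol : Group.IsSolvable K.cT) {l : List ℕ}
    (hl : lOK l = true) {f : ℕ → ℕ} (hf : ∀ i ∈ l, f i ∈ l) (x : K.cT)
    (hx : ∀ i ∈ l, K.prj x * K.psi i * (K.prj x)⁻¹ = K.psi (f i)) :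
    ∃ o ∈ K.theta, ∀ i ∈ l, o * x * φ i * (o * x)⁻¹ = φ (f i) := by
  classical
  set A := K.sub l
  have hAc : A ≤ K.cT := (K.sub_le hl).trans K.S_le_cT
  have hAn : A ≤ Subgroup.normalizer (K.theta : Set G) :=
    hAc.trans (Signalizer.centralizerPPrimeCore_normalized _)
  set D := K.theta ⊔ A
  have hD : ∀ {r : G}, r ∈ D → ∃ o ∈ K.theta, ∃ v ∈ A, o * v = r := fun {r} hr => by
    rw [← SetLike.mem_coe, Subgroup.coe_mul_of_right_le_normalizer_left _ _ hAn] at hr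
    exact Set.mem_mul.1 hr
  obtain ⟨R, hR, hAR⟩ := M12Syl.sylIn_exists D A le_sup_right (hS.two.to_le (K.sub_le hl))
  have hRA : R ≤ A := fun r hr => by
    obtain ⟨o, ho, v, hv, rfl⟩ := hD (hR.le hr)
    have : o = 1 := K.theta_inf hR.two ho (by simpa using mul_mem hr (inv_mem (hAR hv)))
    rwa [this, one_mul]
  have himg : ∀ i ∈ l, (x : G) * φ i * (x : G)⁻¹ ∈ D := fun i hi => by
    have hil := K.lt_of_lOK hl hi
    have hfl := K.lt_of_lOK hl (hf i hi)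
    have h := hx i hi
    rw [K.psi_eq hil, K.psi_eq hfl, ← map_inv, ← map_mul, ← map_mul, eq_comm, K.prj_eq] at h
    simp only [Subgroup.coe_mul, InvMemClass.coe_inv] at h
    rw [show (x : G) * φ i * (x : G)⁻¹ = φ (f i) * ((φ (f i))⁻¹ * ((x : G) * φ i * (x : G)⁻¹)) by group]
    exact mul_mem (Subgroup.mem_sup_right ((K.mem_sub hl).2 ⟨_, hf i hi, rfl⟩)) (Subgroup.mem_sup_left h)
  obtain ⟨d, hd, hdY⟩ := hR.absorb (A.map (MulAut.conj (x : G)).toMonoidHom) (by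
    rintro _ ⟨a, ha, rfl⟩
    obtain ⟨i, hi, rfl⟩ := (K.mem_sub hl).1 ha
    exact himg i hi) ((hS.two.to_le (K.sub_le hl)).map _)
  obtain ⟨o, ho, v, hv, e⟩ := hD (inv_mem hd)
  refine ⟨o⁻¹, inv_mem ho, fun i hi => ?_⟩
  have hmem : o⁻¹ * x * φ i * (o⁻¹ * x)⁻¹ ∈ A := by
    have h := hRA (hdY _ ⟨φ i, (K.mem_sub hl).2 ⟨i, hi, rfl⟩, rfl⟩)
    have h' := mul_mem (mul_mem hv h) (inv_mem hv)
    rw [show d = v⁻¹ * o⁻¹ by rw [← inv_inv d, ← e, mul_inv_rev]] at h'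
    simpa [mul_assoc] using h'
  obtain ⟨j, hj, ej⟩ := (K.mem_sub hl).1 hmem
  have hjl := K.lt_of_lOK hl hj
  have hil := K.lt_of_lOK hl hi
  have hoc : o⁻¹ ∈ K.cT := inv_mem (K.theta_le ho)
  have h1 : K.psi j = K.psi (f i) := by
    rw [← hx i hi, K.psi_eq hjl, K.psi_eq hil,
      show (⟨φ j, K.S_le_cT (K.mem j hjl)⟩ : K.cT) = ⟨o⁻¹, hoc⟩ * x * ⟨φ i, K.S_le_cT (K.mem i hil)⟩ *
        (⟨o⁻¹, hoc⟩ * x)⁻¹ from Subtype.ext ej, map_mul, map_mul, map_inv, map_mul,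
      (K.prj_eq_one).2 (inv_mem ho : ((⟨o⁻¹, hoc⟩ : K.cT) : G) ∈ K.theta), one_mul]
  rw [← ej, (K.loc hS hsol).hyp.inj j hjl _ (K.lt_of_lOK hl (hf i hi)) h1]

end Hyp

end CfsgLib.A8Syl
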