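import Cfsg.Agent.Lib.A8Syl.Cent

/-!
The four types of centralisers of the central involution.
-/

set_option autoImplicit false
set_option linter.style.haveILetI false
set_option linter.unusedSectionVars false

namespace CfsgLib.A8Syl

/-- iterates of the automorphism of order three -/
def tauP (j i : ℕ) : ℕ := bif j == 0 then i else bif j == 1 then tauI i else tauI (tauI i)

theorem tauI_facts : (∀ i < 64, tauI i < 64 ∧ tauI (tauI (tauI i)) = i) ∧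
    (∀ i < 16, tauI i < 16) ∧ (∀ i ∈ qL, chiI i ∈ qL) := by
  have h : (((List.range 64).all fun i => Nat.blt (tauI i) 64 && tauI (tauI (tauI i)) == i) &&
      ((List.range 16).all fun i => Nat.blt (tauI i) 16) && qL.all fun i => qL.contains (chiI i)) = true := by
    decide +kernel
  simp only [Bool.and_eq_true, List.all_eq_true, List.mem_range, Nat.blt_eq, beq_iff_eq,
    List.contains_iff_mem] at h
  exact ⟨h.1.1, h.1.2, h.2⟩

theorem cjI_sixteen : ∀ s < 64, ∀ e < 16, cjI s e < 16 := by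
  have h : ((List.range 64).all fun s => (List.range 16).all fun e => Nat.blt (cjI s e) 16) = true := by
    decide +kernel
  simp only [List.all_eq_true, List.mem_range, Nat.blt_eq] at h
  exact h

namespace Hyp

variable {G : Type*} [Group G] [Finite G] {φ : ℕ → G} {S : Subgroup G} (K : Hyp φ S)
  (hS : M12Syl.SylIn ⊤ S) (hsol : Group.IsSolvable K.cT)
include K hS hsol

/-- an element of order three moves the classes -/
def HasChi : Prop := (K.loc hS hsol).Has cChi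

/-- an element of order three normalises the Sylow subgroup -/
def HasTau : Prop := (K.loc hS hsol).Has cTau

theorem chi_lift (h : K.HasChi hS hsol) : ∃ a ∈ K.cT, ∀ i ∈ qL, a * φ i * a⁻¹ = φ (chiI i) := by
  obtain ⟨a, -, ha, -⟩ := (K.loc hS hsol).exists_chi h
  obtain ⟨x, rfl⟩ := QuotientGroup.mk'_surjective _ a
  obtain ⟨o, ho, h'⟩ := K.lift hS hsol qL_invol.2.2.1 tauI_facts.2.2 x ha
  exact ⟨o * x, mul_mem (K.theta_le ho) x.2, h'⟩

theorem tau_lift (h : K.HasTau hS hsol) : ∃ y ∈ K.cT, ∀ i < 64, y * φ i * y⁻¹ = φ (tauI i) := by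
  obtain ⟨y, -, hy⟩ := (K.loc hS hsol).exists_tau h
  obtain ⟨x, rfl⟩ := QuotientGroup.mk'_surjective _ y
  obtain ⟨o, ho, h'⟩ := K.lift hS hsol (l := List.range 64) (by decide +kernel)
    (fun i hi => List.mem_range.2 (tauI_facts.1 i (List.mem_range.1 hi)).1) x
    fun i hi => hy i (List.mem_range.1 hi)
  exact ⟨o * x, mul_mem (K.theta_le ho) x.2, fun i hi => h' i (List.mem_range.2 hi)⟩

theorem norm_q {x : G} (hx : x ∈ K.cT) :
    ∃ o ∈ K.theta, ∀ v ∈ K.sub qL, o * x * v * (o * x)⁻¹ ∈ K.sub qL := by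
  classical
  have L := K.loc hS hsol
  haveI := L.qS_normal
  obtain ⟨-, -, hqok, -⟩ := qL_invol
  have himg : ∀ i ∈ qL, ∃ j ∈ qL, K.prj ⟨x, hx⟩ * K.psi i * (K.prj ⟨x, hx⟩)⁻¹ = K.psi j := fun i hi => by
    obtain ⟨j, hj, e⟩ := (L.hyp.mem_sub hqok).1 (Subgroup.Normal.conj_mem inferInstance _
      ((L.hyp.mem_sub hqok).2 ⟨i, hi, rfl⟩) (K.prj ⟨x, hx⟩))
    exact ⟨j, hj, e.symm⟩
  choose f hf hfe using himg
  obtain ⟨o, ho, h⟩ := K.lift hS hsol hqok (f := fun i => if hi : i ∈ qL then f i hi else i)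
    (fun i hi => by rw [dif_pos hi]; exact hf i hi) ⟨x, hx⟩ fun i hi => by rw [dif_pos hi]; exact hfe i hi
  refine ⟨o, ho, fun v hv => ?_⟩
  obtain ⟨i, hi, rfl⟩ := (K.mem_sub hqok).1 hv
  rw [h i hi, dif_pos hi]
  exact (K.mem_sub hqok).2 ⟨_, hf i hi, rfl⟩

theorem of_tq {x : K.cT} (h : K.prj x ∈ K.tq) : ∃ i < 64, K.prj x = K.psi i := by
  obtain ⟨i, hi, e⟩ := (K.loc hS hsol).hyp.surj _ h
  exact ⟨i, hi, e.symm⟩

theorem theta_mul {x : G} (hx : x ∈ K.cT) {y : G} (hy : y ∈ K.cT)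
    (h : K.prj ⟨x, hx⟩ = K.prj ⟨y, hy⟩) : ∃ o ∈ K.theta, x = o * y := by
  rw [K.prj_eq] at h
  refine ⟨x * y⁻¹, ?_, by group⟩
  have h' := K.theta_conj (show y ∈ K.cT from hy) (inv_mem h)
  rwa [show y * ((x : G)⁻¹ * y)⁻¹ * y⁻¹ = x * y⁻¹ by simp] at h'

theorem none_factor (hc : ¬ K.HasChi hS hsol) (ht : ¬ K.HasTau hS hsol) {x : G} (hx : x ∈ K.cT) :
    ∃ o ∈ K.theta, ∃ s ∈ S, x = o * s := by
  obtain ⟨i, hi, e⟩ := K.of_tq hS hsol ((K.loc hS hsol).form_none hc ht (K.prj ⟨x, hx⟩))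
  rw [K.psi_eq hi] at e
  obtain ⟨o, ho, e'⟩ := K.theta_mul hS hsol hx _ e
  exact ⟨o, ho, φ i, K.mem i hi, e'⟩

theorem tau_factor (hc : ¬ K.HasChi hS hsol) {y : G} (hy : y ∈ K.cT)
    (hya : ∀ i < 64, y * φ i * y⁻¹ = φ (tauI i)) {x : G} (hx : x ∈ K.cT) :
    ∃ o ∈ K.theta, ∃ j < 3, ∃ s ∈ S, x = o * (y ^ j * s) := by
  have L := K.loc hS hsol
  have hy' : ∀ i < 64, K.prj ⟨y, hy⟩ * K.psi i * (K.prj ⟨y, hy⟩)⁻¹ = K.psi (tauI i) := fun i hi => by
    rw [K.psi_eq hi, K.psi_eq (tauI_facts.1 i hi).1, ← map_inv, ← map_mul, ← map_mul]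
    exact congrArg _ (Subtype.ext (hya i hi))
  obtain ⟨j, hj, hT⟩ := L.form_tau hc hy' (K.prj ⟨x, hx⟩)
  obtain ⟨i, hi, e⟩ := L.hyp.surj _ hT
  have e2 : K.prj ⟨x, hx⟩ = K.prj ⟨y ^ j * φ i, mul_mem (pow_mem hy j) (K.S_le_cT (K.mem i hi))⟩ := by
    rw [show (⟨y ^ j * φ i, mul_mem (pow_mem hy j) (K.S_le_cT (K.mem i hi))⟩ : K.cT) =
      ⟨y, hy⟩ ^ j * ⟨φ i, K.S_le_cT (K.mem i hi)⟩ from Subtype.ext rfl, map_mul, map_pow, ← K.psi_eq hi, e,
      mul_inv_cancel_left]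
  obtain ⟨o, ho, e'⟩ := K.theta_mul hS hsol hx _ e2
  exact ⟨o, ho, j, hj, φ i, K.mem i hi, e'⟩

theorem theta_fix {o : G} (ho : o ∈ K.theta) {v : G} (hv : v ∈ S) (h : o * v * o⁻¹ ∈ S) : o * v * o⁻¹ = v := by
  refine mul_inv_eq_one.1 (K.theta_inf hS.two ?_ (mul_mem h (inv_mem hv)))
  rw [show o * v * o⁻¹ * v⁻¹ = o * (v * o⁻¹ * v⁻¹) by group]
  exact mul_mem ho (K.theta_conj (K.S_le_cT hv) (inv_mem ho))

theorem norm_e_of_no_chi (hc : ¬ K.HasChi hS hsol) {x : G} (hx : x ∈ K.cT) :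
    ∃ o ∈ K.theta, ∀ v ∈ K.eS, o * x * v * (o * x)⁻¹ ∈ K.eS := by
  have hSE : ∀ {s : ℕ}, s < 64 → ∀ {v : G}, v ∈ K.eS → φ s * v * (φ s)⁻¹ ∈ K.eS := fun {s} hs {v} hv => by
    obtain ⟨e, he, rfl⟩ := K.mem_eS.1 hv
    rw [← K.conj_eq hs (by omega)]
    exact K.mem_eS.2 ⟨_, cjI_sixteen s hs e he, rfl⟩
  by_cases ht : K.HasTau hS hsol
  · obtain ⟨y, hy, hya⟩ := K.tau_lift hS hsol ht
    obtain ⟨o, ho, j, -, s, hs, rfl⟩ := K.tau_factor hS hsol hc hy hya hx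
    refine ⟨o⁻¹, inv_mem ho, fun v hv => ?_⟩
    obtain ⟨i, hi, rfl⟩ := K.surj s hs
    rw [inv_mul_cancel_left, show y ^ j * φ i * v * (y ^ j * φ i)⁻¹ = y ^ j * (φ i * v * (φ i)⁻¹) * (y ^ j)⁻¹ by
      group]
    have hv' := hSE hi hv
    generalize φ i * v * (φ i)⁻¹ = u at hv'
    clear hx
    induction j generalizing u with
    | zero => simpa using hv'
    | succ j ih =>
      rw [show y ^ (j + 1) * u * (y ^ (j + 1))⁻¹ = y ^ j * (y * u * y⁻¹) * (y ^ j)⁻¹ by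
        rw [pow_succ]; group]
      refine ih _ ?_
      obtain ⟨e, he, rfl⟩ := K.mem_eS.1 hv'
      rw [hya e (by omega)]
      exact K.mem_eS.2 ⟨_, tauI_facts.2.1 e he, rfl⟩
  · obtain ⟨o, ho, s, hs, rfl⟩ := K.none_factor hS hsol hc ht hx
    refine ⟨o⁻¹, inv_mem ho, fun v hv => ?_⟩
    obtain ⟨i, hi, rfl⟩ := K.surj s hs
    rw [inv_mul_cancel_left]
    exact hSE hi hv

/-- The stabiliser of the central involution in the normaliser of `E`. -/
theorem e_stab {x : G} (hx : x ∈ K.cT) (hxE : ∀ v ∈ K.eS, x * v * x⁻¹ ∈ K.eS) :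
    ∃ j < 3, ∃ s < 64, (j ≠ 0 → K.HasTau hS hsol) ∧ ∀ e < 16, x * φ e * x⁻¹ = φ (tauP j (cjI s e)) := by
  classical
  have L := K.loc hS hsol
  obtain ⟨-, -, hqok, -⟩ := qL_invol
  haveI := L.qS_normal
  set X := K.prj ⟨x, hx⟩ with hX
  have hXE : ∀ e < 16, ∃ e' < 16, x * φ e * x⁻¹ = φ e' ∧ X * K.psi e * X⁻¹ = K.psi e' := fun e he => by
    obtain ⟨e', he', h⟩ := K.mem_eS.1 (hxE _ (K.mem_eS.2 ⟨e, he, rfl⟩))
    refine ⟨e', he', h.symm, ?_⟩
    rw [hX, K.psi_eq (by omega), K.psi_eq (by omega), ← map_inv, ← map_mul, ← map_mul]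
    exact congrArg _ (Subtype.ext h.symm)
  have hXT : ∀ t ∈ K.tq, X * t * X⁻¹ ∈ K.tq := by
    intro t ht
    obtain ⟨i, hi, rfl⟩ := L.hyp.surj t ht
    have hq := sig_ok.2.2
    simp only [List.all_eq_true, List.mem_range, Bool.or_eq_true, List.contains_iff_mem] at hq
    rcases hq i hi with e | e
    · exact L.q_le (Subgroup.Normal.conj_mem inferInstance _ ((L.hyp.mem_sub hqok).2 ⟨i, e, rfl⟩) X)
    · obtain ⟨e', he', -, he2⟩ := hXE 2 (by norm_num)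
      have h1 : K.psi i = K.psi 2 * K.psi (mS 2 i) := by
        rw [L.hyp.mul 2 (by norm_num) i hi, ← mul_assoc, L.two_two, one_mul]
      rw [h1, show X * (K.psi 2 * K.psi (mS 2 i)) * X⁻¹ = X * K.psi 2 * X⁻¹ * (X * K.psi (mS 2 i) * X⁻¹) by
        group, he2]
      exact mul_mem (L.hyp.mem _ (by omega))
        (L.q_le (Subgroup.Normal.conj_mem inferInstance _ ((L.hyp.mem_sub hqok).2 ⟨_, e, rfl⟩) X))
  have hfin : ∀ {j : ℕ} {s : ℕ}, s < 64 → j < 3 → (j ≠ 0 → K.HasTau hS hsol) →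
      (∀ e < 16, X * K.psi e * X⁻¹ = K.psi (tauP j (cjI s e))) →
      ∃ j < 3, ∃ s < 64, (j ≠ 0 → K.HasTau hS hsol) ∧ ∀ e < 16, x * φ e * x⁻¹ = φ (tauP j (cjI s e)) := by
    intro j s hs hj htau h
    refine ⟨j, hj, s, hs, htau, fun e he => ?_⟩
    obtain ⟨e', he', h1, h2⟩ := hXE e he
    have hl : tauP j (cjI s e) < 64 := by
      have h1 := cjI_sixteen s hs e he
      interval_cases j
      · show cjI s e < 64; omega
      · exact (tauI_facts.1 _ (by omega)).1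
      · exact (tauI_facts.1 _ (tauI_facts.1 _ (by omega)).1).1
    rw [h1, L.hyp.inj e' (by omega) _ hl (h2.symm.trans (h e he))]
  have hcj : ∀ {s : ℕ}, s < 64 → ∀ e < 16, K.psi s * K.psi e * (K.psi s)⁻¹ = K.psi (cjI s e) := fun {s} hs e he =>
    (L.hyp.conj_eq hs (by omega)).symm
  by_cases ht : K.HasTau hS hsol
  · obtain ⟨y, hy3, hy⟩ := L.exists_tau ht
    have hyT : ∀ j < 3, ∀ i < 64, y ^ j * K.psi i * (y ^ j)⁻¹ = K.psi (tauP j i) := by
      intro j hj i hi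
      interval_cases j
      · simp [tauP]
      · rw [pow_one]; exact hy i hi
      · rw [pow_two, show y * y * K.psi i * (y * y)⁻¹ = y * (y * K.psi i * y⁻¹) * y⁻¹ by group, hy i hi,
          hy _ (tauI_facts.1 i hi).1]
        rfl
    have hxj : ∃ j < 3, (y ^ j)⁻¹ * X ∈ K.tq := by
      by_cases hc : K.HasChi hS hsol
      · obtain ⟨a, ha3, ha, hinv⟩ := L.exists_chi hc
        obtain ⟨i, hi, j, hj, hT⟩ := L.form_both ha hy X
        suffices hai : a ^ i = 1 by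
          refine ⟨j, hj, ?_⟩
          rwa [hai, one_mul] at hT
        refine L.chi_not_norm ha3 hinv fun t ht' => ?_
        set u := (a ^ i * y ^ j)⁻¹ * X with hu
        have hu' : a ^ i = X * u⁻¹ * (y ^ j)⁻¹ := by rw [hu]; group
        rw [hu', show X * u⁻¹ * (y ^ j)⁻¹ * t * (X * u⁻¹ * (y ^ j)⁻¹)⁻¹ =
          X * (u⁻¹ * ((y ^ j)⁻¹ * t * y ^ j) * u) * X⁻¹ by group]
        refine hXT _ (mul_mem (mul_mem (inv_mem hT) ?_) hT)
        obtain ⟨i', hi', rfl⟩ := L.hyp.surj t ht'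
        rcases (show j = 0 ∨ j = 1 ∨ j = 2 by omega) with rfl | rfl | rfl
        · simpa using L.hyp.mem i' hi'
        · rw [show (y ^ 1)⁻¹ = y ^ 2 from inv_eq_of_mul_eq_one_right (by rw [← pow_add, hy3]),
            show y ^ 2 * K.psi i' * y ^ 1 = y ^ 2 * K.psi i' * (y ^ 2)⁻¹ by
              rw [show (y ^ 2)⁻¹ = y ^ 1 from inv_eq_of_mul_eq_one_right (by rw [← pow_add, hy3])],
            hyT 2 (by norm_num) i' hi']
          exact L.hyp.mem _ (tauI_facts.1 _ (tauI_facts.1 _ hi').1).1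
        · rw [show (y ^ 2)⁻¹ = y ^ 1 from inv_eq_of_mul_eq_one_right (by rw [← pow_add, hy3]),
            show y ^ 1 * K.psi i' * y ^ 2 = y ^ 1 * K.psi i' * (y ^ 1)⁻¹ by
              rw [show (y ^ 1)⁻¹ = y ^ 2 from inv_eq_of_mul_eq_one_right (by rw [← pow_add, hy3])],
            hyT 1 (by norm_num) i' hi']
          exact L.hyp.mem _ (tauI_facts.1 _ hi').1
      · exact L.form_tau hc hy X
    obtain ⟨j, hj, hT⟩ := hxj
    obtain ⟨s, hs, es⟩ := L.hyp.surj _ hT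
    refine hfin hs hj (fun _ => ht) fun e he => ?_
    rw [show X = y ^ j * K.psi s by rw [es, mul_inv_cancel_left],
      show y ^ j * K.psi s * K.psi e * (y ^ j * K.psi s)⁻¹ = y ^ j * (K.psi s * K.psi e * (K.psi s)⁻¹) * (y ^ j)⁻¹ by
        group, hcj hs e he, hyT j hj _ (cjI_lt hs (by omega))]
  · have hXin : X ∈ K.tq := by
      by_cases hc : K.HasChi hS hsol
      · obtain ⟨a, ha3, ha, hinv⟩ := L.exists_chi hc
        obtain ⟨i, -, hT⟩ := L.form_chi ht ha X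
        have hai : a ^ i = 1 := by
          refine L.chi_not_norm ha3 hinv fun t ht' => ?_
          rw [show a ^ i = X * ((a ^ i)⁻¹ * X)⁻¹ by group,
            show X * ((a ^ i)⁻¹ * X)⁻¹ * t * (X * ((a ^ i)⁻¹ * X)⁻¹)⁻¹ =
              X * (((a ^ i)⁻¹ * X)⁻¹ * t * ((a ^ i)⁻¹ * X)) * X⁻¹ by group]
          exact hXT _ (mul_mem (mul_mem (inv_mem hT) ht') hT)
        rwa [hai, inv_one, one_mul] at hT
      · exact L.form_none hc ht X
    obtain ⟨s, hs, es⟩ := L.hyp.surj _ hXin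
    refine hfin hs (by norm_num : 0 < 3) (fun h => absurd rfl h) fun e he => ?_
    rw [← es]
    exact hcj hs e he

end Hyp

end CfsgLib.A8Syl
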