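import Cfsg.Agent.Lib.A8Syl.Kill

/-!
The centraliser of the central involution when its core is trivial.
-/

set_option autoImplicit false
set_option linter.style.haveILetI false
set_option linter.unusedSectionVars false

namespace CfsgLib.A8Syl

namespace Hyp

variable {G : Type*} [Group G] [Finite G] {φ : ℕ → G} {S : Subgroup G} (K : Hyp φ S)
  (hS : M12Syl.SylIn ⊤ S) (hsol : Group.IsSolvable K.cT) (hθ : K.theta = ⊥)
include K hS hsol hθ

omit hS hsol in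
theorem prj_inj {x y : K.cT} (h : K.prj x = K.prj y) : x = y := by
  rw [K.prj_eq, hθ, Subgroup.mem_bot, inv_mul_eq_one] at h
  exact Subtype.ext h

omit hS hsol in
theorem psi_conj {x : K.cT} {i j : ℕ} (hi : i < 64) (hj : j < 64)
    (h : K.prj x * K.psi i * (K.prj x)⁻¹ = K.psi j) : (x : G) * φ i * (x : G)⁻¹ = φ j := by
  rw [K.psi_eq hi, K.psi_eq hj, ← map_inv, ← map_mul, ← map_mul] at h
  exact congrArg Subtype.val (K.prj_inj hθ h)

omit hsol in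
theorem mem_of_prj {x : K.cT} (h : K.prj x ∈ K.tq) : (x : G) ∈ S := by
  obtain ⟨w, hw, e⟩ := h
  exact K.prj_inj hθ (show K.prj w = K.prj x from e) ▸ Subgroup.mem_subgroupOf.1 hw

/-- the element moving the classes -/
theorem chi_elt (h : K.HasChi hS hsol) : ∃ a : G, a ∈ K.cT ∧ a ^ 3 = 1 ∧
    (∀ i ∈ qL, a * φ i * a⁻¹ = φ (chiI i)) ∧ φ 2 * a * φ 2 = a⁻¹ ∧
    (∀ i, (∀ s ∈ S, a ^ i * s * (a ^ i)⁻¹ ∈ S) → a ^ i = 1) ∧
    (¬ K.HasTau hS hsol → ∀ x ∈ K.cT, ∃ i < 3, ∃ s < 64, x = a ^ i * φ s) ∧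
    (∀ y, y ∈ K.cT → (∀ i < 64, y * φ i * y⁻¹ = φ (tauI i)) → a * y = y * a ∧
      ∀ x ∈ K.cT, ∃ i < 3, ∃ j < 3, ∃ s < 64, x = a ^ i * y ^ j * φ s) := by
  have L := K.loc hS hsol
  obtain ⟨A, hA3, hA, hinv⟩ := L.exists_chi h
  obtain ⟨a, rfl⟩ := QuotientGroup.mk'_surjective _ A
  change (K.prj a) ^ 3 = 1 at hA3
  change L.Exact (K.prj a) chiI at hA
  change K.psi 2 * K.prj a * K.psi 2 = (K.prj a)⁻¹ at hinv
  have hqok := qL_invol.2.2.1
  refine ⟨a, a.2, ?_, fun i hi => ?_, ?_, fun i hn => ?_, fun ht x hx => ?_, fun y hy hya => ⟨?_, fun x hx => ?_⟩⟩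
  · exact congrArg Subtype.val (K.prj_inj hθ (x := a ^ 3) (y := 1) (by rw [map_pow, hA3, map_one]))
  · exact K.psi_conj hθ (K.lt_of_lOK hqok hi) (K.lt_of_lOK hqok (tauI_facts.2.2 i hi)) (hA i hi)
  · rw [K.psi_eq (by norm_num), ← map_inv, ← map_mul, ← map_mul] at hinv
    exact congrArg Subtype.val (K.prj_inj hθ hinv)
  · refine congrArg Subtype.val (K.prj_inj hθ (x := a ^ i) (y := 1) ?_)
    rw [map_pow, map_one]
    refine L.chi_not_norm hA3 hinv fun t ht => ?_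
    obtain ⟨w, hw, rfl⟩ := ht
    rw [← map_pow]
    change K.prj (a ^ i) * K.prj w * (K.prj (a ^ i))⁻¹ ∈ K.tq
    rw [← map_inv, ← map_mul, ← map_mul]
    exact ⟨_, Subgroup.mem_subgroupOf.2 (hn _ (Subgroup.mem_subgroupOf.1 hw)), rfl⟩
  · obtain ⟨i, hi, hT⟩ := L.form_chi ht hA (K.prj ⟨x, hx⟩)
    rw [← map_pow, ← map_inv, ← map_mul] at hT
    obtain ⟨s, hs, e⟩ := K.surj _ (K.mem_of_prj hS hθ hT)
    exact ⟨i, hi, s, hs, by rw [e]; simp⟩
  · have hy' : ∀ i < 64, K.prj ⟨y, hy⟩ * K.psi i * (K.prj ⟨y, hy⟩)⁻¹ = K.psi (tauI i) := fun i hi => by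
      rw [K.psi_eq hi, K.psi_eq (tauI_facts.1 i hi).1, ← map_inv, ← map_mul, ← map_mul]
      exact congrArg _ (Subtype.ext (hya i hi))
    have := L.chi_tau_comm hA3 hA hy'
    rw [← map_mul, ← map_mul] at this
    exact congrArg Subtype.val (K.prj_inj hθ this)
  · have hy' : ∀ i < 64, K.prj ⟨y, hy⟩ * K.psi i * (K.prj ⟨y, hy⟩)⁻¹ = K.psi (tauI i) := fun i hi => by
      rw [K.psi_eq hi, K.psi_eq (tauI_facts.1 i hi).1, ← map_inv, ← map_mul, ← map_mul]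
      exact congrArg _ (Subtype.ext (hya i hi))
    obtain ⟨i, hi, j, hj, hT⟩ := L.form_both hA hy' (K.prj ⟨x, hx⟩)
    rw [← map_pow, ← map_pow, ← map_mul, ← map_inv, ← map_mul] at hT
    obtain ⟨s, hs, e⟩ := K.surj _ (K.mem_of_prj hS hθ hT)
    exact ⟨i, hi, j, hj, s, hs, by rw [e]; simp [mul_assoc]⟩

/-- the element normalising the Sylow subgroup -/
theorem tau_elt (h : K.HasTau hS hsol) : ∃ y : G, y ∈ K.cT ∧ y ^ 3 = 1 ∧
    ∀ i < 64, y * φ i * y⁻¹ = φ (tauI i) := by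
  have L := K.loc hS hsol
  obtain ⟨Y, hY3, hY⟩ := L.exists_tau h
  obtain ⟨y, rfl⟩ := QuotientGroup.mk'_surjective _ Y
  change (K.prj y) ^ 3 = 1 at hY3
  exact ⟨y, y.2, congrArg Subtype.val (K.prj_inj hθ (x := y ^ 3) (y := 1) (by rw [map_pow, hY3, map_one])),
    fun i hi => K.psi_conj hθ hi (tauI_facts.1 i hi).1 (hY i hi)⟩

omit hsol hθ in
theorem eq_one_of_pow_three {v : G} (h : v ^ 3 = 1) (hv : v ∈ S) : v = 1 := by
  have h3 := orderOf_dvd_of_pow_eq_one h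
  obtain ⟨k, hk⟩ := (IsPGroup.iff_orderOf (p := 2)).1 hS.two ⟨v, hv⟩
  rw [Subgroup.orderOf_mk] at hk
  refine orderOf_eq_one_iff.1 ((Nat.dvd_prime Nat.prime_three).1 h3 |>.resolve_right fun e => ?_)
  rw [e] at hk
  rcases k with _ | k
  · norm_num at hk
  · rw [pow_succ] at hk; omega

end Hyp

end CfsgLib.A8Syl
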