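import Cfsg.Agent.Lib.A8Syl.CentR

/-!
The subgroup generated by the elements of odd order of such a centraliser.
-/

set_option autoImplicit false
set_option linter.style.haveILetI false
set_option linter.unusedSectionVars false

namespace CfsgLib.A8Syl

open CfsgLib.PSpFourRecog (app app_lt comp code_ext app_comp)

variable {G : Type*} [Group G] [Finite G]

/-- A subgroup with a Sylow 2-subgroup and all elements of odd order is everything. -/
theorem le_of_odd_sylow {X R N : Subgroup G} (hR : M12Syl.SylIn X R) (hRN : R ≤ N)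
    (hodd : ∀ x ∈ X, ¬ 2 ∣ orderOf x → x ∈ N) : X ≤ N := by
  suffices Nat.card X ∣ Nat.card ↥(X ⊓ N) by
    have h := Subgroup.eq_of_le_of_card_ge (inf_le_left : X ⊓ N ≤ X) (Nat.le_of_dvd Nat.card_pos this)
    exact inf_eq_left.mp h
  rw [← Nat.factorization_le_iff_dvd Nat.card_pos.ne' Nat.card_pos.ne']
  intro q
  by_cases hq : q.Prime
  swap
  · simp [Nat.factorization_eq_zero_of_not_prime _ hq]
  haveI := Fact.mk hq
  rw [← Nat.Prime.pow_dvd_iff_le_factorization hq Nat.card_pos.ne']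
  obtain ⟨Q⟩ := (inferInstance : Nonempty (Sylow q X))
  have hQc : Nat.card ((Q : Subgroup X).map X.subtype) = q ^ (Nat.card X).factorization q := by
    rw [Subgroup.card_map_of_injective X.subtype_injective, Q.card_eq_multiplicity]
  by_cases h2 : q = 2
  · subst h2
    refine Dvd.dvd.trans ?_ (Subgroup.card_dvd_of_le (le_inf hR.le hRN))
    rw [← hQc]
    exact hR.card_dvd (Subgroup.map_subtype_le _) (Q.isPGroup'.map _)
  · rw [← hQc]
    refine Subgroup.card_dvd_of_le ?_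
    rintro _ ⟨y, hy, rfl⟩
    refine Subgroup.mem_inf.2 ⟨y.2, hodd _ y.2 fun hd => ?_⟩
    obtain ⟨k, hk⟩ := (IsPGroup.iff_orderOf.1 Q.isPGroup') ⟨y, hy⟩
    rw [Subgroup.orderOf_mk] at hk
    rw [Subgroup.coe_subtype, Subgroup.orderOf_coe, hk] at hd
    exact h2 ((Nat.prime_dvd_prime_iff_eq Nat.prime_two hq).1 (Nat.prime_two.dvd_of_dvd_pow hd)).symm

/-- The core of a normal subgroup of a centraliser lies in the core of the centraliser. -/
theorem core_sub_le {v : G} {H : Subgroup G} (hH : H ≤ Subgroup.centralizer ({v} : Set G))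
    (hn : ∀ g ∈ Subgroup.centralizer ({v} : Set G), ∀ x ∈ H, g * x * g⁻¹ ∈ H) :
    (Cfsg.pPrimeCore 2 H).map H.subtype ≤ Cfsg.centralizerPPrimeCore 2 v := by
  haveI := Fact.mk Nat.prime_two
  refine Signalizer.le_centralizerPPrimeCore ((Subgroup.map_subtype_le _).trans hH)
    (Signalizer.le_normalizer_of_forall fun g hg y hy => ?_) ?_
  · obtain ⟨z, hz, rfl⟩ := hy
    let e : H →* H :=
      { toFun := fun l => ⟨g * l * g⁻¹, hn g hg l l.2⟩
        map_one' := Subtype.ext (by simp)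
        map_mul' := fun a b => Subtype.ext (by simp [mul_assoc]) }
    have he : Function.Surjective e := Finite.surjective_of_injective fun a b h => Subtype.ext
      (mul_left_cancel (mul_right_cancel (congrArg Subtype.val h)))
    haveI := Transfer.pPrimeCore_normal 2 H
    refine ⟨e z, Transfer.le_pPrimeCore (Subgroup.Normal.map inferInstance e he) ?_ ⟨z, hz, rfl⟩, rfl⟩
    exact Nat.Coprime.coprime_dvd_left (Subgroup.card_map_dvd _ e) (Transfer.pPrimeCore_coprime 2)
  · rw [Subgroup.card_map_of_injective H.subtype_injective]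
    exact Transfer.pPrimeCore_coprime 2

/-- the elements of odd order of a centraliser generate this -/
def oRes (v : G) : Subgroup G :=
  Subgroup.closure {x | x ∈ Subgroup.centralizer ({v} : Set G) ∧ ¬ 2 ∣ orderOf x}

theorem oRes_le (v : G) : oRes v ≤ Subgroup.centralizer ({v} : Set G) :=
  (Subgroup.closure_le _).2 fun _ h => h.1

theorem mem_oRes {v x : G} (hx : x ∈ Subgroup.centralizer ({v} : Set G)) (h : ¬ 2 ∣ orderOf x) : x ∈ oRes v :=
  Subgroup.subset_closure ⟨hx, h⟩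

theorem oRes_conj {v g x : G} (hg : g ∈ Subgroup.centralizer ({v} : Set G)) (hx : x ∈ oRes v) :
    g * x * g⁻¹ ∈ oRes v := by
  induction hx using Subgroup.closure_induction with
  | mem y hy =>
    refine mem_oRes (mul_mem (mul_mem hg hy.1) (inv_mem hg)) ?_
    rw [← MulAut.conj_apply, MulEquiv.orderOf_eq]
    exact hy.2
  | one => simp
  | mul a b _ _ ha hb => rw [show g * (a * b) * g⁻¹ = g * a * g⁻¹ * (g * b * g⁻¹) by group]; exact mul_mem ha hb
  | inv a _ ha => rw [show g * a⁻¹ * g⁻¹ = (g * a * g⁻¹)⁻¹ by group]; exact inv_mem ha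

/-- the groups, involutions and bounds for the subgroup -/
def boundL : List (List ℕ × ℕ × List ℕ) := [(std36, 11, [0, 7, 9, 14]), (std12, 10, [0]), (std12, 11, [0])]

theorem bound_ok : (boundL.all fun p => pairsL.contains (p.1, p.2.1) &&
    p.2.2.all (fun w => Nat.blt w 16) && p.2.2.contains 0 &&
    p.2.2.all (fun a => p.2.2.all fun b => p.2.2.contains (a ^^^ b)) &&
    p.1.all fun c => app c p.2.1 != p.2.1 ||
      ((List.range 16).all fun e => p.2.2.contains (app c e ^^^ e)) || (comp c c == cOne && c != cOne)) = true := by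
  decide +kernel

namespace Hyp

variable {φ : ℕ → G} {S : Subgroup G} (K : Hyp φ S)
include K

theorem oRes_le_H {r : ℕ} {H : Subgroup G} (hH : K.IsH r H) : oRes (φ r) ≤ H :=
  (Subgroup.closure_le _).2 fun x hx => hH.odd_mem x hx.1 hx.2

theorem code_one {x : G} {c : ℕ} (hx : ∀ e < 16, x * φ e * x⁻¹ = φ (app c e)) (hxE : x ∈ K.eS) :
    ∀ e < 16, app c e = e := fun e he => by
  have h := hx e he
  rw [K.eS_comm hxE (K.mem_eS.2 ⟨e, he, rfl⟩), mul_inv_cancel_right] at h
  exact (K.inj e (by omega) _ (by have := app_lt c e; omega) h).symm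

set_option maxHeartbeats 1000000 in
theorem oRes_inter {l : List ℕ} {r : ℕ} {W : List ℕ} (hl : K.Shape l) (hp : (l, r, W) ∈ boundL)
    {H : Subgroup G} (hH : K.IsH r H) : ∀ e < 16, φ e ∈ oRes (φ r) → e ∈ W := by
  classical
  haveI := Fact.mk Nat.prime_two
  have hb := List.all_eq_true.1 bound_ok _ hp
  simp only [Bool.and_eq_true, List.all_eq_true, List.mem_range, Bool.or_eq_true, List.contains_iff_mem,
    bne_iff_ne, beq_iff_eq, Nat.blt_eq] at hb
  obtain ⟨⟨⟨⟨-, hW16⟩, hW0⟩, hWx⟩, hcode⟩ := hb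
  have hr16 : r < 16 := by
    simp only [boundL, List.mem_cons, List.not_mem_nil, or_false, Prod.mk.injEq] at hp
    omega
  set EH : Subgroup H := K.eS.subgroupOf H with hEH
  have hEp : IsPGroup 2 EH := K.eS_two.comap_subtype
  obtain ⟨P, hP⟩ : ∃ P : Sylow 2 H, (P : Subgroup H) = EH := by
    obtain ⟨P, hP⟩ := hEp.exists_le_sylow
    refine ⟨P, (Subgroup.eq_of_le_of_card_ge hP ?_).symm⟩
    show Nat.card ↥(P : Subgroup H) ≤ Nat.card ↥EH
    rw [hEH, Nat.card_congr (Subgroup.subgroupOfEquivOfLe hH.e_le).toEquiv,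
      ← Subgroup.card_map_of_injective H.subtype_injective]
    exact hH.syl.card_le (Subgroup.map_subtype_le _) (P.isPGroup'.map _)
  have hmemP : ∀ x : H, x ∈ (P : Subgroup H) ↔ (x : G) ∈ K.eS := fun x => by rw [hP]; rfl
  have hcommP : ∀ a b : (P : Subgroup H), a * b = b * a := fun a b => Subtype.ext (Subtype.ext
    (K.eS_comm ((hmemP _).1 a.2) ((hmemP _).1 b.2)))
  letI : CommGroup (P : Subgroup H) :=
    { (inferInstance : Group (P : Subgroup H)) with mul_comm := hcommP }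
  have hab : IsMulCommutative (P : Subgroup H) := ⟨⟨hcommP⟩⟩
  let Wsub : Subgroup (P : Subgroup H) :=
    { carrier := {x | ∃ w ∈ W, φ w = ((x : H) : G)}
      one_mem' := ⟨0, hW0, K.one⟩
      mul_mem' := by
        rintro a b ⟨u, hu, eu⟩ ⟨v, hv, ev⟩
        exact ⟨_, hWx u hu v hv, by rw [← K.eS_mul (hW16 u hu) (hW16 v hv), eu, ev]; rfl⟩
      inv_mem' := by
        rintro a ⟨u, hu, eu⟩
        refine ⟨u, hu, ?_⟩
        show φ u = ((a : H) : G)⁻¹
        rw [← eu, inv_eq_of_mul_eq_one_right (K.eS_sq (K.mem_eS.2 ⟨u, hW16 u hu, rfl⟩))] }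
  let p : (P : Subgroup H) →* (P : Subgroup H) ⧸ Wsub := QuotientGroup.mk' Wsub
  set f := MonoidHom.transfer p
  intro e he heO
  by_contra hne
  set eH : H := ⟨φ e, hH.e_le (K.mem_eS.2 ⟨e, he, rfl⟩)⟩
  have heP : eH ∈ (P : Subgroup H) := (hmemP eH).2 (K.mem_eS.2 ⟨e, he, rfl⟩)
  have he2 : eH * eH = 1 := Subtype.ext (K.eS_sq (K.mem_eS.2 ⟨e, he, rfl⟩))
  -- odd elements are killed
  have hker : oRes (φ r) ≤ f.ker.map H.subtype := (Subgroup.closure_le _).2 fun x hx => by
    refine ⟨⟨x, hH.odd_mem x hx.1 hx.2⟩, MonoidHom.mem_ker.2 (orderOf_eq_one_iff.1 ?_), rfl⟩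
    obtain ⟨k, hk⟩ := (IsPGroup.iff_orderOf.1 (P.isPGroup'.to_quotient Wsub)) (f ⟨x, hH.odd_mem x hx.1 hx.2⟩)
    rcases k with _ | k
    · simpa using hk
    refine absurd ?_ hx.2
    rw [← Subgroup.orderOf_mk (H := H) x (hH.odd_mem x hx.1 hx.2)]
    exact (dvd_pow_self 2 (Nat.succ_ne_zero k)).trans (hk ▸ orderOf_map_dvd f _)
  obtain ⟨u, hu, eu⟩ := hker heO
  have hfe : f eH = 1 := by rw [show eH = u from Subtype.ext eu.symm]; exact hu
  -- controlled
  have key : ∀ (k : ℕ) (a : H) (h : a⁻¹ * eH ^ k * a ∈ (P : Subgroup H)),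
      p ⟨_, h⟩ = p ⟨eH, heP⟩ ^ k := by
    intro k a h
    obtain ⟨n, hn, en⟩ := Transfer.exists_normalizer_conj_of_isMulCommutative P hab (pow_mem heP k) a⁻¹
      (by rwa [inv_inv])
    rw [inv_inv] at en
    rw [← map_pow, show (⟨a⁻¹ * eH ^ k * a, h⟩ : (P : Subgroup H)) =
      ⟨n * eH ^ k * n⁻¹, en.symm ▸ h⟩ from Subtype.ext en.symm]
    rw [show (⟨eH, heP⟩ : (P : Subgroup H)) ^ k = ⟨eH ^ k, pow_mem heP k⟩ from Subtype.ext rfl]
    have hnE : ∀ v ∈ K.eS, (n : G) * v * (n : G)⁻¹ ∈ K.eS := fun v hv =>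
      (hmemP _).1 ((Subgroup.mem_normalizer_iff.1 hn ⟨v, hH.e_le hv⟩).1 ((hmemP _).2 hv))
    obtain ⟨c, hc, hcn⟩ := K.exists_hasCode hnE
    have hcr : app c r = r := by
      have h1 := hcn r hr16
      rw [mul_inv_eq_iff_eq_mul.2 (Subgroup.mem_centralizer_singleton_iff.1 (hH.le n.2))] at h1
      exact (K.inj r (by omega) _ (by have := app_lt c r; omega) h1).symm
    rcases hcode c ((hl c).1 hc) with (h1 | h1) | ⟨hcc, hc1⟩
    · exact absurd hcr h1
    · refine QuotientGroup.eq.2 ?_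
      obtain ⟨e', he', ee'⟩ : ∃ e' < 16, φ e' = ((eH ^ k : H) : G) :=
        K.mem_eS.1 ((hmemP _).1 (pow_mem heP k))
      refine ⟨app c e' ^^^ e', h1 e' he', ?_⟩
      show φ (app c e' ^^^ e') = ((n : G) * ((eH ^ k : H) : G) * (n : G)⁻¹)⁻¹ * ((eH ^ k : H) : G)
      rw [← ee', hcn e' he', inv_eq_of_mul_eq_one_right (K.eS_sq (K.mem_eS.2 ⟨_, app_lt c e', rfl⟩)),
        K.eS_mul (app_lt c e') he']
    · exfalso
      obtain ⟨s, m, hm, hnm⟩ := Nat.exists_eq_two_pow_mul_odd (orderOf_pos (n : G)).ne'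
      have hpow : ∀ j e, e < 16 → (n : G) ^ (2 * j + 1) * φ e * ((n : G) ^ (2 * j + 1))⁻¹ = φ (app c e) := by
        intro j
        induction j with
        | zero => intro e he; rw [pow_one]; exact hcn e he
        | succ j ih =>
          intro e he
          rw [show 2 * (j + 1) + 1 = (2 * j + 1) + 1 + 1 by ring, pow_succ', pow_succ',
            show (n : G) * ((n : G) * (n : G) ^ (2 * j + 1)) * φ e *
              ((n : G) * ((n : G) * (n : G) ^ (2 * j + 1)))⁻¹ =
              (n : G) * ((n : G) * ((n : G) ^ (2 * j + 1) * φ e * ((n : G) ^ (2 * j + 1))⁻¹) * (n : G)⁻¹) *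
                (n : G)⁻¹ by group, ih e he, hcn _ (app_lt _ _), hcn _ (app_lt _ _)]
          have h2 : app c (app c (app c e)) = app c e := by
            rw [← app_comp c c _ (app_lt _ _), hcc, app_one _ (app_lt _ _)]
          rw [h2]
      obtain ⟨j, rfl⟩ := hm
      set y : G := (n : G) ^ (2 * j + 1) with hy
      have hyH : y ∈ H := pow_mem n.2 _
      have hy2 : IsPGroup 2 (Subgroup.zpowers y) := IsPGroup.of_card (n := s) (by
        rw [Nat.card_zpowers, hy, orderOf_pow' _ (by omega), hnm,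
          Nat.gcd_eq_right (dvd_mul_left _ _), Nat.mul_div_cancel _ (by omega)])
      have hyn : Subgroup.zpowers y ≤ Subgroup.normalizer (K.eS : Set G) := Subgroup.zpowers_le.2
        (normalizer_of_forall fun v hv => by
          obtain ⟨e, he, rfl⟩ := K.mem_eS.1 hv
          rw [hy, hpow j e he]
          exact K.mem_eS.2 ⟨_, app_lt _ _, rfl⟩)
      have hY : IsPGroup 2 ↥(K.eS ⊔ Subgroup.zpowers y) := K.eS_two.to_sup_of_normal_left' hy2 hyn
      have hle := hH.syl.card_le (sup_le hH.e_le (Subgroup.zpowers_le.2 hyH)) hY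
      have hyE : y ∈ K.eS := by
        rw [Subgroup.eq_of_le_of_card_ge (le_sup_left : K.eS ≤ K.eS ⊔ Subgroup.zpowers y) hle]
        exact Subgroup.mem_sup_right (Subgroup.mem_zpowers y)
      refine hc1 (code_ext hc.1 (by decide) fun e he => ?_)
      rw [app_one e he]
      exact K.code_one (fun e he => hpow j e he) hyE e he
  have h1 := Transfer.transfer_eq_pow_of_controlled p heP key
  rw [hfe] at h1
  refine Transfer.pow_ne_one_of_coprime_prime (a := p ⟨eH, heP⟩) ?_ (fun hp1 => ?_)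
    (Nat.prime_two.coprime_iff_not_dvd.mpr P.not_dvd_index) h1.symm
  · exact ⟨1, by rw [← map_pow, show (⟨eH, heP⟩ : (P : Subgroup H)) ^ 2 ^ 1 = 1 from Subtype.ext (by
      rw [pow_one, pow_two]; exact he2), map_one]⟩
  · obtain ⟨w, hw, ew⟩ := (QuotientGroup.eq_one_iff _).1 hp1
    exact hne (K.inj w (by have := hW16 w hw; omega) e (by omega) ew ▸ hw)

/-- With the smallest bound the centraliser is a product of a core and a part of `S`. -/
theorem le_of_trivial {r : ℕ} {H : Subgroup G} (hH : K.IsH r H)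
    (hW : ∀ e < 16, φ e ∈ oRes (φ r) → e = 0)
    (hR : M12Syl.SylIn (Subgroup.centralizer ({φ r} : Set G)) (K.sub (centI r))) {M : Subgroup G}
    (hθ : Cfsg.centralizerPPrimeCore 2 (φ r) ≤ M) (hRM : K.sub (centI r) ≤ M) :
    Subgroup.centralizer ({φ r} : Set G) ≤ M := by
  haveI := Fact.mk Nat.prime_two
  have hodd : ¬ 2 ∣ Nat.card (oRes (φ r)) := by
    intro hd
    obtain ⟨i, hi⟩ := exists_prime_orderOf_dvd_card' (G := oRes (φ r)) 2 hd
    rw [← Subgroup.orderOf_coe] at hi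
    obtain ⟨d, hd, hdE⟩ := hH.syl.absorb (Subgroup.zpowers (i : G))
      (Subgroup.zpowers_le.2 (K.oRes_le_H hH i.2))
      (IsPGroup.of_card (n := 1) (by rw [Nat.card_zpowers, hi]; rfl))
    obtain ⟨e, he, ee⟩ := K.mem_eS.1 (hdE _ (Subgroup.mem_zpowers _))
    have h0 := hW e he (ee ▸ oRes_conj (hH.le hd) i.2)
    rw [h0, K.one, eq_comm, conj_eq_one_iff] at ee
    rw [ee, orderOf_one] at hi
    omega
  refine le_of_odd_sylow hR hRM fun x hx hxo => hθ ?_
  exact Signalizer.le_centralizerPPrimeCore (oRes_le _)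
    (Signalizer.le_normalizer_of_forall fun g hg y hy => oRes_conj hg hy)
    ((Nat.prime_two.coprime_iff_not_dvd).2 hodd).symm (mem_oRes hx hxo)

/-- When `φ 3` is isolated the centraliser is generated by a core, its centraliser and a part of `S`. -/
theorem isolated_three (hl : K.Shape std60) {H : Subgroup G} (hH : K.IsH 11 H) :
    ∀ x ∈ H, ∃ o ∈ Cfsg.centralizerPPrimeCore 2 (φ 11), o ∈ H ∧ o * x * φ 3 = φ 3 * (o * x) := by
  classical
  haveI := Fact.mk Nat.prime_two
  set EH : Subgroup H := K.eS.subgroupOf H with hEH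
  have hEp : IsPGroup 2 EH := K.eS_two.comap_subtype
  obtain ⟨P, hP⟩ : ∃ P : Sylow 2 H, (P : Subgroup H) = EH := by
    obtain ⟨P, hP⟩ := hEp.exists_le_sylow
    refine ⟨P, (Subgroup.eq_of_le_of_card_ge hP ?_).symm⟩
    show Nat.card ↥(P : Subgroup H) ≤ Nat.card ↥EH
    rw [hEH, Nat.card_congr (Subgroup.subgroupOfEquivOfLe hH.e_le).toEquiv,
      ← Subgroup.card_map_of_injective H.subtype_injective]
    exact hH.syl.card_le (Subgroup.map_subtype_le _) (P.isPGroup'.map _)
  have hmemP : ∀ x : H, x ∈ (P : Subgroup H) ↔ (x : G) ∈ K.eS := fun x => by rw [hP]; rfl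
  have hab : IsMulCommutative (P : Subgroup H) := ⟨⟨fun a b => Subtype.ext (Subtype.ext
    (K.eS_comm ((hmemP _).1 a.2) ((hmemP _).1 b.2)))⟩⟩
  have h3E : φ 3 ∈ K.eS := K.mem_eS.2 ⟨3, by norm_num, rfl⟩
  set t : H := ⟨φ 3, hH.e_le h3E⟩ with ht
  have ht2 : orderOf (φ 3) = 2 := Invol.orderOf_two_of_mul_self (K.eS_sq h3E)
    fun h => by rw [K.eq_one_iff (by norm_num)] at h; omega
  have hiso : ∀ g : H, g * t * g⁻¹ ∈ (P : Subgroup H) → g * t * g⁻¹ = t := by
    intro g hg
    obtain ⟨n, hn, en⟩ := Transfer.exists_normalizer_conj_of_isMulCommutative P hab ((hmemP t).2 h3E) g hg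
    have hnE : ∀ v ∈ K.eS, (n : G) * v * (n : G)⁻¹ ∈ K.eS := fun v hv =>
      (hmemP _).1 ((Subgroup.mem_normalizer_iff.1 hn ⟨v, hH.e_le hv⟩).1 ((hmemP _).2 hv))
    obtain ⟨c, hc, hcn⟩ := K.exists_hasCode hnE
    have hcr : app c 11 = 11 := by
      have h1 := hcn 11 (by norm_num)
      rw [mul_inv_eq_iff_eq_mul.2 (Subgroup.mem_centralizer_singleton_iff.1 (hH.le n.2))] at h1
      exact (K.inj 11 (by norm_num) _ (by have := app_lt c 11; omega) h1).symm
    have hchk : (std60.all fun c => app c 11 != 11 || app c 3 == 3 || (comp c c == cOne && c != cOne)) = true := by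
      decide +kernel
    simp only [List.all_eq_true, Bool.or_eq_true, bne_iff_ne, beq_iff_eq, Bool.and_eq_true] at hchk
    rw [← en]
    rcases hchk c ((hl c).1 hc) with (h1 | h1) | ⟨hcc, hc1⟩
    · exact absurd hcr h1
    · refine Subtype.ext ?_
      show (n : G) * φ 3 * (n : G)⁻¹ = φ 3
      rw [hcn 3 (by norm_num), h1]
    · exfalso
      obtain ⟨s, m, hm, hnm⟩ := Nat.exists_eq_two_pow_mul_odd (orderOf_pos (n : G)).ne'
      obtain ⟨j, rfl⟩ := hm
      have hpow : ∀ i e, e < 16 → (n : G) ^ (2 * i + 1) * φ e * ((n : G) ^ (2 * i + 1))⁻¹ = φ (app c e) := by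
        intro i
        induction i with
        | zero => intro e he; rw [pow_one]; exact hcn e he
        | succ i ih =>
          intro e he
          rw [show 2 * (i + 1) + 1 = (2 * i + 1) + 1 + 1 by ring, pow_succ', pow_succ',
            show (n : G) * ((n : G) * (n : G) ^ (2 * i + 1)) * φ e *
              ((n : G) * ((n : G) * (n : G) ^ (2 * i + 1)))⁻¹ =
              (n : G) * ((n : G) * ((n : G) ^ (2 * i + 1) * φ e * ((n : G) ^ (2 * i + 1))⁻¹) * (n : G)⁻¹) *
                (n : G)⁻¹ by group, ih e he, hcn _ (app_lt _ _), hcn _ (app_lt _ _),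
            ← app_comp c c _ (app_lt _ _), hcc, app_one _ (app_lt _ _)]
      set y : G := (n : G) ^ (2 * j + 1) with hy
      have hy2 : IsPGroup 2 (Subgroup.zpowers y) := IsPGroup.of_card (n := s) (by
        rw [Nat.card_zpowers, hy, orderOf_pow' _ (by omega), hnm,
          Nat.gcd_eq_right (dvd_mul_left _ _), Nat.mul_div_cancel _ (by omega)])
      have hyn : Subgroup.zpowers y ≤ Subgroup.normalizer (K.eS : Set G) := Subgroup.zpowers_le.2
        (normalizer_of_forall fun v hv => by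
          obtain ⟨e, he, rfl⟩ := K.mem_eS.1 hv
          rw [hy, hpow j e he]
          exact K.mem_eS.2 ⟨_, app_lt _ _, rfl⟩)
      have hle := hH.syl.card_le (sup_le hH.e_le (Subgroup.zpowers_le.2 (pow_mem n.2 _)))
        (K.eS_two.to_sup_of_normal_left' hy2 hyn)
      refine hc1 (code_ext hc.1 (by decide) fun e he => ?_)
      rw [app_one e he]
      refine K.code_one (fun e he => hpow j e he) ?_ e he
      rw [Subgroup.eq_of_le_of_card_ge (le_sup_left : K.eS ≤ K.eS ⊔ Subgroup.zpowers y) hle]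
      exact Subgroup.mem_sup_right (Subgroup.mem_zpowers y)
  obtain ⟨N, hN, hNodd, hcomm⟩ := ZStar.exists_normal_odd_commutator_mem P t
    (by rw [← Subgroup.orderOf_coe]; exact ht2) ((hmemP t).2 h3E) hiso
  set O := N.map H.subtype with hO
  have hOθ : O ≤ Cfsg.centralizerPPrimeCore 2 (φ 11) :=
    (Subgroup.map_mono (Transfer.le_pPrimeCore hN (Nat.coprime_two_right.2 hNodd))).trans
      (core_sub_le hH.le hH.conj)
  have hOo : ¬ 2 ∣ Nat.card O := by
    rw [hO, Subgroup.card_map_of_injective H.subtype_injective]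
    exact hNodd.not_two_dvd_nat
  have h3O : ∀ o ∈ O, φ 3 * o * (φ 3)⁻¹ ∈ O := by
    rintro _ ⟨o, ho, rfl⟩
    exact ⟨t * o * t⁻¹, hN.conj_mem o ho t, rfl⟩
  have h33 := K.eS_sq h3E
  intro x hx
  have hd : φ 3 * x * (φ 3)⁻¹ * x⁻¹ ∈ O := ⟨_, hcomm ⟨x, hx⟩, rfl⟩
  let σ : Equiv.Perm O := Function.Involutive.toPerm
    (fun o => (⟨φ 3 * o * (φ 3)⁻¹ * (φ 3 * x * (φ 3)⁻¹ * x⁻¹), mul_mem (h3O o o.2) hd⟩ : O))
    (fun o => Subtype.ext (by
      show φ 3 * (φ 3 * (o : G) * (φ 3)⁻¹ * (φ 3 * x * (φ 3)⁻¹ * x⁻¹)) * (φ 3)⁻¹ *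
        (φ 3 * x * (φ 3)⁻¹ * x⁻¹) = o
      rw [inv_eq_of_mul_eq_one_right h33]
      calc φ 3 * (φ 3 * (o : G) * φ 3 * (φ 3 * x * φ 3 * x⁻¹)) * φ 3 * (φ 3 * x * φ 3 * x⁻¹)
          = φ 3 * φ 3 * o * (φ 3 * φ 3) * x * φ 3 * x⁻¹ * (φ 3 * φ 3) * x * φ 3 * x⁻¹ := by group
        _ = o * x * (φ 3 * φ 3) * x⁻¹ := by simp only [h33, one_mul, mul_one, inv_mul_cancel_right, mul_assoc]; simp [← mul_assoc, h33]
        _ = o := by rw [h33]; group))
  haveI := Fintype.ofFinite O
  obtain ⟨o, ho⟩ := Equiv.Perm.exists_fixed_point_of_prime (p := 2) (n := 1)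
    (by rw [← Nat.card_eq_fintype_card]; exact hOo) (σ := σ) (by
      ext1 o
      rw [pow_one, pow_two, Equiv.Perm.mul_apply, Equiv.Perm.one_apply]
      exact Function.Involutive.toPerm_involutive _ o)
  refine ⟨o, hOθ o.2, Subgroup.map_subtype_le _ o.2, ?_⟩
  have h : φ 3 * (o : G) * (φ 3)⁻¹ * (φ 3 * x * (φ 3)⁻¹ * x⁻¹) = (o : G) := congrArg Subtype.val ho
  rw [eq_comm, ← mul_inv_eq_iff_eq_mul]
  calc φ 3 * ((o : G) * x) * (φ 3)⁻¹ = φ 3 * (o : G) * (φ 3)⁻¹ * (φ 3 * x * (φ 3)⁻¹ * x⁻¹) * x := by group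
    _ = o * x := by rw [h]

end Hyp

end CfsgLib.A8Syl
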