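import Cfsg.Agent.Lib.A8Syl.Shapes

/-!
The centraliser of an involution not conjugate to the central one: a subgroup of index two with elementary
abelian Sylow 2-subgroups.
-/

set_option autoImplicit false
set_option linter.style.haveILetI false
set_option linter.unusedSectionVars false

namespace CfsgLib.A8Syl

open CfsgLib.PSpFourRecog (app app_lt)

theorem centR_facts : ∀ r ∈ [10, 11], lOK (centI r) = true ∧ (centI r).Nodup ∧ (centI r).length = 32 ∧
    (∃ x ∈ centI r, x ∈ outI) ∧ (∀ e < 16, e ∈ centI r) ∧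
    (∀ i ∈ centI r, ∀ j ∈ centI r, 16 ≤ i → 16 ≤ j → mS i j < 16) ∧ iZ ∈ centI r ∧
    (∀ i ∈ outI, i ∈ centI r → lOK ((centI r).filter fun j => (centI i).contains j) = true ∧
      ∃ j ∈ (centI r).filter (fun j => (centI i).contains j), j = iZ) ∧
    ∀ i ∈ centI r, mS i i = 0 → i < 16 ∨ i ∈ outI := by
  have h : ([10, 11].all fun r => lOK (centI r) && decide (centI r).Nodup && (centI r).length == 32 &&
      ((centI r).any fun x => outI.contains x) && ((List.range 16).all fun e => (centI r).contains e) &&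
      ((centI r).all fun i => (centI r).all fun j => Nat.blt i 16 || Nat.blt j 16 || Nat.blt (mS i j) 16) &&
      (centI r).contains iZ &&
      (outI.all fun i => !(centI r).contains i || (lOK ((centI r).filter fun j => (centI i).contains j) &&
        ((centI r).filter fun j => (centI i).contains j).contains iZ)) &&
      (centI r).all fun i => mS i i != 0 || Nat.blt i 16 || outI.contains i) = true := by decide +kernel
  simp only [List.all_eq_true, Bool.and_eq_true, Bool.or_eq_true, decide_eq_true_eq, beq_iff_eq,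
    List.any_eq_true, List.contains_iff_mem, List.mem_range, Nat.blt_eq, Bool.not_eq_true',
    ← Bool.not_eq_true, bne_iff_ne] at h
  intro r hr
  obtain ⟨⟨⟨⟨⟨⟨⟨⟨h1, h2⟩, h3⟩, h4⟩, h5⟩, h6⟩, h7⟩, h8⟩, h9⟩ := h r hr
  refine ⟨h1, h2, h3, h4, h5, fun i hi j hj a b => ?_, h7, fun i hi hic => ?_, fun i hi h0 => ?_⟩
  · rcases h6 i hi j hj with (e | e) | e
    · omega
    · omega
    · exact e
  · obtain ⟨a, b⟩ := (h8 i hi).resolve_left fun e => e hic
    exact ⟨a, iZ, b, rfl⟩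
  · rcases h9 i hi with (e | e) | e
    · exact absurd h0 e
    · exact .inl e
    · exact .inr e

namespace Hyp

variable {G : Type*} [Group G] [Finite G] {φ : ℕ → G} {S : Subgroup G} (K : Hyp φ S)
include K

omit [Finite G] in
theorem mem_cR {r i : ℕ} (hr : r < 64) (hi : i < 64) :
    φ i ∈ Subgroup.centralizer ({φ r} : Set G) ↔ i ∈ centI r := by
  rw [Subgroup.mem_centralizer_singleton_iff, K.comm_iff hi hr, mem_centI]
  exact ⟨fun h => ⟨hi, h.symm⟩, fun h => h.2.symm⟩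

omit [Finite G] in
theorem order_two_of_idx {i : ℕ} (hi : i < 64) (h : orderOf (φ i) = 2) : mS i i = 0 := by
  refine (K.eq_one_iff (mS_lt hi hi)).1 ?_
  rw [K.mul i hi i hi, ← pow_two, ← h, pow_orderOf_eq_one]

variable (hS : M12Syl.SylIn ⊤ S)
include hS

theorem sylIn_R {r : ℕ} (hr : r ∈ [10, 11]) (hz : ¬ IsConj (φ iZ) (φ r)) :
    M12Syl.SylIn (Subgroup.centralizer ({φ r} : Set G)) (K.sub (centI r)) := by
  obtain ⟨hok, hnd, hlen, -⟩ := centR_facts r hr
  have hr64 : r < 64 := by simp at hr; omega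
  have hle : K.sub (centI r) ≤ Subgroup.centralizer ({φ r} : Set G) := fun x hx => by
    obtain ⟨i, hi, rfl⟩ := (K.mem_sub hok).1 hx
    exact (K.mem_cR hr64 (K.lt_of_lOK hok hi)).2 hi
  obtain ⟨T, hT, hRT⟩ := M12Syl.sylIn_exists _ _ hle (hS.two.to_le (K.sub_le hok))
  suffices Nat.card T ≤ 32 by
    have e : T = K.sub (centI r) :=
      (Subgroup.eq_of_le_of_card_ge hRT (by rw [K.card_sub hok hnd, hlen]; exact this)).symm
    exact e ▸ hT
  obtain ⟨d, -, hd⟩ := hS.absorb T le_top hT.two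
  have hrT : φ r ∈ T := hRT ((K.mem_sub hok).2 ⟨r, mem_centI.2 ⟨hr64, rfl⟩, rfl⟩)
  have hle' : T.map (MulAut.conj d).toMonoidHom ≤ S := by
    rintro _ ⟨t, ht, rfl⟩; exact hd t ht
  have h64 := Subgroup.card_dvd_of_le hle'
  rw [Subgroup.card_map_of_injective (MulEquiv.injective _), K.card_eq] at h64
  by_contra hlt
  have h : Nat.card T = 64 := by
    have := Nat.le_of_dvd (by norm_num) h64
    obtain ⟨k, hk⟩ := IsPGroup.iff_card.1 hT.two
    rw [hk] at hlt this h64 ⊢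
    have h5 : 5 < k := (Nat.pow_lt_pow_iff_right (by norm_num : 1 < 2)).1 (by omega)
    have h6 : k ≤ 6 := (Nat.pow_le_pow_iff_right (by norm_num : 1 < 2)).1 (by omega)
    rw [show k = 6 by omega]; rfl
  have heq : T.map (MulAut.conj d).toMonoidHom = S := Subgroup.eq_of_le_of_card_ge hle' (by
    rw [Subgroup.card_map_of_injective (MulEquiv.injective _), K.card_eq, h])
  obtain ⟨w, hw, ew⟩ := K.surj _ (hd _ hrT)
  have hcomm : ∀ j < 64, mS j w = mS w j := fun j hj => by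
    obtain ⟨t, ht, et⟩ := (show φ j ∈ T.map (MulAut.conj d).toMonoidHom from heq ▸ K.mem j hj)
    refine (K.comm_iff hj hw).1 ?_
    rw [← et, ew]
    exact conj_cent d (Subgroup.mem_centralizer_singleton_iff.1 (hT.le ht))
  have hcen : ((List.range 64).all fun w => w == 0 || w == iZ ||
      (List.range 64).any fun j => mS j w != mS w j) = true := by decide +kernel
  simp only [List.all_eq_true, List.any_eq_true, Bool.or_eq_true, beq_iff_eq, List.mem_range,
    bne_iff_ne] at hcen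
  rcases hcen w hw with (rfl | rfl) | ⟨j, hj, hne⟩
  · rw [K.one, eq_comm, conj_eq_one_iff, K.eq_one_iff hr64] at ew
    simp at hr; omega
  · exact hz (isConj_iff.2 ⟨d⁻¹, by rw [ew]; group⟩)
  · exact hne (hcomm j hj)

variable (hsol : Group.IsSolvable K.cT)
include hsol

/-- In such a centraliser no involution outside `E` is fused into it. -/
theorem out_not_into_E {l : List ℕ} (hl : K.Shape l) {r : ℕ} (hp : (l, r) ∈ pairsL) {i : ℕ}
    (hi : i ∈ outI) (hic : i ∈ centI r) {g : G} (hg : g ∈ Subgroup.centralizer ({φ r} : Set G))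
    (h : g * φ i * g⁻¹ ∈ K.eS) : False := by
  have hpk := List.all_eq_true.1 pairs_ok _ hp
  simp only [pairOK, Bool.and_eq_true, Bool.not_eq_true', ← Bool.not_eq_true, List.contains_iff_mem,
    List.all_eq_true, List.mem_range, Bool.or_eq_true, List.any_eq_true, beq_iff_eq, Nat.blt_eq,
    not_exists, not_and] at hpk
  obtain ⟨⟨⟨hrz, hr⟩, hfus⟩, hout⟩ := hpk
  have hr16 : r < 16 := by simp at hr; omega
  have hz : ¬ IsConj (φ iZ) (φ r) := fun h => hrz ((K.mem_zOrb hS hl hr16).1 h)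
  obtain ⟨hok, -, -, -, hE, -, -, hY, hinv⟩ := centR_facts r hr
  obtain ⟨hYok, -, hjY, rfl⟩ := hY i hi hic
  obtain ⟨hi64, hi16, -⟩ := out_facts.2.1 i hi
  set X := Subgroup.centralizer ({φ r} : Set G) with hX
  have hXR := K.sylIn_R hS hr hz
  have hEX : K.eS ≤ X := fun x hx => by
    obtain ⟨e, he, rfl⟩ := K.mem_eS.1 hx
    exact (K.mem_cR (by omega) (by omega)).2 (hE e he)
  set Y := K.sub ((centI r).filter fun j => (centI i).contains j) with hYdef
  have hYel : ∀ y ∈ Y, ∃ j ∈ centI r, j ∈ centI i ∧ φ j = y := fun y hy => by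
    obtain ⟨j, hj, e⟩ := (K.mem_sub hYok).1 hy
    obtain ⟨h1, h2⟩ := List.mem_filter.1 hj
    exact ⟨j, h1, List.contains_iff_mem.1 h2, e⟩
  have hEu : K.eS ≤ X ⊓ Subgroup.centralizer ({g * φ i * g⁻¹} : Set G) := fun x hx =>
    Subgroup.mem_inf.2 ⟨hEX hx, Subgroup.mem_centralizer_singleton_iff.2 (K.eS_comm hx h)⟩
  obtain ⟨T, hT, hET⟩ := M12Syl.sylIn_exists _ _ hEu K.eS_two
  obtain ⟨e, he, heY⟩ := hT.absorb (Y.map (MulAut.conj g).toMonoidHom) (by
    rintro _ ⟨y, hy, rfl⟩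
    obtain ⟨j, hjr, hji, rfl⟩ := hYel y hy
    have hj64 := (mem_centI.1 hji).1
    refine Subgroup.mem_inf.2 ⟨mul_mem (mul_mem hg ((K.mem_cR (by omega) hj64).2 hjr)) (inv_mem hg),
      Subgroup.mem_centralizer_singleton_iff.2 ?_⟩
    exact conj_cent g ((K.comm_iff hj64 hi64).2 (centI_symm hji).2))
    ((hS.two.to_le (K.sub_le hYok)).map _)
  obtain ⟨heX, heu⟩ := Subgroup.mem_inf.1 he
  obtain ⟨d, hd, hdT⟩ := hXR.absorb T (hT.le.trans inf_le_left) hT.two
  set k := d * e * g with hk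
  have hkX : k ∈ X := mul_mem (mul_mem hd heX) hg
  have hkx : k * φ i * k⁻¹ ∈ K.eS := by
    rw [hk, show d * e * g * φ i * (d * e * g)⁻¹ = d * (e * (g * φ i * g⁻¹) * e⁻¹) * d⁻¹ by group,
      mul_inv_eq_iff_eq_mul.2 (Subgroup.mem_centralizer_singleton_iff.1 heu)]
    exact K.eS_weak hS (fun x hx => K.sub_le hok (hdT x (hET hx))) _ h
  have hkz : k * φ iZ * k⁻¹ ∈ K.sub (centI r) := by
    rw [hk, show d * e * g * φ iZ * (d * e * g)⁻¹ = d * (e * (g * φ iZ * g⁻¹) * e⁻¹) * d⁻¹ by group]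
    exact hdT _ (heY _ ⟨φ iZ, (K.mem_sub hYok).2 ⟨iZ, hjY, rfl⟩, rfl⟩)
  obtain ⟨w, hw, ew⟩ := (K.mem_sub hok).1 hkz
  have hwl : w < 64 := K.lt_of_lOK hok hw
  have hzw : IsConj (φ iZ) (φ w) := isConj_iff.2 ⟨k, ew.symm⟩
  have hw2 := K.order_two_of_idx hwl (by rw [ew]; exact Invol.conj_orderOf_two K.t_order k)
  have hw16 : w < 16 := by
    refine (hinv w hw hw2).resolve_right fun hwo => ?_
    by_cases hc : K.HasChi hS hsol
    · obtain ⟨c, -, e2, he2, hce, hcase⟩ := K.chi_into_E hS hsol hc hwo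
      have hor := (K.mem_zOrb hS hl he2).1 (hzw.trans (isConj_iff.2 ⟨c, hce⟩))
      obtain ⟨h1, h2⟩ := (hout w hwo).resolve_left fun h => h hw
      rcases hcase with rfl | rfl
      · exact h1.elim (fun h => h hor) fun h => h he2
      · exact h2.elim (fun h => h hor) fun h => h he2
    · refine K.not_into_E hS hsol hc hwo (g := k⁻¹) ?_
      rw [ew, show k⁻¹ * (k * φ iZ * k⁻¹) * k⁻¹⁻¹ = φ iZ by group]
      exact K.z_mem_eS
  have hr5 : iZ ^^^ r < 16 := Nat.xor_lt_two_pow (n := 4) (by decide) hr16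
  have hwr : IsConj (φ (iZ ^^^ r)) (φ (w ^^^ r)) := isConj_iff.2 ⟨k, by
    rw [← K.eS_mul (by decide) hr16, ← K.eS_mul hw16 hr16, ew,
      show k * (φ iZ * φ r) * k⁻¹ = k * φ iZ * k⁻¹ * (k * φ r * k⁻¹) by group,
      mul_inv_eq_iff_eq_mul.2 (Subgroup.mem_centralizer_singleton_iff.1 hkX)]⟩
  obtain ⟨c0, hc0, hc0e⟩ := K.e_fuse hS hr5 (Nat.xor_lt_two_pow (n := 4) hw16 hr16) hwr
  rcases hfus w hw16 with (hfus' | hfus') | ⟨c, hc, hcr, hcw⟩
  · exact hfus' ((K.mem_zOrb hS hl hw16).1 hzw)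
  · exact hfus' c0 ((hl c0).1 hc0) hc0e
  obtain ⟨n, hn⟩ := ((hl c).2 hc).2
  have hm : n * k ∈ K.cT := K.mem_cT_of_fix (by
    rw [show n * k * φ iZ * (n * k)⁻¹ = n * (k * φ iZ * k⁻¹) * n⁻¹ by group, ← ew, hn w hw16, hcw])
  have hmr : n * k * φ r = φ r * (n * k) := by
    rw [← mul_inv_eq_iff_eq_mul, show n * k * φ r * (n * k)⁻¹ = n * (k * φ r * k⁻¹) * n⁻¹ by group,
      mul_inv_eq_iff_eq_mul.2 (Subgroup.mem_centralizer_singleton_iff.1 hkX), hn r hr16, hcr]
  obtain ⟨o, ho, s, hs, hm'⟩ := K.cz_fix hS hsol (by simpa using hr) hm hmr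
  have hme : n * k * φ i * (n * k)⁻¹ ∈ K.eS := by
    rw [show n * k * φ i * (n * k)⁻¹ = n * (k * φ i * k⁻¹) * n⁻¹ by group]
    exact K.code_norm hn hkx
  rw [hm', show o * φ s * φ i * (o * φ s)⁻¹ = o * (φ s * φ i * (φ s)⁻¹) * o⁻¹ by group,
    ← K.conj_eq hs hi64] at hme
  rw [K.theta_fix hS hsol ho (K.mem _ (cjI_lt hs hi64)) (K.eS_le hme)] at hme
  obtain ⟨e', he', ee⟩ := K.mem_eS.1 hme
  rw [K.eq_iff (by omega) (cjI_lt hs hi64)] at ee
  have hck : ((List.range 64).all fun s => outI.all fun i => Nat.ble 16 (cjI s i)) = true := by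
    decide +kernel
  simp only [List.all_eq_true, List.mem_range, Nat.ble_eq] at hck
  have := hck s hs i hi
  omega

/-- what is used of the subgroup of index two -/
structure IsH (r : ℕ) (H : Subgroup G) : Prop where
  le : H ≤ Subgroup.centralizer ({φ r} : Set G)
  conj : ∀ g ∈ Subgroup.centralizer ({φ r} : Set G), ∀ x ∈ H, g * x * g⁻¹ ∈ H
  e_le : K.eS ≤ H
  inter : ∀ i ∈ centI r, φ i ∈ H → i < 16
  odd_mem : ∀ x ∈ Subgroup.centralizer ({φ r} : Set G), ¬ 2 ∣ orderOf x → x ∈ H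
  syl : M12Syl.SylIn H K.eS

set_option maxHeartbeats 1000000 in
theorem exists_H {l : List ℕ} (hl : K.Shape l) {r : ℕ} (hp : (l, r) ∈ pairsL) :
    ∃ H : Subgroup G, K.IsH r H := by
  classical
  haveI := Fact.mk Nat.prime_two
  have hpk := List.all_eq_true.1 pairs_ok _ hp
  simp only [pairOK, Bool.and_eq_true, Bool.not_eq_true', ← Bool.not_eq_true, List.contains_iff_mem] at hpk
  obtain ⟨⟨⟨hrz, hr⟩, -⟩, -⟩ := hpk
  have hr16 : r < 16 := by simp at hr; omega
  have hz : ¬ IsConj (φ iZ) (φ r) := fun h => hrz ((K.mem_zOrb hS hl hr16).1 h)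
  obtain ⟨hok, hnd, hlen, ⟨x0, hx0, hx0o⟩, hE, hmul, -, -, hinv⟩ := centR_facts r hr
  have hXR := K.sylIn_R hS hr hz
  set C := Subgroup.centralizer ({φ r} : Set G) with hC
  set R := K.sub (centI r) with hR
  have hER : K.eS ≤ R := fun x hx => by
    obtain ⟨e, he, rfl⟩ := K.mem_eS.1 hx
    exact (K.mem_sub hok).2 ⟨e, hE e he, rfl⟩
  have hRC : R ≤ C := hXR.le
  obtain ⟨P, hP⟩ : ∃ P : Sylow 2 C, (P : Subgroup C) = R.subgroupOf C := by
    obtain ⟨P, hP⟩ := (hXR.two.comap_subtype : IsPGroup 2 (R.subgroupOf C : Subgroup C)).exists_le_sylow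
    refine ⟨P, (Subgroup.eq_of_le_of_card_ge hP ?_).symm⟩
    show Nat.card ↥(P : Subgroup C) ≤ Nat.card ↥(R.subgroupOf C)
    rw [Nat.card_congr (Subgroup.subgroupOfEquivOfLe hRC).toEquiv,
      ← Subgroup.card_map_of_injective C.subtype_injective]
    exact hXR.card_le (Subgroup.map_subtype_le _) (P.isPGroup'.map _)
  set H1 : Subgroup C := R.subgroupOf C with hH1
  set Q : Subgroup H1 := (K.eS.subgroupOf C).subgroupOf H1 with hQ
  have hQi : Q.index = 2 := by
    have hEH : K.eS.subgroupOf C ≤ H1 := fun x hx => hER hx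
    have h := Subgroup.card_mul_index Q
    rw [hQ, Nat.card_congr (Subgroup.subgroupOfEquivOfLe hEH).toEquiv,
      Nat.card_congr (Subgroup.subgroupOfEquivOfLe (hER.trans hRC)).toEquiv,
      Nat.card_congr (Subgroup.subgroupOfEquivOfLe hRC).toEquiv, K.card_eS, hR,
      K.card_sub hok hnd, hlen] at h
    rw [hQ]
    omega
  set χ := Transfer.sgnHom Q hQi
  have hodd : Odd H1.index := by
    rw [← hP]
    exact Nat.not_even_iff_odd.mp fun e => P.not_dvd_index (even_iff_two_dvd.mp e)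
  haveI := Fintype.ofFinite (C ⧸ H1)
  set f := MonoidHom.transfer χ with hf
  -- the values at conjugates
  have hval : ∀ {i : ℕ}, i ∈ centI r → mS i i = 0 → i ≠ 0 → ∀ {u : C}, (u : G) = φ i →
      ∀ a : C, ∀ h : a⁻¹ * u * a ∈ H1, χ ⟨_, h⟩ = 1 ↔ i < 16 := by
    intro i hi hi2 hi0 u hu a h
    have hil := K.lt_of_lOK hok hi
    obtain ⟨j, hj, ej⟩ := (K.mem_sub hok).1 (show ((a⁻¹ * u * a : C) : G) ∈ R from h)
    have ej' : φ j = (a : G)⁻¹ * φ i * (a : G) := by rw [ej, ← hu]; rfl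
    have hjl := K.lt_of_lOK hok hj
    rw [Transfer.sgnHom_eq_one_iff]
    have hQj : (⟨a⁻¹ * u * a, h⟩ : H1) ∈ Q ↔ j < 16 := by
      show ((a⁻¹ * u * a : C) : G) ∈ K.eS ↔ _
      rw [← ej, K.mem_eS]
      exact ⟨fun ⟨e, he, ee⟩ => K.inj e (by omega) j hjl ee ▸ he, fun hlt => ⟨j, hlt, rfl⟩⟩
    rw [hQj]
    have hj2 : mS j j = 0 := K.order_two_of_idx hjl (by
      rw [ej', show (a : G)⁻¹ * φ i * (a : G) = (a : G)⁻¹ * φ i * (a : G)⁻¹⁻¹ by group]
      exact Invol.conj_orderOf_two (K.orderOf_two hil hi2 hi0) _)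
    constructor
    · intro hj16
      refine (hinv i hi hi2).resolve_right fun hio => ?_
      refine K.out_not_into_E hS hsol hl hp hio hi (g := (a : G)⁻¹) (inv_mem a.2) ?_
      rw [inv_inv, ← ej']
      exact K.mem_eS.2 ⟨j, hj16, rfl⟩
    · intro hi16
      refine (hinv j hj hj2).resolve_right fun hjo => ?_
      refine K.out_not_into_E hS hsol hl hp hjo hj (g := (a : G)) a.2 ?_
      rw [ej', show (a : G) * ((a : G)⁻¹ * φ i * a) * (a : G)⁻¹ = φ i by group]
      exact K.mem_eS.2 ⟨i, hi16, rfl⟩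
  have hfE : ∀ e < 16, ∀ u : C, (u : G) = φ e → f u = 1 := by
    intro e he u hu
    rcases Nat.eq_zero_or_pos e with rfl | he0
    · rw [show u = 1 from Subtype.ext (hu.trans K.one), map_one]
    have hu2 : u * u = 1 := Subtype.ext (by
      show (u : G) * u = 1
      rw [hu, K.eS_sq (K.mem_eS.2 ⟨e, he, rfl⟩)])
    rw [hf, Transfer.transfer_of_sq_eq_one χ hu2]
    refine Finset.prod_eq_one fun q hq => ?_
    rw [dif_pos (Transfer.mem_of_smul_eq (Finset.mem_filter.1 hq).2)]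
    refine (hval (hE e he) (K.order_two_of_idx (by omega) ?_) (by omega) hu _ _).2 he
    exact Invol.orderOf_two_of_mul_self (K.eS_sq (K.mem_eS.2 ⟨e, he, rfl⟩))
      fun h => by rw [K.eq_one_iff (by omega)] at h; omega
  obtain ⟨hx64, hx16, hx2, -⟩ := out_facts.2.1 x0 hx0o
  set uX : C := ⟨φ x0, (K.mem_cR (by omega) hx64).2 hx0⟩ with huX
  have hfx : f uX ≠ 1 := by
    have hu2 : uX * uX = 1 := Subtype.ext (by
      show φ x0 * φ x0 = 1
      rw [← K.mul x0 hx64 x0 hx64, hx2, K.one])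
    rw [hf, Transfer.transfer_of_sq_eq_one χ hu2]
    set F := (Finset.univ : Finset (C ⧸ H1)).filter fun q => uX • q = q
    have hF : Odd F.card := Transfer.odd_card_fixed hu2 hodd
    rw [Finset.prod_congr rfl (g := fun _ => (-1 : ℤˣ)) fun q hq => ?_, Finset.prod_const, hF.neg_one_pow]
    · exact by decide
    · rw [dif_pos (Transfer.mem_of_smul_eq (Finset.mem_filter.1 hq).2)]
      refine (Int.units_eq_one_or _).resolve_left fun h => ?_
      have := (hval hx0 hx2 (by omega) rfl _ _).1 h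
      omega
  set H := f.ker.map C.subtype with hH
  have hmem : ∀ x : C, (x : G) ∈ H ↔ f x = 1 := fun x => by
    rw [hH]; exact (Subgroup.mem_map_iff_mem C.subtype_injective).trans MonoidHom.mem_ker
  have hinter : ∀ i ∈ centI r, φ i ∈ H → i < 16 := by
    intro i hi h
    by_contra hlt
    have hil := K.lt_of_lOK hok hi
    set ui : C := ⟨φ i, hRC ((K.mem_sub hok).2 ⟨i, hi, rfl⟩)⟩
    have h1 : f ui = 1 := (hmem ui).1 h
    have h2 := hfE (mS i x0) (hmul i hi x0 hx0 (by omega) hx16) (ui * uX)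
      (K.mul i hil x0 hx64).symm
    rw [map_mul, h1, one_mul] at h2
    exact hfx h2
  have hEH : K.eS ≤ H := fun x hx => by
    obtain ⟨e, he, rfl⟩ := K.mem_eS.1 hx
    exact (hmem ⟨φ e, hRC (hER hx)⟩).2 (hfE e he _ rfl)
  have hconj : ∀ g ∈ C, ∀ x ∈ H, g * x * g⁻¹ ∈ H := by
    intro g hg x hx
    obtain ⟨y, hy, rfl⟩ := hx
    set gC : C := ⟨g, hg⟩
    have hk : f (gC * y * gC⁻¹) = 1 := by
      rw [map_mul, map_mul, MonoidHom.mem_ker.1 hy, mul_one, ← map_mul, mul_inv_cancel, map_one]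
    exact (hmem (gC * y * gC⁻¹)).2 hk
  refine ⟨H, Subgroup.map_subtype_le _, hconj, hEH, hinter, fun x hx hxo => (hmem ⟨x, hx⟩).2 ?_, ?_⟩
  · rcases Int.units_eq_one_or (f ⟨x, hx⟩) with h | h
    · exact h
    · refine absurd ?_ hxo
      have hd := orderOf_map_dvd f ⟨x, hx⟩
      rw [h, show orderOf (-1 : ℤˣ) = 2 from orderOf_eq_prime (by decide) (by decide),
        ← Subgroup.orderOf_coe] at hd
      exact hd
  · obtain ⟨T, hT, hET⟩ := M12Syl.sylIn_exists H _ hEH K.eS_two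
    suffices Nat.card T ≤ 16 by
      have e : T = K.eS := (Subgroup.eq_of_le_of_card_ge hET (by rw [K.card_eS]; exact this)).symm
      exact e ▸ hT
    obtain ⟨d, hd, hdT⟩ := hXR.absorb T (hT.le.trans (Subgroup.map_subtype_le _)) hT.two
    have hle : T.map (MulAut.conj d).toMonoidHom ≤ K.eS := by
      rintro _ ⟨t, ht, rfl⟩
      obtain ⟨i, hi, ei⟩ := (K.mem_sub hok).1 (hdT t ht)
      refine K.mem_eS.2 ⟨i, hinter i hi ?_, ei⟩
      rw [ei]
      exact hconj d hd t (hT.le ht)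
    have := Subgroup.card_le_of_le hle
    rwa [Subgroup.card_map_of_injective (MulEquiv.injective _), K.card_eS] at this

end Hyp

end CfsgLib.A8Syl
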