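import Cfsg.Agent.Lib.A8Syl.CentH

/-!
The centraliser of an involution when the group induced on `E` is the alternating group of degree five.
-/

set_option autoImplicit false
set_option linter.style.haveILetI false
set_option linter.unusedSectionVars false

namespace CfsgLib.A8Syl

namespace Hyp

variable {G : Type*} [Group G] [Finite G] {φ : ℕ → G} {S : Subgroup G} (K : Hyp φ S)
include K

theorem le_of_isolated (hl : K.Shape std60) {H : Subgroup G} (hH : K.IsH 11 H)
    (hR : M12Syl.SylIn (Subgroup.centralizer ({φ 11} : Set G)) (K.sub (centI 11))) {M : Subgroup G}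
    (hθ : Cfsg.centralizerPPrimeCore 2 (φ 11) ≤ M) (hRM : K.sub (centI 11) ≤ M)
    (h3 : ∀ y ∈ H, y * φ 3 = φ 3 * y → y ∈ M) : Subgroup.centralizer ({φ 11} : Set G) ≤ M := by
  refine le_of_odd_sylow hR hRM fun x hx hxo => ?_
  obtain ⟨o, ho, hoH, h⟩ := K.isolated_three hl hH x (hH.odd_mem x hx hxo)
  have h' := mul_mem (inv_mem (hθ ho)) (h3 _ (mul_mem hoH (hH.odd_mem x hx hxo)) h)
  rwa [inv_mul_cancel_left] at h'

theorem cent_solvable (hl : K.Shape std60) {H : Subgroup G} (hH : K.IsH 11 H)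
    (h3 : Group.IsSolvable ↥(Subgroup.centralizer ({φ 3} : Set G))) :
    Group.IsSolvable ↥(Subgroup.centralizer ({φ 11} : Set G)) := by
  haveI := Fact.mk Nat.prime_two
  set X := Subgroup.centralizer ({φ 11} : Set G) with hX
  set θ := Cfsg.centralizerPPrimeCore 2 (φ 11) with hθ
  have hθX : θ ≤ X := Subgroup.map_subtype_le _
  have hθH : θ ≤ H := fun o ho => hH.odd_mem o (hθX ho) fun hd => Nat.prime_two.ne_one
    (Nat.eq_one_of_dvd_coprimes (Signalizer.coprime_centralizerPPrimeCore (p := 2) (φ 11))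
      (hd.trans (by rw [← Subgroup.orderOf_mk (H := θ) o ho]; exact orderOf_dvd_natCard _)) (dvd_refl 2))
  -- the subgroup of index two is solvable
  set T := θ.subgroupOf H with hT
  haveI hTn : T.Normal := ⟨fun o ho g => Subgroup.mem_subgroupOf.2 (conj_norm (U := θ)
    (Signalizer.centralizerPPrimeCore_normalized (φ 11) (hH.le g.2)) (Subgroup.mem_subgroupOf.1 ho))⟩
  haveI hTs : Group.IsSolvable T := by
    haveI : Group.IsSolvable θ := OddOrder.odd_order_solvable (Nat.coprime_two_right.1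
      (Signalizer.coprime_centralizerPPrimeCore (p := 2) (φ 11)))
    exact Group.isSolvable_of_isSolvable_injective
      (f := (Subgroup.subgroupOfEquivOfLe hθH).toMonoidHom) (Subgroup.subgroupOfEquivOfLe hθH).injective
  haveI hHs : Group.IsSolvable H := by
    haveI := h3
    haveI hC : Group.IsSolvable ↥(H ⊓ Subgroup.centralizer ({φ 3} : Set G)) :=
      Group.isSolvable_of_isSolvable_injective
        (f := Subgroup.inclusion (inf_le_right : H ⊓ Subgroup.centralizer ({φ 3} : Set G) ≤ _))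
        (Subgroup.inclusion_injective _)
    let f := (QuotientGroup.mk' T).comp
      (Subgroup.inclusion (inf_le_left : H ⊓ Subgroup.centralizer ({φ 3} : Set G) ≤ H))
    haveI : Group.IsSolvable (H ⧸ T) := by
      refine Group.isSolvable_of_surjective (f := f) fun q => ?_
      obtain ⟨x, rfl⟩ := QuotientGroup.mk'_surjective T q
      obtain ⟨o, ho, hoH, h⟩ := K.isolated_three hl hH x x.2
      refine ⟨⟨o * x, Subgroup.mem_inf.2 ⟨mul_mem hoH x.2, Subgroup.mem_centralizer_singleton_iff.2 h⟩⟩, ?_⟩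
      show QuotientGroup.mk' T (⟨o, hoH⟩ * x) = _
      rw [map_mul, show QuotientGroup.mk' T ⟨o, hoH⟩ = 1 from
        (QuotientGroup.eq_one_iff _).2 (Subgroup.mem_subgroupOf.2 ho), one_mul]
    exact (Group.isSolvable_iff_subgroup_quotient T).2 ⟨hTs, inferInstance⟩
  set N := H.subgroupOf X with hN
  haveI hNn : N.Normal := ⟨fun h hh g => Subgroup.mem_subgroupOf.2
    (hH.conj g g.2 h (Subgroup.mem_subgroupOf.1 hh))⟩
  have hNs : Group.IsSolvable N := Group.isSolvable_of_isSolvable_injective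
    (f := (Subgroup.subgroupOfEquivOfLe hH.le).toMonoidHom) (Subgroup.subgroupOfEquivOfLe hH.le).injective
  have hp : IsPGroup 2 (X ⧸ N) := fun q => by
    obtain ⟨x, rfl⟩ := QuotientGroup.mk'_surjective N q
    obtain ⟨s, m, hm, hsm⟩ := Nat.exists_eq_two_pow_mul_odd (orderOf_pos (x : G)).ne'
    refine ⟨s, ?_⟩
    rw [← map_pow, QuotientGroup.mk'_apply, QuotientGroup.eq_one_iff]
    refine Subgroup.mem_subgroupOf.2 (hH.odd_mem _ (pow_mem x.2 _) fun hd => hm.not_two_dvd_nat (hd.trans ?_))
    refine orderOf_dvd_of_pow_eq_one ?_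
    rw [SubgroupClass.coe_pow, ← pow_mul, ← hsm, pow_orderOf_eq_one]
  haveI : Group.IsNilpotent (X ⧸ N) := hp.isNilpotent
  exact (Group.isSolvable_iff_subgroup_quotient N).2 ⟨hNs, inferInstance⟩

end Hyp

end CfsgLib.A8Syl
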