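import Cfsg.Agent.Lib.A8Syl.CentCases
import Cfsg.Agent.Lib.A8Syl.AutCheck

/-!
The maps induced on the elementary abelian subgroup by its normaliser, and their normal forms.
-/

set_option autoImplicit false
set_option linter.style.haveILetI false
set_option linter.unusedSectionVars false

namespace CfsgLib.A8Syl

open CfsgLib.PSpFourRecog (app comp app_lt app_xor app_zero app_comp comp_lt code_ext induct16 app_basis)

theorem app_one : ∀ e < 16, app cOne e = e := by
  have h : ((List.range 16).all fun e => app cOne e == e) = true := by decide +kernel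
  simpa only [List.all_eq_true, List.mem_range, beq_iff_eq] using h

/-- a set of codes behaving like the maps induced by the normaliser -/
structure IsA (st : List ℕ) (P : ℕ → Prop) : Prop where
  one : P cOne
  lt : ∀ c, P c → c < 65536
  mul : ∀ a b, P a → P b → P (comp a b)
  inj : ∀ c, P c → ∀ e < 16, e ≠ 0 → app c e ≠ 0
  stab : ∀ c, P c → app c iZ = iZ → c ∈ st
  st_mem : ∀ c ∈ st, P c
  move : ∃ c, P c ∧ app c iZ ≠ iZ

theorem comp_assoc' (a b c : ℕ) : comp (comp a b) c = comp a (comp b c) := by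
  refine code_ext (comp_lt _ _) (comp_lt _ _) fun e he => ?_
  rw [app_comp _ _ e he, app_comp _ _ _ (app_lt _ _), app_comp _ _ e he, app_comp _ _ e he]

theorem comp_one_left {c : ℕ} (hc : c < 65536) : comp cOne c = c :=
  code_ext (comp_lt _ _) hc fun e he => by rw [app_comp _ _ e he, app_one _ (app_lt _ _)]

theorem digits {a b d : ℕ} (ha : a < 16) (hb : b < 16) (hd : d < 16) :
    (a * 256 + b * 16 + d) / 256 = a ∧ (a * 256 + b * 16 + d) / 16 % 16 = b ∧
      (a * 256 + b * 16 + d) % 16 = d := by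
  omega

theorem candR_mem {p r : ℕ} (hp : p < 65536) (hr : app p iZ = r)
    (hi : ∀ e < 16, e ≠ 0 → app p e ≠ 0) : p ∈ candR r := by
  obtain ⟨h1, h2, h4, h8⟩ := app_basis p
  have h5 : app p iZ = app p 1 ^^^ app p 4 := by
    rw [show iZ = 1 ^^^ 4 from rfl, app_xor]
  rw [candR, List.mem_filter]
  refine ⟨List.mem_map.2 ⟨app p 1 * 256 + app p 2 * 16 + app p 8, ?_, ?_⟩, ?_⟩
  · have := app_lt p 1; have := app_lt p 2; have := app_lt p 8
    rw [List.mem_range]; omega
  · have := app_lt p 1; have := app_lt p 2; have := app_lt p 8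
    obtain ⟨d1, d2, d3⟩ := digits (app_lt p 1) (app_lt p 2) (app_lt p 8)
    rw [d1, d2, d3,
      show r ^^^ app p 1 = app p 4 by
        rw [← hr, h5, Nat.xor_comm (app p 1), Nat.xor_assoc, Nat.xor_self, Nat.xor_zero]]
    clear d1 d2 d3
    omega
  · have key : ∀ x y, x < 16 → y < 16 → app p x = app p y → x = y := fun x y hx hy e => by
      by_contra hne
      refine hi (x ^^^ y) (Nat.xor_lt_two_pow (n := 4) hx hy) ?_ (by rw [app_xor, e, Nat.xor_self])
      rw [Ne, Nat.xor_eq_zero_iff]; exact hne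
    simp only [indOK, ← h1, ← h2, ← h4, ← h8, Bool.and_eq_true, Bool.not_eq_true', ← Bool.not_eq_true,
      Nat.beq_eq, ← PSpFourRecog.app_xor]
    have h0 := app_zero p
    repeat' apply And.intro
    all_goals first
      | exact fun e => absurd (key _ _ (by decide) (by decide) e) (by decide)
      | exact fun e => absurd (key _ 0 (by decide) (by decide) (e.trans h0.symm)) (by decide)

namespace IsA

variable {P : ℕ → Prop} {C : ACert} (H : IsA C.st P)
include H

theorem getD_mem {ls : List ℕ} (hls : ∀ a ∈ ls, P a) (i : ℕ) : P (ls.getD i cOne) := by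
  by_cases h : i < ls.length
  · rw [List.getD_eq_getElem _ _ h]; exact hls _ (List.getElem_mem h)
  · rw [List.getD_eq_default _ _ (not_lt.1 h)]; exact H.one

theorem wordVal_mem : ∀ (k n x : ℕ) (ls : List ℕ), (∀ a ∈ ls, P a) → P x → P (wordVal ls k x n) := by
  intro k
  induction k with
  | zero => exact fun n x ls _ hx => hx
  | succ k ih =>
    intro n x ls hls hx
    rw [wordVal, compF_eq]
    cases Nat.ble n 1
    · exact ih _ _ ls hls (H.mul _ _ hx (H.getD_mem hls _))
    · exact hx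

theorem not_badWord : ∀ (k p w n : ℕ), P p → P w → badWord C.st p k w n = false := by
  intro k
  induction k with
  | zero => exact fun p w n _ _ => rfl
  | succ k ih =>
    intro p w n hp hw
    have hw2 := H.mul _ _ hw (H.getD_mem H.st_mem (n % C.st.length))
    simp only [badWord, compF_eq, appF_eq]
    cases Nat.ble (n / C.st.length) 1
    · exact ih _ _ _ hp (H.mul _ _ hw2 hp)
    · by_contra hne
      simp only [cond_true, Bool.and_eq_true, Nat.beq_eq, Bool.not_eq_true',
        ← Bool.not_eq_true, List.contains_iff_mem] at hne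
      exact hne fun h => h.2 (H.stab _ hw2 h.1)

/-- the certificate has been checked -/
def _root_.CfsgLib.A8Syl.ACert.OK (C : ACert) : Prop :=
  (∀ r ∈ repL, C.witOK r = true) ∧ C.reachOK = true ∧ C.pairOK = true ∧ C.grpOK = true ∧
    C.twistOK = true ∧ C.stOK = true

variable (hC : C.OK)
include hC

theorem rep_allowed {p : ℕ} (hp : P p) (hr : app p iZ ∈ repL) : p ∈ C.allow := by
  have hw := hC.1 _ hr
  simp only [ACert.witOK, Bool.and_eq_true, decide_eq_true_eq, List.all_eq_true] at hw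
  obtain ⟨hw1, hw2⟩ := hw
  have hm := candR_mem (H.lt p hp) rfl (H.inj p hp)
  rw [← hw1, List.mem_map] at hm
  obtain ⟨⟨q, n⟩, hq, rfl⟩ := hm
  have h := hw2 _ hq
  rcases n with _ | n
  · simpa using h
  · rw [show ((n + 1 == 0) : Bool) = false from rfl, cond_false, H.not_badWord _ _ _ _ hp hp] at h
    exact absurd h Bool.false_ne_true

/-- a moving map moves to one of the allowed ones -/
theorem to_allowed {c : ℕ} (hc : P c) (h5 : app c iZ ≠ iZ) :
    ∃ v ∈ C.st, comp v c ∈ C.allow ∧ c = comp v (comp v c) := by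
  have hst := hC.2.2.2.2.2
  simp only [ACert.stOK, Bool.and_eq_true, decide_eq_true_eq, List.all_eq_true, List.contains_iff_mem,
    beq_iff_eq, List.mem_range, Bool.or_eq_true, List.any_eq_true] at hst
  obtain ⟨⟨⟨⟨-, -⟩, hV⟩, hinv⟩, hrep⟩ := hst
  rcases hrep _ (app_lt c iZ) with (e | e) | ⟨v, hv, e⟩
  · exact absurd e (H.inj c hc iZ (by decide) (by decide))
  · exact absurd e h5
  refine ⟨v, hV v hv, H.rep_allowed hC (H.mul _ _ (H.st_mem v (hV v hv)) hc) ?_, ?_⟩
  · rw [app_comp _ _ _ (by decide)]; exact e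
  · rw [← comp_assoc', hinv v hv, comp_one_left (H.lt c hc)]

theorem exists_gen : ∃ i < C.gen.length, P (C.gen.getD i cOne) := by
  obtain ⟨c, hc, h5⟩ := H.move
  obtain ⟨v, hv, hq, -⟩ := H.to_allowed hC hc h5
  have hr := hC.2.1
  simp only [ACert.reachOK, List.all_eq_true, List.mem_range, List.contains_iff_mem] at hr
  obtain ⟨q, hq', eq⟩ := List.mem_iff_getElem.1 hq
  have hw := hr q hq'
  obtain ⟨i, hi, ei⟩ := List.mem_iff_getElem.1 hw
  refine ⟨i, hi, ?_⟩
  rw [List.getD_eq_getElem _ _ hi, ei]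
  refine H.wordVal_mem _ _ _ _ (fun a ha => ?_) H.one
  rcases List.mem_cons.1 ha with rfl | ha
  · rw [List.getD_eq_getElem _ _ hq', eq]
    exact H.mul _ _ (H.st_mem v hv) hc
  · exact H.st_mem _ (List.mem_of_mem_tail ha)

theorem eq_grp : ∃ i < C.gen.length, ∀ c, P c ↔ c ∈ grpEl (C.grp.getD i []) := by
  classical
  have hex := H.exists_gen hC
  set i := Nat.find hex with hi
  obtain ⟨hil, hgi⟩ := Nat.find_spec hex
  have hmin : ∀ j < i, ¬ P (C.gen.getD j cOne) := fun j hj hP =>
    Nat.find_min hex hj ⟨hj.trans hil, hP⟩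
  refine ⟨i, hil, ?_⟩
  have hg := hC.2.2.2.1
  simp only [ACert.grpOK, Bool.and_eq_true, decide_eq_true_eq, List.all_eq_true, List.mem_range,
    Nat.blt_eq, beq_iff_eq, List.contains_iff_mem] at hg
  obtain ⟨hmulg, hrec⟩ := hg.2 i hil
  set L := C.grp.getD i [] with hL
  have hls : ∀ a ∈ C.st.tail ++ [C.gen.getD i cOne], P a := fun a ha => by
    rcases List.mem_append.1 ha with h | h
    · exact H.st_mem _ (List.mem_of_mem_tail h)
    · rw [List.mem_singleton.1 h]; exact hgi
  have hel : ∀ k ≤ L.length, P ((grpEl L).getD k cOne) := by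
    intro k
    induction k using Nat.strong_induction_on with
    | _ k ih =>
      intro hk
      rcases k with _ | k
      · exact H.one
      · obtain ⟨⟨h1, -⟩, h2⟩ := hrec k (by omega)
        rw [show (grpEl L).getD (k + 1) cOne = (L.getD k (0, 0, 0)).1 by
          rw [grpEl, List.getD_cons_succ, List.getD_eq_getElem _ _ (by rw [List.length_map]; omega),
            List.getD_eq_getElem _ _ (show k < L.length by omega), List.getElem_map], h2]
        exact H.mul _ _ (ih _ h1 (by omega)) (H.getD_mem hls _)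
  have hone : cOne ∈ grpEl L := List.mem_cons_self
  have hstg : ∀ v ∈ C.st, v ∈ grpEl L := fun v hv => by
    have := hmulg v hv cOne hone
    rwa [show comp v cOne = v from code_ext (comp_lt _ _) (H.lt _ (H.st_mem v hv)) fun e he => by
      rw [app_comp _ _ e he, app_one e he]] at this
  intro c
  refine ⟨fun hc => ?_, fun hc => ?_⟩
  · by_cases h5 : app c iZ = iZ
    · exact hstg _ (H.stab c hc h5)
    obtain ⟨v, hv, hq, ecv⟩ := H.to_allowed hC hc h5
    rw [ecv]
    refine hmulg v hv _ ?_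
    by_contra hnot
    obtain ⟨qi, hqi, eq⟩ := List.mem_iff_getElem.1 hq
    have hpr := hC.2.2.1
    simp only [ACert.pairOK, Bool.and_eq_true, decide_eq_true_eq, List.all_eq_true, Bool.or_eq_true,
      beq_iff_eq, Bool.not_eq_true', List.contains_iff_mem, ← Bool.not_eq_true] at hpr
    obtain ⟨hlist, hall⟩ := hpr
    have hmem : (i, qi) ∈ C.pair.map (fun e => (e.1, e.2.1)) := by
      rw [hlist, List.mem_flatMap]
      refine ⟨i, List.mem_range.2 hil, List.mem_map.2 ⟨qi, List.mem_filter.2 ⟨List.mem_range.2 hqi, ?_⟩, rfl⟩⟩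
      rw [List.getD_eq_getElem _ _ hqi, eq, ← hL, Bool.not_eq_true', ← Bool.not_eq_true,
        List.contains_iff_mem]
      exact hnot
    obtain ⟨⟨i', q', n⟩, he, hee⟩ := List.mem_map.1 hmem
    simp only [Prod.mk.injEq] at hee
    obtain ⟨rfl, rfl⟩ := hee
    have hw : P (wordVal (C.gen.getD i cOne :: C.allow.getD q' cOne :: C.st.tail) 40 cOne n) := by
      refine H.wordVal_mem _ _ _ _ (fun a ha => ?_) H.one
      rcases List.mem_cons.1 ha with rfl | ha
      · exact hgi
      rcases List.mem_cons.1 ha with rfl | ha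
      · rw [List.getD_eq_getElem _ _ hqi, eq]
        exact H.mul _ _ (H.st_mem v hv) hc
      · exact H.st_mem _ (List.mem_of_mem_tail ha)
    rcases hall _ he with h | h
    · exact h.2 (H.stab _ hw h.1)
    · obtain ⟨j, hj, ej⟩ := List.mem_iff_getElem.1 h
      have hji : j < i := lt_of_lt_of_le hj (List.length_take_le _ _)
      refine hmin j hji ?_
      rw [List.getD_eq_getElem _ _ (hji.trans hil)]
      rwa [show C.gen[j]'(hji.trans hil) = _ from (List.getElem_take (h := hj)).symm.trans ej]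
  · obtain ⟨k, hk, ek⟩ := List.mem_iff_getElem.1 hc
    rw [← ek, ← List.getD_eq_getElem _ cOne hk]
    exact hel k (by rw [grpEl, List.length_cons, List.length_map] at hk; omega)

end IsA

theorem certV_OK : certV.OK := by
  refine ⟨fun r hr => ?_, certV_ok⟩
  simp only [repL, List.mem_cons, List.not_mem_nil, or_false] at hr
  rcases hr with rfl | rfl | rfl | rfl | rfl
  exacts [witV_one, witV_two, witV_six, witV_ten, witV_eleven]

theorem certA_OK : certA.OK := by
  refine ⟨fun r hr => ?_, certA_ok⟩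
  simp only [repL, List.mem_cons, List.not_mem_nil, or_false] at hr
  rcases hr with rfl | rfl | rfl | rfl | rfl
  exacts [witA_one, witA_two, witA_six, witA_ten, witA_eleven]

namespace Hyp

variable {G : Type*} [Group G] {φ : ℕ → G} {S : Subgroup G} (K : Hyp φ S)
include K

/-- a map induced on `E` -/
def HasCode (_ : Hyp φ S) (c : ℕ) : Prop :=
  c < 65536 ∧ ∃ x : G, ∀ e < 16, x * φ e * x⁻¹ = φ (app c e)

theorem hasCode_one : K.HasCode cOne :=
  ⟨by decide, 1, fun e he => by rw [app_one e he]; simp⟩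

theorem hasCode_mul {a b : ℕ} (ha : K.HasCode a) (hb : K.HasCode b) : K.HasCode (comp a b) := by
  obtain ⟨x, hx⟩ := ha.2
  obtain ⟨y, hy⟩ := hb.2
  refine ⟨comp_lt _ _, x * y, fun e he => ?_⟩
  rw [app_comp _ _ e he, show x * y * φ e * (x * y)⁻¹ = x * (y * φ e * y⁻¹) * x⁻¹ by group, hy e he,
    hx _ (app_lt _ _)]

theorem code_inj {x : G} {c : ℕ} (hx : ∀ e < 16, x * φ e * x⁻¹ = φ (app c e)) :
    ∀ e < 16, e ≠ 0 → app c e ≠ 0 := fun e he h0 h => by
  have h1 := hx e he
  rw [h, K.one, conj_eq_one_iff] at h1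
  exact h0 ((K.eq_one_iff (by omega)).1 h1)

theorem code_norm {x : G} {c : ℕ} (hx : ∀ e < 16, x * φ e * x⁻¹ = φ (app c e)) {v : G} (hv : v ∈ K.eS) :
    x * v * x⁻¹ ∈ K.eS := by
  obtain ⟨e, he, rfl⟩ := K.mem_eS.1 hv
  rw [hx e he]
  exact K.mem_eS.2 ⟨_, app_lt _ _, rfl⟩

/-- every element normalising `E` has a code -/
theorem exists_hasCode {x : G} (hx : ∀ v ∈ K.eS, x * v * x⁻¹ ∈ K.eS) :
    ∃ c, K.HasCode c ∧ ∀ e < 16, x * φ e * x⁻¹ = φ (app c e) := by
  have h : ∀ e : ℕ, ∃ i < 16, e < 16 → x * φ e * x⁻¹ = φ i := fun e => by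
    by_cases he : e < 16
    · obtain ⟨i, hi, ei⟩ := K.mem_eS.1 (hx _ (K.mem_eS.2 ⟨e, he, rfl⟩))
      exact ⟨i, hi, fun _ => ei.symm⟩
    · exact ⟨0, by norm_num, fun h => absurd h he⟩
  choose f hf hfe using h
  set c := f 1 + 16 * f 2 + 256 * f 4 + 4096 * f 8 with hc
  have := hf 1; have := hf 2; have := hf 4; have := hf 8
  obtain ⟨b1, b2, b4, b8⟩ := app_basis c
  have he : ∀ e < 16, x * φ e * x⁻¹ = φ (app c e) := by
    refine induct16 ?_ ?_ ?_ ?_ ?_ fun a b ha hb ea eb => ?_
    · rw [PSpFourRecog.app_zero, K.one]; simp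
    · rw [hfe 1 (by norm_num), b1]; congr 1; omega
    · rw [hfe 2 (by norm_num), b2]; congr 1; omega
    · rw [hfe 4 (by norm_num), b4]; congr 1; omega
    · rw [hfe 8 (by norm_num), b8]; congr 1; omega
    · rw [← K.eS_mul ha hb, show x * (φ a * φ b) * x⁻¹ = x * φ a * x⁻¹ * (x * φ b * x⁻¹) by group, ea, eb,
        K.eS_mul (app_lt _ _) (app_lt _ _), app_xor]
  exact ⟨c, ⟨by omega, x, he⟩, he⟩

/-- some element normalising `E` moves the central involution -/
def Moves : Prop := ∃ c, K.HasCode c ∧ app c iZ ≠ iZ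

/-- the possible normal forms -/
def Shape (l : List ℕ) : Prop := ∀ c, K.HasCode c ↔ c ∈ l

theorem shape_of_cert {C : ACert} (hC : C.OK) (htgt : ∀ l ∈ C.tgt, ∀ d ∈ l, d < 65536)
    (H : IsA C.st K.HasCode) :
    ∃ s : ℕ → ℕ, s iZ = iZ ∧ ∃ K' : Hyp (φ ∘ s) S, ∃ l ∈ C.tgt, K'.Shape l := by
  obtain ⟨i, hi, hP⟩ := H.eq_grp hC
  have ht := hC.2.2.2.2.1
  simp only [ACert.twistOK, Bool.and_eq_true, List.all_eq_true, List.mem_range, List.any_eq_true, Nat.blt_eq,
    beq_iff_eq, List.contains_iff_mem] at ht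
  obtain ⟨ha, hb⟩ := ht
  obtain ⟨htw, tg, htg, hfw, hbw⟩ := hb i hi
  set p := C.aut.getD (C.twist.getD i 0) ([], []) with hp
  have hpm : p ∈ C.aut := by rw [hp, List.getD_eq_getElem _ _ htw]; exact List.getElem_mem htw
  obtain ⟨⟨hz, he16⟩, h64⟩ := ha p hpm
  set s := tblF p.1 with hs
  set t := tblF p.2 with ht
  have K' : Hyp (φ ∘ s) S := K.twist (s := s) (t := t)
    (fun i hi => ⟨(h64 i hi).1.1.1.1, (h64 i hi).1.1.1.2, (h64 i hi).1.1.2, (h64 i hi).1.2⟩)
    (fun i hi j hj => (h64 i hi).2 j hj)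
  refine ⟨s, hz, K', tg, htg, ?_⟩
  have hts : ∀ e < 16, s (t e) = e ∧ t (s e) = e := fun e he =>
    ⟨(h64 e (by omega)).1.1.2, (h64 e (by omega)).1.2⟩
  have hxor : ∀ {a b : ℕ}, a < 16 → b < 16 → a ^^^ b < 16 := fun ha hb => Nat.xor_lt_two_pow (n := 4) ha hb
  have hsm : ∀ e < 16, ∀ f < 16, s (e ^^^ f) = s e ^^^ s f := fun e he f hf => by
    refine K.inj _ (h64 _ (by have := hxor he hf; omega)).1.1.1.1 _ ?_ ?_
    · have := hxor (he16 e he).1 (he16 f hf).1; omega
    · rw [← K.eS_mul (he16 e he).1 (he16 f hf).1]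
      exact (K'.eS_mul he hf).symm
  have htm : ∀ e < 16, ∀ f < 16, t (e ^^^ f) = t e ^^^ t f := fun e he f hf => by
    have h := hsm _ (he16 e he).2 _ (he16 f hf).2
    rw [(hts e he).1, (hts f hf).1] at h
    rw [← h, (hts _ (hxor (he16 e he).2 (he16 f hf).2)).2]
  have hs0 : s 0 = 0 := by
    have h := hsm 0 (by norm_num) 0 (by norm_num)
    rwa [Nat.xor_self, Nat.xor_self] at h
  have ht0 : t 0 = 0 := by
    have h := htm 0 (by norm_num) 0 (by norm_num)
    rwa [Nat.xor_self, Nat.xor_self] at h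
  have conv : ∀ d, conjCode p.2 p.1 d < 65536 ∧
      ∀ e < 16, app (conjCode p.2 p.1 d) e = s (app d (t e)) := by
    intro d
    have := (he16 _ (app_lt d (t 1))).1; have := (he16 _ (app_lt d (t 2))).1
    have := (he16 _ (app_lt d (t 4))).1; have := (he16 _ (app_lt d (t 8))).1
    obtain ⟨b1, b2, b4, b8⟩ := app_basis (conjCode p.2 p.1 d)
    rw [conjCode, ← hs, ← ht] at *
    refine ⟨by omega, induct16 ?_ ?_ ?_ ?_ ?_ fun a b ha hb ea eb => ?_⟩
    · rw [PSpFourRecog.app_zero, ht0, PSpFourRecog.app_zero, hs0]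
    · rw [b1]; omega
    · rw [b2]; omega
    · rw [b4]; omega
    · rw [b8]; omega
    · rw [app_xor, ea, eb, htm a ha b hb, app_xor, hsm _ (app_lt _ _) _ (app_lt _ _)]
  intro d
  obtain ⟨hcl, hce⟩ := conv d
  refine ⟨?_, fun hd => ?_⟩
  · rintro ⟨hdl, x, hx⟩
    have hP' : K.HasCode (conjCode p.2 p.1 d) := ⟨hcl, x, fun e he => by
      have h1 := hx _ (he16 e he).2
      simp only [Function.comp_apply, (hts e he).1] at h1
      rw [hce e he, h1]⟩
    have k : ∀ e < 16, t (app (conjCode p.2 p.1 d) (s e)) = app d e := fun e he => by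
      rw [hce _ (he16 e he).1, (hts e he).2, (hts _ (app_lt _ _)).2]
    have hcd : conjCode p.1 p.2 (conjCode p.2 p.1 d) = d := by
      obtain ⟨e1, e2, e4, e8⟩ := app_basis d
      have := k 1 (by norm_num); have := k 2 (by norm_num)
      have := k 4 (by norm_num); have := k 8 (by norm_num)
      rw [show conjCode p.1 p.2 (conjCode p.2 p.1 d) = t (app (conjCode p.2 p.1 d) (s 1)) +
        16 * t (app (conjCode p.2 p.1 d) (s 2)) + 256 * t (app (conjCode p.2 p.1 d) (s 4)) +
        4096 * t (app (conjCode p.2 p.1 d) (s 8)) from rfl]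
      omega
    exact hcd ▸ hfw _ ((hP _).1 hP')
  · obtain ⟨-, x, hx⟩ := (hP _).2 (hbw d hd)
    refine ⟨htgt tg htg d hd, x, fun e he => ?_⟩
    have h1 := hx _ (he16 e he).1
    rwa [hce _ (he16 e he).1, (hts e he).2] at h1

omit K in
theorem tgt_lt : (∀ l ∈ certV.tgt, ∀ d ∈ l, d < 65536) ∧ ∀ l ∈ certA.tgt, ∀ d ∈ l, d < 65536 := by
  have h : ([std36, std12, std60].all fun l => l.all fun d => Nat.blt d 65536) = true := by decide +kernel
  simp only [List.all_eq_true, Nat.blt_eq] at h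
  constructor <;> intro l hl <;> refine h l ?_ <;>
    simp only [certV, certA, List.mem_cons, List.not_mem_nil, or_false] at hl ⊢ <;> tauto

theorem code_of_stab [Finite G] (hS : M12Syl.SylIn ⊤ S) (hsol : Group.IsSolvable K.cT) {c : ℕ}
    (hc : K.HasCode c) (h5 : app c iZ = iZ) : c ∈ stA ∧ (¬ K.HasTau hS hsol → c ∈ stV) := by
  obtain ⟨hlt, x, hx⟩ := hc
  have hxT : x ∈ K.cT := K.mem_cT.2 (mul_inv_eq_iff_eq_mul.1 (by rw [hx iZ (by decide), h5]))
  obtain ⟨j, hj, s, hs, htau, h⟩ := K.e_stab hS hsol hxT fun v hv => K.code_norm hx hv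
  have hchk : (((List.range 3).all fun j => (List.range 64).all fun s => (stA.any fun c =>
      (List.range 16).all fun e => app c e == tauP j (cjI s e)) &&
      (j != 0 || stV.any fun c => (List.range 16).all fun e => app c e == tauP j (cjI s e))) &&
      (stA ++ stV).all fun c => Nat.blt c 65536) = true := by
    decide +kernel
  simp only [Bool.and_eq_true, List.all_eq_true, List.mem_range, List.any_eq_true, beq_iff_eq,
    Bool.or_eq_true, bne_iff_ne, Nat.blt_eq, List.mem_append] at hchk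
  obtain ⟨hall, hlts⟩ := hchk
  have heq : ∀ c', c' < 65536 → (∀ e < 16, app c' e = tauP j (cjI s e)) → c = c' := fun c' hl hc' =>
    code_ext hlt hl fun e he => by
      have h1 := h e he
      rw [hx e he, ← hc' e he, K.eq_iff (by have := app_lt c e; omega) (by have := app_lt c' e; omega)] at h1
      exact h1
  obtain ⟨⟨ca, hca, ea⟩, hj0⟩ := hall j hj s hs
  refine ⟨(heq ca (hlts _ (.inl hca)) ea).symm ▸ hca, fun ht => ?_⟩
  have : j = 0 := by by_contra hne; exact ht (htau hne)
  obtain ⟨cv, hcv, ev⟩ := hj0.resolve_left (by simpa using this)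
  exact (heq cv (hlts _ (.inr hcv)) ev).symm ▸ hcv

theorem hasCode_stV {c : ℕ} (hc : c ∈ stV) : K.HasCode c := by
  have hchk : (stV.all fun c => Nat.blt c 65536 && (List.range 64).any fun s => (List.range 16).all fun e =>
      app c e == cjI s e) = true := by decide +kernel
  simp only [Bool.and_eq_true, List.all_eq_true, List.mem_range, List.any_eq_true, beq_iff_eq,
    Nat.blt_eq] at hchk
  obtain ⟨hlt, s, hs, h⟩ := hchk c hc
  exact ⟨hlt, φ s, fun e he => by rw [h e he]; exact (K.conj_eq hs (by omega)).symm⟩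

theorem hasCode_stA [Finite G] (hS : M12Syl.SylIn ⊤ S) (hsol : Group.IsSolvable K.cT)
    (ht : K.HasTau hS hsol) {c : ℕ} (hc : c ∈ stA) : K.HasCode c := by
  obtain ⟨y, -, hy⟩ := K.tau_lift hS hsol ht
  have hchk : (stA.all fun c => Nat.blt c 65536 && (List.range 3).any fun j => (List.range 64).any fun s =>
      (List.range 16).all fun e => app c e == tauP j (cjI s e)) = true := by decide +kernel
  simp only [Bool.and_eq_true, List.all_eq_true, List.mem_range, List.any_eq_true, beq_iff_eq,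
    Nat.blt_eq] at hchk
  obtain ⟨hlt, j, hj, s, hs, h⟩ := hchk c hc
  refine ⟨hlt, y ^ j * φ s, fun e he => ?_⟩
  rw [show y ^ j * φ s * φ e * (y ^ j * φ s)⁻¹ = y ^ j * (φ s * φ e * (φ s)⁻¹) * (y ^ j)⁻¹ by group,
    ← K.conj_eq hs (by omega), h e he]
  have hl := cjI_sixteen s hs e he
  interval_cases j
  · simp [tauP]
  · rw [pow_one, hy _ (by omega)]; rfl
  · rw [pow_two, show y * y * φ (cjI s e) * (y * y)⁻¹ = y * (y * φ (cjI s e) * y⁻¹) * y⁻¹ by group,
      hy _ (by omega), hy _ (tauI_facts.1 _ (by omega)).1]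
    rfl

theorem isA [Finite G] {st : List ℕ} (hstab : ∀ c, K.HasCode c → app c iZ = iZ → c ∈ st)
    (hmem : ∀ c ∈ st, K.HasCode c) (hmv : K.Moves) : IsA st K.HasCode :=
  ⟨K.hasCode_one, fun _ h => h.1, fun _ _ ha hb => K.hasCode_mul ha hb,
    fun _ h => let ⟨_, hx⟩ := h.2; K.code_inj hx, hstab, hmem, hmv⟩

/-- After a change of labels, the group induced on `E` is one of three groups. -/
theorem exists_shape [Finite G] (hS : M12Syl.SylIn ⊤ S) (hsol : Group.IsSolvable K.cT) (hmv : K.Moves) :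
    ∃ s : ℕ → ℕ, s iZ = iZ ∧ ∃ K' : Hyp (φ ∘ s) S, ∃ l ∈ [std36, std12, std60], K'.Shape l := by
  by_cases ht : K.HasTau hS hsol
  · obtain ⟨s, hz, K', l, hl, h⟩ := K.shape_of_cert certA_OK tgt_lt.2 (K.isA
      (fun c hc h5 => (K.code_of_stab hS hsol hc h5).1) (fun c hc => K.hasCode_stA hS hsol ht hc) hmv)
    refine ⟨s, hz, K', l, ?_, h⟩
    simp only [certA, List.mem_cons, List.not_mem_nil, or_false] at hl ⊢
    tauto
  · obtain ⟨s, hz, K', l, hl, h⟩ := K.shape_of_cert certV_OK tgt_lt.1 (K.isA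
      (fun c hc h5 => (K.code_of_stab hS hsol hc h5).2 ht) (fun c hc => K.hasCode_stV hc) hmv)
    refine ⟨s, hz, K', l, ?_, h⟩
    simp only [certV, List.mem_cons, List.not_mem_nil, or_false] at hl ⊢
    tauto

end Hyp

end CfsgLib.A8Syl
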