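import Cfsg.Agent.Lib.A8Syl.Fusion
import Cfsg.Agent.Lib.Signalizer.Solvable
import Cfsg.Agent.Lib.PSolvable.Core
import Cfsg.Agent.Lib.Coprime.Generation
import Cfsg.Agent.Lib.OddOrder.Solvable

/-!
The odd subgroup generated by the cores of the centralisers of three involutions, and its normaliser.
-/

set_option autoImplicit false
set_option linter.style.haveILetI false
set_option linter.unusedSectionVars false

namespace CfsgLib.A8Syl

open CfsgLib.PSpFourRecog (app app_lt)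

variable {G : Type*} [Group G]

theorem normalizer_of_forall [Finite G] {U : Subgroup G} {g : G} (h : ∀ u ∈ U, g * u * g⁻¹ ∈ U) :
    g ∈ Subgroup.normalizer (U : Set G) := by
  let F : U → U := fun u => ⟨g * u * g⁻¹, h u u.2⟩
  refine Subgroup.mem_normalizer_iff.2 fun u => ⟨h u, fun hu => ?_⟩
  obtain ⟨v, hv⟩ := Finite.surjective_of_injective (f := F) (fun a b e => Subtype.ext
    (mul_left_cancel (mul_right_cancel (congrArg Subtype.val e)))) ⟨_, hu⟩
  have : (v : G) = u := mul_left_cancel (mul_right_cancel (congrArg Subtype.val hv))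
  exact this ▸ v.2

theorem conj_norm {U : Subgroup G} {g u : G} (hg : g ∈ Subgroup.normalizer (U : Set G)) (hu : u ∈ U) :
    g * u * g⁻¹ ∈ U :=
  (Subgroup.mem_normalizer_iff.1 hg u).1 hu

theorem conj_cent {a b : G} (g : G) (h : a * b = b * a) :
    g * a * g⁻¹ * (g * b * g⁻¹) = g * b * g⁻¹ * (g * a * g⁻¹) := by
  rw [show g * a * g⁻¹ * (g * b * g⁻¹) = g * (a * b) * g⁻¹ by group, h]
  group

/-- A conjugate of a solvable centraliser is solvable. -/
theorem solvable_conj {v : G} (h : Group.IsSolvable ↥(Subgroup.centralizer ({v} : Set G))) (g : G) :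
    Group.IsSolvable ↥(Subgroup.centralizer ({g * v * g⁻¹} : Set G)) := by
  haveI := h
  let e : ↥(Subgroup.centralizer ({v} : Set G)) →* ↥(Subgroup.centralizer ({g * v * g⁻¹} : Set G)) :=
    { toFun := fun x => ⟨g * x * g⁻¹, Subgroup.mem_centralizer_singleton_iff.2
        (conj_cent g (Subgroup.mem_centralizer_singleton_iff.1 x.2))⟩
      map_one' := Subtype.ext (by simp)
      map_mul' := fun a b => Subtype.ext (by simp [mul_assoc]) }
  refine Group.isSolvable_of_surjective (f := e) fun y => ⟨⟨g⁻¹ * y * g, ?_⟩, ?_⟩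
  · refine Subgroup.mem_centralizer_singleton_iff.2 ?_
    have := conj_cent g⁻¹ (Subgroup.mem_centralizer_singleton_iff.1 y.2)
    rwa [show g⁻¹ * (g * v * g⁻¹) * g⁻¹⁻¹ = v by group, inv_inv] at this
  · exact Subtype.ext (by show g * (g⁻¹ * y * g) * g⁻¹ = y; group)

theorem constrained_of_solvable [Finite G] {v : G}
    (h : Group.IsSolvable ↥(Subgroup.centralizer ({v} : Set G))) :
    Cfsg.IsPConstrained 2 ↥(Subgroup.centralizer ({v} : Set G)) := by
  haveI := Fact.mk Nat.prime_two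
  exact PSolvable.isPConstrained_of_isPSolvable (PSolvable.isPSolvable_of_isSolvable h)

/-- the four-group -/
def bL : List ℕ := [0, 1, 4, 5]

/-- the elementary abelian subgroup of order eight -/
def f8L : List ℕ := [0, 1, 4, 5, 16, 17, 20, 21]

namespace Hyp

variable [Finite G] {φ : ℕ → G} {S : Subgroup G} (K : Hyp φ S)
include K

/-- the subgroup generated by the cores over the four-group -/
def uC (_ : Hyp φ S) : Subgroup G :=
  ⨆ b : {b : G // b ∈ Subgroup.closure {x | ∃ i ∈ bL, φ i = x} ∧ b ≠ 1}, Cfsg.centralizerPPrimeCore 2 (b : G)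

omit [Finite G] in
theorem bL_sub {x : G} : x ∈ Subgroup.closure {x | ∃ i ∈ bL, φ i = x} ↔ ∃ i ∈ bL, φ i = x :=
  K.mem_sub (l := bL) (by decide +kernel)

theorem core_le_uC {b : ℕ} (hb : b ∈ bL) (h0 : b ≠ 0) : Cfsg.centralizerPPrimeCore 2 (φ b) ≤ K.uC := by
  have hlt : b < 64 := K.lt_of_lOK (l := bL) (by decide +kernel) hb
  exact le_iSup (fun b : {b : G // b ∈ Subgroup.closure {x | ∃ i ∈ bL, φ i = x} ∧ b ≠ 1} =>
    Cfsg.centralizerPPrimeCore 2 (b : G))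
    ⟨φ b, K.bL_sub.2 ⟨b, hb, rfl⟩, fun e => h0 ((K.eq_one_iff hlt).1 e)⟩

/-- The cores of all involutions centralising the four-group are inside. -/
theorem four_le (hB : ∀ b ∈ bL, b ≠ 0 →
      Cfsg.IsPConstrained 2 ↥(Subgroup.centralizer ({φ b} : Set G)))
    {v : G} (hv : v * v = 1) (hvB : ∀ b ∈ bL, v * φ b = φ b * v) :
    Cfsg.centralizerPPrimeCore 2 v ≤ K.uC := by
  haveI := Fact.mk Nat.prime_two
  set B := K.sub bL
  have hok : lOK bL = true := by decide +kernel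
  have hBE : ∀ x ∈ B, x ∈ K.eS := fun x hx => by
    obtain ⟨i, hi, rfl⟩ := (K.mem_sub hok).1 hx
    refine K.mem_eS.2 ⟨i, ?_, rfl⟩
    simp only [bL, List.mem_cons, List.not_mem_nil, or_false] at hi
    omega
  haveI : IsMulCommutative B := ⟨⟨fun a b => Subtype.ext (K.eS_comm (hBE a a.2) (hBE b b.2))⟩⟩
  have hBc : Nat.card B = 4 := K.card_sub hok (by decide)
  refine Coprime.le_of_centralizer_le (A := B) (Coprime.not_isCyclic_of_exponent
    (fun a ha => by rw [pow_two]; exact K.eS_sq (hBE a ha)) two_pos (by omega)) (fun x hx => ?_) ?_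
    fun g hg hg1 => ?_
  · obtain ⟨i, hi, rfl⟩ := (K.mem_sub hok).1 hx
    exact Signalizer.centralizerPPrimeCore_normalized v
      (Subgroup.mem_centralizer_singleton_iff.2 (hvB i hi).symm)
  · rw [hBc]; exact ((Signalizer.coprime_centralizerPPrimeCore (p := 2) v).symm.pow_left 2)
  · obtain ⟨i, hi, rfl⟩ := (K.mem_sub hok).1 hg
    have h0 : i ≠ 0 := fun e => hg1 (by rw [e, K.one])
    exact (Signalizer.centralizerPPrimeCore_balance (hvB i hi) (by rw [pow_two, hv]) (hB i hi h0)).trans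
      (K.core_le_uC hi h0)

/-- the properties of this subgroup -/
structure Core (U : Subgroup G) : Prop where
  odd : ¬ 2 ∣ Nat.card U
  S_le : S ≤ Subgroup.normalizer (U : Set G)
  cT_le : K.cT ≤ Subgroup.normalizer (U : Set G)
  eN_le : ∀ x : G, (∀ v ∈ K.eS, x * v * x⁻¹ ∈ K.eS) → x ∈ Subgroup.normalizer (U : Set G)
  four_le : ∀ v : G, v * v = 1 → (∀ b ∈ bL, v * φ b = φ b * v) → Cfsg.centralizerPPrimeCore 2 v ≤ U
  theta_le : K.theta ≤ U
  cent_z : U ⊓ K.cT ≤ K.theta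

variable (hS : M12Syl.SylIn ⊤ S) (hsol : Group.IsSolvable K.cT)
include hS hsol

/-- the centraliser is contained in a subgroup containing the core, `S` and the lifts -/
theorem cT_le_of {M : Subgroup G} (hθ : K.theta ≤ M) (hSM : S ≤ M)
    (hchi : ∀ a : G, a ∈ K.cT → (∀ i ∈ qL, a * φ i * a⁻¹ = φ (chiI i)) → a ∈ M)
    (htau : ∀ y : G, y ∈ K.cT → (∀ i < 64, y * φ i * y⁻¹ = φ (tauI i)) → y ∈ M) : K.cT ≤ M := by
  have L := K.loc hS hsol
  intro x hx
  set X := K.prj ⟨x, hx⟩ with hX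
  have key : ∀ w, ∀ hw : w ∈ K.cT, w ∈ M → (K.prj ⟨w, hw⟩)⁻¹ * X ∈ K.tq → x ∈ M := by
    intro w hw hwM hT
    obtain ⟨i, hi, e⟩ := L.hyp.surj _ hT
    have e2 : X = K.prj ⟨w * φ i, mul_mem hw (K.S_le_cT (K.mem i hi))⟩ := by
      rw [show (⟨w * φ i, mul_mem hw (K.S_le_cT (K.mem i hi))⟩ : K.cT) =
        ⟨w, hw⟩ * ⟨φ i, K.S_le_cT (K.mem i hi)⟩ from rfl, map_mul, ← K.psi_eq hi, e, mul_inv_cancel_left]
    obtain ⟨o, ho, e'⟩ := K.theta_mul hS hsol hx _ e2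
    rw [e']
    exact mul_mem (hθ ho) (mul_mem hwM (hSM (K.mem i hi)))
  have hchi' : ∀ {a : G}, ∀ ha : a ∈ K.cT, (∀ i ∈ qL, a * φ i * a⁻¹ = φ (chiI i)) →
      L.Exact (K.prj ⟨a, ha⟩) chiI := fun {a} ha h i hi => by
    have hl := K.lt_of_lOK qL_invol.2.2.1 hi
    have hl' := K.lt_of_lOK qL_invol.2.2.1 (tauI_facts.2.2 i hi)
    rw [K.psi_eq hl, K.psi_eq hl', ← map_inv, ← map_mul, ← map_mul]
    exact congrArg _ (Subtype.ext (h i hi))
  have htau' : ∀ {y : G}, ∀ hy : y ∈ K.cT, (∀ i < 64, y * φ i * y⁻¹ = φ (tauI i)) →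
      ∀ i < 64, K.prj ⟨y, hy⟩ * K.psi i * (K.prj ⟨y, hy⟩)⁻¹ = K.psi (tauI i) := fun {y} hy h i hi => by
    rw [K.psi_eq hi, K.psi_eq (tauI_facts.1 i hi).1, ← map_inv, ← map_mul, ← map_mul]
    exact congrArg _ (Subtype.ext (h i hi))
  by_cases hc : K.HasChi hS hsol
  · obtain ⟨a, ha, hax⟩ := K.chi_lift hS hsol hc
    by_cases ht : K.HasTau hS hsol
    · obtain ⟨y, hy, hya⟩ := K.tau_lift hS hsol ht
      obtain ⟨i, -, j, -, hT⟩ := L.form_both (hchi' ha hax) (htau' hy hya) X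
      refine key (a ^ i * y ^ j) (mul_mem (pow_mem ha i) (pow_mem hy j))
        (mul_mem (pow_mem (hchi a ha hax) i) (pow_mem (htau y hy hya) j)) ?_
      rwa [show (⟨a ^ i * y ^ j, _⟩ : K.cT) = ⟨a, ha⟩ ^ i * ⟨y, hy⟩ ^ j from rfl, map_mul, map_pow, map_pow]
    · obtain ⟨i, -, hT⟩ := L.form_chi ht (hchi' ha hax) X
      refine key (a ^ i) (pow_mem ha i) (pow_mem (hchi a ha hax) i) ?_
      rwa [show (⟨a ^ i, _⟩ : K.cT) = ⟨a, ha⟩ ^ i from rfl, map_pow]
  · by_cases ht : K.HasTau hS hsol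
    · obtain ⟨y, hy, hya⟩ := K.tau_lift hS hsol ht
      obtain ⟨j, -, hT⟩ := L.form_tau hc (htau' hy hya) X
      refine key (y ^ j) (pow_mem hy j) (pow_mem (htau y hy hya) j) ?_
      rwa [show (⟨y ^ j, _⟩ : K.cT) = ⟨y, hy⟩ ^ j from rfl, map_pow]
    · refine key 1 (one_mem _) (one_mem _) ?_
      rw [show (⟨1, _⟩ : K.cT) = 1 from rfl, map_one, inv_one, one_mul]
      exact L.form_none hc ht X

theorem exists_core (hB : ∀ b ∈ bL, b ≠ 0 → Group.IsSolvable ↥(Subgroup.centralizer ({φ b} : Set G)))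
    {lf : List ℕ} (hlf : lOK lf = true) (hlb : ∀ b ∈ bL, b ∈ lf) (hnd : lf.Nodup) (h8 : 8 ≤ lf.length)
    (hab : ∀ i ∈ lf, mS i i = 0 ∧ ∀ j ∈ lf, mS i j = mS j i)
    (hF : ∀ i ∈ lf, i ≠ 0 → Group.IsSolvable ↥(Subgroup.centralizer ({φ i} : Set G))) :
    K.Core K.uC := by
  classical
  haveI := Fact.mk Nat.prime_two
  have hB' : ∀ b ∈ bL, b ≠ 0 → Cfsg.IsPConstrained 2 ↥(Subgroup.centralizer ({φ b} : Set G)) :=
    fun b hb h0 => constrained_of_solvable (hB b hb h0)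
  set F := K.sub lf with hFdef
  have hlt : ∀ i ∈ lf, i < 64 := fun i hi => K.lt_of_lOK hlf hi
  have hFc : ∀ a ∈ F, ∀ b ∈ F, a * b = b * a := fun a ha b hb => by
    obtain ⟨i, hi, rfl⟩ := (K.mem_sub hlf).1 ha
    obtain ⟨j, hj, rfl⟩ := (K.mem_sub hlf).1 hb
    exact (K.comm_iff (hlt i hi) (hlt j hj)).2 ((hab i hi).2 j hj)
  have hF2 : ∀ a ∈ F, a * a = 1 := fun a ha => by
    obtain ⟨i, hi, rfl⟩ := (K.mem_sub hlf).1 ha
    rw [← K.mul i (hlt i hi) i (hlt i hi), (hab i hi).1, K.one]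
  have hel : Cfsg.IsElementaryAbelian 2 F :=
    ⟨⟨⟨fun a b => Subtype.ext (hFc a a.2 b b.2)⟩⟩, fun a ha => by rw [pow_two]; exact hF2 a ha⟩
  have hodd : ∀ a : G, ¬ 2 ∣ Nat.card (Cfsg.centralizerPPrimeCore 2 a) := fun a hd =>
    Nat.prime_two.ne_one (Nat.eq_one_of_dvd_coprimes (Signalizer.coprime_centralizerPPrimeCore a) hd
      (dvd_refl 2))
  have hθ : Cfsg.IsSolvableSignalizerFunctor 2 F (Cfsg.centralizerPPrimeCore 2) := by
    refine ⟨⟨fun a _ _ => Subgroup.map_subtype_le _, fun a _ _ => hodd a,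
      fun a ha _ b hb x hx => conj_norm (Signalizer.centralizerPPrimeCore_normalized a
        (Subgroup.mem_centralizer_singleton_iff.2 (hFc b hb a ha))) hx,
      fun a ha _ b hb hb1 => ?_⟩,
      fun a _ _ => OddOrder.odd_order_solvable (Nat.odd_iff.2 (Nat.two_dvd_ne_zero.1 (hodd a)))⟩
    obtain ⟨i, hi, rfl⟩ := (K.mem_sub hlf).1 hb
    exact Signalizer.centralizerPPrimeCore_balance (hFc a ha _ hb) (by rw [pow_two, hF2 a ha])
      (constrained_of_solvable (hF i hi fun e => hb1 (by rw [e, K.one])))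
  obtain ⟨W, -, hW2, hW⟩ := Signalizer.hasCover hel
    (by rw [hFdef, K.card_sub hlf hnd]; exact le_trans (by norm_num) h8) hθ
  have hbF : ∀ b ∈ bL, φ b ∈ F := fun b hb => (K.mem_sub hlf).2 ⟨b, hlb b hb, rfl⟩
  have hsup : K.uC ≤ ⨆ a : {a : G // a ∈ F ∧ a ≠ 1}, Cfsg.centralizerPPrimeCore 2 (a : G) := by
    refine iSup_le fun b => ?_
    obtain ⟨i, hi, e⟩ := K.bL_sub.1 b.2.1
    exact le_iSup (fun a : {a : G // a ∈ F ∧ a ≠ 1} => Cfsg.centralizerPPrimeCore 2 (a : G))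
      ⟨b, e ▸ hbF i hi, b.2.2⟩
  have hUodd : ¬ 2 ∣ Nat.card K.uC := fun hd => hW2 (hd.trans (Subgroup.card_dvd_of_le
    (hsup.trans (iSup_le fun a => (hW a a.2.1 a.2.2).1))))
  have hfour : ∀ v : G, v * v = 1 → (∀ b ∈ bL, v * φ b = φ b * v) →
      Cfsg.centralizerPPrimeCore 2 v ≤ K.uC := fun v hv hvB => K.four_le hB' hv hvB
  -- maps of the four-group into its centraliser
  have perm : ∀ x : G, (∀ b ∈ bL, b ≠ 0 → ∀ b' ∈ bL, x * φ b * x⁻¹ * φ b' = φ b' * (x * φ b * x⁻¹)) →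
      x ∈ Subgroup.normalizer (K.uC : Set G) := by
    intro x hx
    refine normalizer_of_forall fun u hu => ?_
    have hmap : K.uC.map (MulAut.conj x).toMonoidHom ≤ K.uC := by
      rw [uC, Subgroup.map_iSup]
      refine iSup_le fun b => ?_
      obtain ⟨i, hi, e⟩ := K.bL_sub.1 b.2.1
      rw [← Signalizer.centralizerPPrimeCore_conj, ← e]
      have h0 : i ≠ 0 := fun h => b.2.2 (by rw [← e, h, K.one])
      have hil : i < 64 := K.lt_of_lOK (l := bL) (by decide +kernel) hi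
      refine hfour _ ?_ (hx i hi h0)
      rw [show x * φ i * x⁻¹ * (x * φ i * x⁻¹) = x * (φ i * φ i) * x⁻¹ by group, hF2 _ (hbF i hi)]
      group
    exact hmap ⟨u, hu, rfl⟩
  have hbE : ∀ b ∈ bL, φ b ∈ K.eS := fun b hb => K.mem_eS.2 ⟨b, by
    simp only [bL, List.mem_cons, List.not_mem_nil, or_false] at hb
    omega, rfl⟩
  have hN : ∀ x : G, (∀ v ∈ K.eS, x * v * x⁻¹ ∈ K.eS) → x ∈ Subgroup.normalizer (K.uC : Set G) :=
    fun x hx => perm x fun b hb _ b' hb' => K.eS_comm (hx _ (hbE b hb)) (hbE b' hb')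
  have hSM : S ≤ Subgroup.normalizer (K.uC : Set G) := fun s hs => hN s fun v hv => by
    obtain ⟨i, hi, rfl⟩ := K.surj s hs
    obtain ⟨e, he, rfl⟩ := K.mem_eS.1 hv
    rw [← K.conj_eq hi (by omega)]
    exact K.mem_eS.2 ⟨_, cjI_sixteen i hi e he, rfl⟩
  have h5 : iZ ∈ bL ∧ iZ ≠ 0 := by decide
  have hθU : K.theta ≤ K.uC := K.core_le_uC h5.1 h5.2
  refine ⟨hUodd, hSM, K.cT_le_of hS hsol (hθU.trans Subgroup.le_normalizer) hSM (fun a _ hax => ?_)
    (fun y _ hy => hN y fun v hv => ?_), hN, hfour, hθU, fun x hx => ?_⟩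
  · refine perm a fun b hb _ b' hb' => ?_
    have hc : (bL.all fun b => qL.contains b && bL.all fun b' => mS (chiI b) b' == mS b' (chiI b)) = true := by
      decide +kernel
    simp only [List.all_eq_true, Bool.and_eq_true, beq_iff_eq, List.contains_iff_mem] at hc
    have hbq := (hc b hb).1
    rw [hax b hbq]
    exact (K.comm_iff (K.lt_of_lOK qL_invol.2.2.1 (tauI_facts.2.2 b hbq))
      (K.lt_of_lOK (l := bL) (by decide +kernel) hb')).2 ((hc b hb).2 b' hb')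
  · obtain ⟨e, he, rfl⟩ := K.mem_eS.1 hv
    rw [hy e (by omega)]
    exact K.mem_eS.2 ⟨_, tauI_facts.2.1 e he, rfl⟩
  · obtain ⟨hxU, hxz⟩ := Subgroup.mem_inf.1 hx
    exact (hW (φ iZ) (hbF iZ h5.1) fun e => h5.2 ((K.eq_one_iff (by decide)).1 e)).2
      (Subgroup.mem_inf.2 ⟨hsup hxU, hxz⟩)

omit hsol in
theorem sylIn_of_le {M : Subgroup G} (hSM : S ≤ M) : M12Syl.SylIn M S := by
  obtain ⟨R, hR, hSR⟩ := M12Syl.sylIn_exists M S hSM hS.two
  have h : R = S := (Subgroup.eq_of_le_of_card_ge hSR (hS.card_le le_top hR.two)).symm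
  exact h ▸ hR

/-- An involution of such a subgroup is conjugate in it to one of a list. -/
theorem reduce {M : Subgroup G} (hSM : S ≤ M) (hcT : K.cT ≤ M) {v : G} (hv : v ∈ M) (hv2 : orderOf v = 2) :
    ∃ m ∈ M, ∃ i < 64, i ≠ 0 ∧ mS i i = 0 ∧ m * v * m⁻¹ = φ i ∧
      (i < 16 ∨ (i ∈ outI ∧ ¬ K.HasChi hS hsol)) := by
  obtain ⟨d, hd, hdS⟩ := (K.sylIn_of_le hS hSM).absorb (Subgroup.zpowers v) (Subgroup.zpowers_le.2 hv)
    (IsPGroup.of_card (n := 1) (by rw [Nat.card_zpowers, hv2]; rfl))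
  obtain ⟨i, hi, ei, hi2, hi0⟩ := K.idx_invol (Invol.conj_orderOf_two hv2 d) (hdS v (Subgroup.mem_zpowers v))
  by_cases h16 : i < 16
  · exact ⟨d, hd, i, hi, hi0, hi2, ei.symm, .inl h16⟩
  have hio := out_facts.1 i hi hi2 (by omega)
  by_cases hc : K.HasChi hS hsol
  · obtain ⟨c, hcT', e, he, hce, -⟩ := K.chi_into_E hS hsol hc hio
    refine ⟨c * d, mul_mem (hcT hcT') hd, e, by omega, ?_, ?_, ?_, .inl he⟩
    · rintro rfl
      rw [K.one, conj_eq_one_iff] at hce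
      exact hi0 ((K.eq_one_iff hi).1 hce)
    · refine (K.eq_one_iff (mS_lt (by omega) (by omega))).1 ?_
      rw [K.mul e (by omega) e (by omega), K.eS_sq (K.mem_eS.2 ⟨e, he, rfl⟩)]
    · rw [← hce, ei]; group
  · exact ⟨d, hd, i, hi, hi0, hi2, ei.symm, .inr ⟨hio, hc⟩⟩

/-- Conjugates of the central involution inside such a subgroup are conjugate in it. -/
theorem tmove {M : Subgroup G} (hSM : S ≤ M) (hcT : K.cT ≤ M)
    (hN : ∀ x : G, (∀ v ∈ K.eS, x * v * x⁻¹ ∈ K.eS) → x ∈ M) {v g : G} (hv : v ∈ M)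
    (hc : IsConj (φ iZ) v) (hgv : g * v * g⁻¹ ∈ M) : g ∈ M := by
  have hTM : ∀ {v : G}, v ∈ M → IsConj (φ iZ) v → ∃ m ∈ M, m * v * m⁻¹ = φ iZ := by
    intro v hv hc
    obtain ⟨c0, hc0⟩ := isConj_iff.1 hc
    obtain ⟨m, hm, i, hi, -, -, e, hcase⟩ := K.reduce hS hsol hSM hcT hv
      (by rw [← hc0]; exact Invol.conj_orderOf_two K.t_order c0)
    have hci : IsConj (φ iZ) (φ i) := hc.trans (isConj_iff.2 ⟨m, e⟩)
    rcases hcase with h16 | ⟨hio, hno⟩
    · obtain ⟨c, hcc, hce⟩ := K.e_fuse hS h16 (show iZ < 16 by decide) hci.symm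
      obtain ⟨n, hn⟩ := hcc.2
      refine ⟨n * m, mul_mem (hN n fun u hu => K.code_norm hn hu) hm, ?_⟩
      rw [show n * m * v * (n * m)⁻¹ = n * (m * v * m⁻¹) * n⁻¹ by group, e, hn i h16, hce]
    · obtain ⟨g, hg⟩ := isConj_iff.1 hci.symm
      exact (K.not_into_E hS hsol hno hio (g := g) (hg ▸ K.z_mem_eS)).elim
  obtain ⟨m, hm, hmv⟩ := hTM hv hc
  obtain ⟨m', hm', hmv'⟩ := hTM hgv (hc.trans (isConj_iff.2 ⟨g, rfl⟩))
  have hmem : m' * g * m⁻¹ ∈ K.cT := K.mem_cT_of_fix (by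
    calc m' * g * m⁻¹ * φ iZ * (m' * g * m⁻¹)⁻¹ = m' * (g * (m⁻¹ * φ iZ * m) * g⁻¹) * m'⁻¹ := by group
      _ = φ iZ := by rw [← hmv, show m⁻¹ * (m * v * m⁻¹) * m = v by group, hmv', hmv])
  have := mul_mem (mul_mem (inv_mem hm') (hcT hmem)) hm
  rwa [show m'⁻¹ * (m' * g * m⁻¹) * m = g by group] at this

end Hyp

end CfsgLib.A8Syl
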