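import Cfsg.Agent.Lib.A8Syl.Codes
import Cfsg.Agent.Lib.ZStar.Main
import Cfsg.Agent.Lib.Transfer.Thompson
import Cfsg.Agent.Lib.Invol.Dihedral

/-!
Fusion of involutions: the normaliser of the elementary abelian subgroup controls fusion in it.
-/

set_option autoImplicit false
set_option linter.style.haveILetI false
set_option linter.unusedSectionVars false

namespace CfsgLib.A8Syl

open CfsgLib.PSpFourRecog (app app_lt conj_in_normalizer)

/-- the involutions outside the elementary abelian subgroup -/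
def outI : List ℕ := [16, 17, 20, 21, 32, 37, 42, 47, 48, 53, 59, 62]

/-- the centraliser of an index -/
def centI (i : ℕ) : List ℕ := (List.range 64).filter fun j => mS i j == mS j i

theorem out_facts : (∀ i < 64, mS i i = 0 → 16 ≤ i → i ∈ outI) ∧
    (∀ i ∈ outI, i < 64 ∧ 16 ≤ i ∧ mS i i = 0 ∧ i ∈ qL ∧ lOK (centI i) = true ∧ (centI i).Nodup ∧
      (centI i).length = 16 ∧ (∃ a ∈ centI i, ∃ b ∈ centI i, cmI a b = iZ) ∧
      ∀ a ∈ centI i, ∀ b ∈ centI i, cmI a b = 0 ∨ cmI a b = iZ) ∧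
    ∀ a < 64, ∀ b < 64, cmI a b < 16 := by
  have h : (((List.range 64).all fun i => mS i i != 0 || Nat.blt i 16 || outI.contains i) &&
      (outI.all fun i => Nat.blt i 64 && Nat.ble 16 i && mS i i == 0 && qL.contains i && lOK (centI i) &&
        decide (centI i).Nodup && (centI i).length == 16 &&
        ((centI i).any fun a => (centI i).any fun b => cmI a b == iZ) &&
        (centI i).all fun a => (centI i).all fun b => cmI a b == 0 || cmI a b == iZ) &&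
      (List.range 64).all fun a => (List.range 64).all fun b => Nat.blt (cmI a b) 16) = true := by
    decide +kernel
  simp only [Bool.and_eq_true, List.all_eq_true, List.mem_range, Bool.or_eq_true, bne_iff_ne, beq_iff_eq,
    Nat.blt_eq, Nat.ble_eq, List.contains_iff_mem, decide_eq_true_eq, List.any_eq_true] at h
  refine ⟨fun i hi h2 h16 => ?_, fun i hi => ?_, h.2⟩
  · rcases h.1.1 i hi with (e | e) | e
    · exact absurd h2 e
    · omega
    · exact e
  · obtain ⟨⟨⟨⟨⟨⟨⟨⟨h1, h2⟩, h3⟩, h4⟩, h5⟩, h6⟩, h7⟩, h8⟩, h9⟩ := h.1.2 i hi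
    exact ⟨h1, h2, h3, h4, h5, h6, h7, h8, h9⟩

theorem mem_centI {i j : ℕ} : j ∈ centI i ↔ j < 64 ∧ mS i j = mS j i := by
  simp [centI]

theorem centI_symm {i j : ℕ} (h : j ∈ centI i) : j < 64 ∧ mS j i = mS i j :=
  ⟨(mem_centI.1 h).1, (mem_centI.1 h).2.symm⟩

namespace Hyp

variable {G : Type*} [Group G] [Finite G] {φ : ℕ → G} {S : Subgroup G} (K : Hyp φ S)
  (hS : M12Syl.SylIn ⊤ S)
include K hS

omit hS in
theorem eS_two : IsPGroup 2 K.eS := IsPGroup.of_card (n := 4) (by rw [K.card_eS]; rfl)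

/-- `E` is weakly closed. -/
theorem eS_weak {g : G} (h : ∀ x ∈ K.eS, g * x * g⁻¹ ∈ S) : ∀ x ∈ K.eS, g * x * g⁻¹ ∈ K.eS := by
  have hY : K.eS.map (MulAut.conj g).toMonoidHom = K.eS := by
    refine K.eS_unique ?_ ?_ ?_
    · rintro _ ⟨x, hx, rfl⟩; exact h x hx
    · rw [Subgroup.card_map_of_injective (MulEquiv.injective _), K.card_eS]
    · rintro _ ⟨x, hx, rfl⟩
      rw [← map_mul, K.eS_sq hx, map_one]
  intro x hx
  rw [← hY]
  exact ⟨x, hx, rfl⟩

omit K in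
theorem exists_sylow : ∃ P : Sylow 2 G, (P : Subgroup G) = S := by
  haveI := Fact.mk Nat.prime_two
  obtain ⟨T, hT⟩ := hS.two.exists_le_sylow
  exact ⟨T, (Subgroup.eq_of_le_of_card_ge hT (hS.card_le le_top T.isPGroup')).symm⟩

/-- Conjugate elements of `E` are conjugate by a code. -/
theorem e_fuse {i i' : ℕ} (hi : i < 16) (hi' : i' < 16) (h : IsConj (φ i) (φ i')) :
    ∃ c, K.HasCode c ∧ app c i = i' := by
  obtain ⟨P, hP⟩ := exists_sylow hS
  obtain ⟨g, hg⟩ := isConj_iff.1 h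
  have hm : φ i ∈ K.eS := K.mem_eS.2 ⟨i, hi, rfl⟩
  obtain ⟨n, hn, e⟩ := conj_in_normalizer P K.eS_two (fun g hg => K.eS_weak hS (hP ▸ hg))
    (fun a ha b hb => K.eS_comm ha hb) hm (g := g) (hg.symm ▸ K.mem_eS.2 ⟨i', hi', rfl⟩)
  obtain ⟨c, hc, hcn⟩ := K.exists_hasCode hn
  refine ⟨c, hc, K.inj _ ?_ _ (by omega) ?_⟩
  · have := app_lt c i; omega
  · rw [← hcn i hi, e, hg]

/-- A 2-subgroup centralising an element of `E` moves into `S` with it. -/
theorem into_S {u : G} (hu : u ∈ K.eS) {Y : Subgroup G} (hY2 : IsPGroup 2 Y)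
    (hYu : ∀ y ∈ Y, y * u = u * y) :
    ∃ g : G, g * u * g⁻¹ ∈ K.eS ∧ ∀ y ∈ Y, g * y * g⁻¹ ∈ S := by
  have hEC : K.eS ≤ Subgroup.centralizer ({u} : Set G) := fun x hx =>
    Subgroup.mem_centralizer_singleton_iff.2 (K.eS_comm hx hu)
  obtain ⟨R, hR, hER⟩ := M12Syl.sylIn_exists _ _ hEC K.eS_two
  obtain ⟨h, hh, hhY⟩ := hR.absorb Y (fun y hy => Subgroup.mem_centralizer_singleton_iff.2 (hYu y hy)) hY2
  obtain ⟨d, -, hd⟩ := hS.absorb R le_top hR.two
  refine ⟨d * h, ?_, fun y hy => ?_⟩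
  · rw [show d * h * u * (d * h)⁻¹ = d * (h * u * h⁻¹) * d⁻¹ by group,
      mul_inv_eq_iff_eq_mul.2 (Subgroup.mem_centralizer_singleton_iff.1 hh)]
    exact K.eS_weak hS (fun x hx => hd x (hER hx)) u hu
  · rw [show d * h * y * (d * h)⁻¹ = d * (h * y * h⁻¹) * d⁻¹ by group]
    exact hd _ (hhY y hy)

omit hS in
theorem z_mem_eS : φ iZ ∈ K.eS := K.mem_eS.2 ⟨iZ, by decide, rfl⟩

omit hS in
theorem mem_cT_of_fix {g : G} (h : g * φ iZ * g⁻¹ = φ iZ) : g ∈ K.cT :=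
  K.mem_cT.2 (mul_inv_eq_iff_eq_mul.1 h)

variable (hsol : Group.IsSolvable K.cT)
include hsol

/-- Without a moving element of order three, involutions outside `E` are never conjugate into it. -/
theorem not_into_E (hc : ¬ K.HasChi hS hsol) {i : ℕ} (hi : i ∈ outI) {g : G}
    (h : g * φ i * g⁻¹ ∈ K.eS) : False := by
  obtain ⟨hi64, hi16, -, -, hok, -, -, ⟨a, ha, b, hb, hab⟩, -⟩ := out_facts.2.1 i hi
  set W := K.sub (centI i)
  have hWx : ∀ w ∈ W, w * φ i = φ i * w := fun w hw => by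
    obtain ⟨j, hj, rfl⟩ := (K.mem_sub hok).1 hw
    exact (K.comm_iff (centI_symm hj).1 hi64).2 (centI_symm hj).2
  obtain ⟨k, hk, hkW⟩ := K.into_S hS h (Y := W.map (MulAut.conj g).toMonoidHom)
    ((hS.two.to_le (K.sub_le hok)).map _) (by
      rintro _ ⟨w, hw, rfl⟩
      show g * w * g⁻¹ * (g * φ i * g⁻¹) = g * φ i * g⁻¹ * (g * w * g⁻¹)
      rw [show g * w * g⁻¹ * (g * φ i * g⁻¹) = g * (w * φ i) * g⁻¹ by group, hWx w hw]
      group)
  -- the commutator
  have hin : ∀ j ∈ centI i, ∃ j' < 64, k * g * φ j * (k * g)⁻¹ = φ j' := fun j hj => by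
    obtain ⟨j', hj', e⟩ := K.surj _ (hkW _ ⟨φ j, (K.mem_sub hok).2 ⟨j, hj, rfl⟩, rfl⟩)
    refine ⟨j', hj', ?_⟩
    rw [e]
    show _ = k * (g * φ j * g⁻¹) * k⁻¹
    group
  obtain ⟨a', ha', ea⟩ := hin a ha
  obtain ⟨b', hb', eb⟩ := hin b hb
  have hz : k * g * φ iZ * (k * g)⁻¹ = φ (cmI a' b') := by
    rw [← hab, K.cmI_eq (centI_symm ha).1 (centI_symm hb).1, K.cmI_eq ha' hb', ← ea, ← eb]
    group
  obtain ⟨c, hc', hce⟩ := K.e_fuse hS (out_facts.2.2 a' ha' b' hb') (show iZ < 16 by decide)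
    (isConj_iff.2 ⟨(k * g)⁻¹, by rw [← hz]; group⟩)
  obtain ⟨n, hn⟩ := hc'.2
  set m := n * (k * g)
  have hm : m ∈ K.cT := K.mem_cT_of_fix (by
    show n * (k * g) * φ iZ * (n * (k * g))⁻¹ = φ iZ
    rw [show n * (k * g) * φ iZ * (n * (k * g))⁻¹ = n * (k * g * φ iZ * (k * g)⁻¹) * n⁻¹ by group, hz,
      hn _ (out_facts.2.2 a' ha' b' hb'), hce])
  have hme : m * φ i * m⁻¹ ∈ K.eS := by
    rw [show m * φ i * m⁻¹ = n * (k * (g * φ i * g⁻¹) * k⁻¹) * n⁻¹ by simp only [m]; group]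
    exact K.code_norm hn hk
  obtain ⟨o, ho, hoE⟩ := K.norm_e_of_no_chi hS hsol hc (inv_mem hm)
  have h' := hoE _ hme
  rw [show o * m⁻¹ * (m * φ i * m⁻¹) * (o * m⁻¹)⁻¹ = o * φ i * o⁻¹ by group] at h'
  rw [K.theta_fix hS hsol ho (K.mem i hi64) (K.eS_le h')] at h'
  obtain ⟨e, he, ee⟩ := K.mem_eS.1 h'
  rw [K.eq_iff (by omega) hi64] at ee
  omega

/-- The conjugates in `S` of an involution outside `E` come from the centraliser of the central
involution. -/
theorem out_fusion (hc : ¬ K.HasChi hS hsol) {i : ℕ} (hi : i ∈ outI) {j : ℕ} (hj : j < 64) {g : G}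
    (h : g * φ i * g⁻¹ = φ j) : j ∈ outI ∧ ∃ c ∈ K.cT, c * φ i * c⁻¹ = φ j := by
  haveI := Fact.mk Nat.prime_two
  obtain ⟨hi64, hi16, hi2, -, hoki, -, -, ⟨a, ha, b, hb, hab⟩, -⟩ := out_facts.2.1 i hi
  have hjj : mS j j = 0 := by
    refine (K.eq_one_iff (mS_lt hj hj)).1 ?_
    rw [K.mul j hj j hj, ← h, show g * φ i * g⁻¹ * (g * φ i * g⁻¹) = g * (φ i * φ i) * g⁻¹ by group,
      ← K.mul i hi64 i hi64, hi2, K.one]
    group
  have hjo : j ∈ outI := by
    refine out_facts.1 j hj hjj ?_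
    by_contra hlt
    exact K.not_into_E hS hsol hc hi (g := g) (h ▸ K.mem_eS.2 ⟨j, by omega, rfl⟩)
  refine ⟨hjo, ?_⟩
  obtain ⟨-, -, -, -, hokj, hndj, hlenj, -, hcmj⟩ := out_facts.2.1 j hjo
  set W := K.sub (centI j)
  have hWc : W ≤ Subgroup.centralizer ({φ j} : Set G) := fun w hw => by
    obtain ⟨l, hl, rfl⟩ := (K.mem_sub hokj).1 hw
    exact Subgroup.mem_centralizer_singleton_iff.2 ((K.comm_iff (centI_symm hl).1 hj).2 (centI_symm hl).2)
  obtain ⟨R, hR, hWR⟩ := M12Syl.sylIn_exists _ _ hWc (hS.two.to_le (K.sub_le hokj))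
  obtain ⟨d, -, hd⟩ := hS.absorb R le_top hR.two
  have hjR : φ j ∈ R := hWR ((K.mem_sub hokj).2 ⟨j, mem_centI.2 ⟨hj, rfl⟩, rfl⟩)
  obtain ⟨w, hw, ew⟩ := K.surj _ (hd _ hjR)
  have hwo : w ∈ outI := by
    refine out_facts.1 w hw ((K.eq_one_iff (mS_lt hw hw)).1 ?_) ?_
    · rw [K.mul w hw w hw, ew, show d * φ j * d⁻¹ * (d * φ j * d⁻¹) = d * (φ j * φ j) * d⁻¹ by group,
        ← K.mul j hj j hj, hjj, K.one]
      group
    · by_contra hlt
      exact K.not_into_E hS hsol hc hjo (g := d) (ew ▸ K.mem_eS.2 ⟨w, by omega, rfl⟩)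
  obtain ⟨-, -, -, -, hokw, hndw, hlenw, -, -⟩ := out_facts.2.1 w hwo
  have hRW : R = W := by
    refine (Subgroup.eq_of_le_of_card_ge hWR ?_).symm
    rw [K.card_sub hokj hndj, hlenj, ← hlenw, ← K.card_sub hokw hndw]
    have hle : R.map (MulAut.conj d).toMonoidHom ≤ K.sub (centI w) := by
      rintro _ ⟨r, hr, rfl⟩
      obtain ⟨l, hl, el⟩ := K.surj _ (hd r hr)
      refine (K.mem_sub hokw).2 ⟨l, mem_centI.2 ⟨hl, (K.comm_iff hw hl).1 ?_⟩, el⟩
      rw [el, ew, show d * φ j * d⁻¹ * (d * r * d⁻¹) = d * (φ j * r) * d⁻¹ by group,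
        ← Subgroup.mem_centralizer_singleton_iff.1 (hR.le hr)]
      group
    have := Subgroup.card_le_of_le hle
    rwa [Subgroup.card_map_of_injective (MulEquiv.injective _)] at this
  subst hRW
  obtain ⟨e, he, heW⟩ := hR.absorb ((K.sub (centI i)).map (MulAut.conj g).toMonoidHom) (by
    rintro _ ⟨x, hx, rfl⟩
    obtain ⟨l, hl, rfl⟩ := (K.mem_sub hoki).1 hx
    refine Subgroup.mem_centralizer_singleton_iff.2 ?_
    show g * φ l * g⁻¹ * φ j = φ j * (g * φ l * g⁻¹)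
    rw [← h, show g * φ l * g⁻¹ * (g * φ i * g⁻¹) = g * (φ l * φ i) * g⁻¹ by group,
      (K.comm_iff (centI_symm hl).1 hi64).2 (centI_symm hl).2]
    group) ((hS.two.to_le (K.sub_le hoki)).map _)
  have hej := Subgroup.mem_centralizer_singleton_iff.1 he
  have him : ∀ l ∈ centI i, ∃ l' ∈ centI j, e * g * φ l * (e * g)⁻¹ = φ l' := fun l hl => by
    obtain ⟨l', hl', el⟩ := (K.mem_sub hokj).1 (heW _ ⟨φ l, (K.mem_sub hoki).2 ⟨l, hl, rfl⟩, rfl⟩)
    refine ⟨l', hl', ?_⟩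
    rw [el]
    show _ = e * (g * φ l * g⁻¹) * e⁻¹
    group
  obtain ⟨a', ha', ea⟩ := him a ha
  obtain ⟨b', hb', eb⟩ := him b hb
  have hz : e * g * φ iZ * (e * g)⁻¹ = φ (cmI a' b') := by
    rw [← hab, K.cmI_eq (centI_symm ha).1 (centI_symm hb).1,
      K.cmI_eq (centI_symm ha').1 (centI_symm hb').1, ← ea, ← eb]
    group
  refine ⟨e * g, K.mem_cT_of_fix ?_, ?_⟩
  · rcases hcmj a' ha' b' hb' with h0 | h0
    · rw [h0, K.one, conj_eq_one_iff] at hz
      exact absurd ((K.eq_one_iff (by decide)).1 hz) (by decide)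
    · rw [hz, h0]
  · rw [show e * g * φ i * (e * g)⁻¹ = e * (g * φ i * g⁻¹) * e⁻¹ by group, h, hej]
    group

/-- An element of order three fuses every involution outside `E` into it. -/
theorem chi_into_E (h : K.HasChi hS hsol) {i : ℕ} (hi : i ∈ outI) :
    ∃ c ∈ K.cT, ∃ e < 16, c * φ i * c⁻¹ = φ e ∧ (e = chiI i ∨ e = chiI (chiI i)) := by
  obtain ⟨a, ha, hax⟩ := K.chi_lift hS hsol h
  have hc : (outI.all fun i => Nat.blt (chiI i) 16 || Nat.blt (chiI (chiI i)) 16) = true := by decide +kernel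
  simp only [List.all_eq_true, Bool.or_eq_true, Nat.blt_eq] at hc
  have hiq := (out_facts.2.1 i hi).2.2.2.1
  rcases hc i hi with h1 | h1
  · exact ⟨a, ha, _, h1, hax i hiq, .inl rfl⟩
  · refine ⟨a * a, mul_mem ha ha, _, h1, ?_, .inr rfl⟩
    rw [show a * a * φ i * (a * a)⁻¹ = a * (a * φ i * a⁻¹) * a⁻¹ by group, hax i hiq,
      hax _ (tauI_facts.2.2 i hiq)]

/-- The central involution is conjugate to another element of `E`. -/
theorem moves (hodd : Cfsg.oddCore G = ⊥) (hcore2 : Cfsg.pCore 2 G = ⊥) : K.Moves := by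
  haveI := Fact.mk Nat.prime_two
  by_contra hno
  have hE : ∀ e < 16, IsConj (φ iZ) (φ e) → e = iZ := fun e he h => by
    obtain ⟨c, hc, rfl⟩ := K.e_fuse hS (by decide) he h
    by_contra hne
    exact hno ⟨c, hc, hne⟩
  obtain ⟨P, hP⟩ := exists_sylow hS
  have hiso : ∀ g : G, g * φ iZ * g⁻¹ ∈ (P : Subgroup G) → g * φ iZ * g⁻¹ = φ iZ := by
    intro g hg
    obtain ⟨i, hi, ei⟩ := K.surj _ (hP ▸ hg)
    have hc : IsConj (φ iZ) (φ i) := isConj_iff.2 ⟨g, ei.symm⟩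
    by_cases h16 : i < 16
    · rw [← ei, hE i h16 hc]
    exfalso
    have hio : i ∈ outI := by
      refine out_facts.1 i hi ((K.eq_one_iff (mS_lt hi hi)).1 ?_) (by omega)
      rw [K.mul i hi i hi, ei, show g * φ iZ * g⁻¹ * (g * φ iZ * g⁻¹) = g * (φ iZ * φ iZ) * g⁻¹ by group,
        K.eS_sq K.z_mem_eS]
      group
    by_cases hchi : K.HasChi hS hsol
    · obtain ⟨c, hcT, e, he, hce, -⟩ := K.chi_into_E hS hsol hchi hio
      have h1 := hE e he (hc.trans (isConj_iff.2 ⟨c, hce⟩))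
      subst h1
      have h2 : φ i = φ iZ := by
        have := congrArg (fun x => c⁻¹ * x * c) hce
        simp only [show c⁻¹ * (c * φ i * c⁻¹) * c = φ i by group] at this
        rw [this, mul_assoc, ← K.mem_cT.1 hcT]; group
      exact h16 (K.inj i hi iZ (by decide) h2 ▸ (by decide))
    · refine K.not_into_E hS hsol hchi hio (g := g⁻¹) ?_
      rw [ei]
      convert K.z_mem_eS using 1
      group
  obtain ⟨N, hN, hNodd, hcomm⟩ := ZStar.exists_normal_odd_commutator_mem P (φ iZ) K.t_order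
    (show φ iZ ∈ (P : Subgroup G) by rw [hP]; exact K.mem iZ (by decide)) hiso
  have hN1 : N = ⊥ := by
    rw [eq_bot_iff, ← hodd]
    exact le_sSup ⟨hN, Nat.coprime_two_right.2 hNodd⟩
  have hcen : ∀ g : G, φ iZ * g = g * φ iZ := fun g => by
    have h := hcomm g
    rw [hN1, Subgroup.mem_bot] at h
    exact mul_inv_eq_iff_eq_mul.1 (mul_inv_eq_one.1 h)
  have hn : (Subgroup.zpowers (φ iZ)).Normal := ⟨fun x hx g => by
    obtain ⟨k, rfl⟩ := Subgroup.mem_zpowers_iff.1 hx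
    rw [← ((show Commute (φ iZ) g from hcen g).zpow_left k).eq, mul_inv_cancel_right]
    exact Subgroup.zpow_mem_zpowers _ k⟩
  have hle : Subgroup.zpowers (φ iZ) ≤ Cfsg.pCore 2 G :=
    le_sSup ⟨hn, IsPGroup.of_card (n := 1) (by rw [Nat.card_zpowers, K.t_order]; rfl)⟩
  rw [hcore2, le_bot_iff, Subgroup.zpowers_eq_bot] at hle
  exact absurd ((K.eq_one_iff (by decide)).1 hle) (by decide)

/-- One of the two elements of order three exists. -/
theorem chi_or_tau (hO2 : Cfsg.pResidual 2 G = ⊤) : K.HasChi hS hsol ∨ K.HasTau hS hsol := by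
  by_contra hno
  push Not at hno
  obtain ⟨hc, ht⟩ := hno
  obtain ⟨P, hP⟩ := exists_sylow hS
  set l := List.range 32
  have hok : lOK l = true := by decide +kernel
  have hidx : (K.sub l).relIndex (P : Subgroup G) = 2 := by
    rw [hP]
    have h1 := Subgroup.card_mul_index ((K.sub l).subgroupOf S)
    rw [Nat.card_congr (Subgroup.subgroupOfEquivOfLe (K.sub_le hok)).toEquiv,
      K.card_sub hok List.nodup_range, List.length_range, K.card_eq] at h1
    show ((K.sub l).subgroupOf S).index = 2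
    omega
  have h32 : (32 : ℕ) ∈ outI := by decide
  obtain ⟨h32l, -, h322, -⟩ := out_facts.2.1 32 h32
  rcases Transfer.thompson_transfer P hidx (u := φ 32)
      (by rw [← K.mul 32 h32l 32 h32l, h322, K.one]) (hP ▸ K.mem 32 h32l)
      (fun h => absurd ((K.mem_sub_iff hok h32l).1 h) (by simp [l])) with ⟨M, -, hM2, -⟩ | ⟨g, hgP, hgl⟩
  · exact Transfer.pResidual_ne_top_of_index_two hM2 hO2
  obtain ⟨j, hj, ej⟩ := (K.mem_sub hok).1 hgl
  have hj' : j < 32 := List.mem_range.1 hj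
  obtain ⟨-, c, hcT, hce⟩ := K.out_fusion hS hsol hc h32 (by omega) ej.symm
  obtain ⟨o, ho, s, hs, rfl⟩ := K.none_factor hS hsol hc ht hcT
  obtain ⟨si, hsi, rfl⟩ := K.surj s hs
  have h1 : φ j = φ (cjI si 32) := by
    rw [K.conj_eq hsi h32l] at *
    rw [← hce, show o * φ si * φ 32 * (o * φ si)⁻¹ = o * (φ si * φ 32 * (φ si)⁻¹) * o⁻¹ by group]
    refine K.theta_fix hS hsol ho (mul_mem (mul_mem hs (K.mem 32 h32l)) (inv_mem hs)) ?_
    rw [show o * (φ si * φ 32 * (φ si)⁻¹) * o⁻¹ = o * φ si * φ 32 * (o * φ si)⁻¹ by group, hce]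
    exact K.mem j (by omega)
  have hchk : ((List.range 64).all fun s => Nat.ble 32 (cjI s 32)) = true := by decide +kernel
  simp only [List.all_eq_true, List.mem_range, Nat.ble_eq] at hchk
  rw [K.eq_iff (by omega) (cjI_lt hsi h32l)] at h1
  have := hchk si hsi
  omega

end Hyp

end CfsgLib.A8Syl
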