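import Cfsg.Agent.Lib.A8Syl.Kill36
import Cfsg.Agent.Lib.A8Syl.CentSolv
import Cfsg.Agent.Lib.Invol.StronglyEmbedded

/-!
The core of the centraliser of the central involution is trivial.
-/

set_option autoImplicit false
set_option linter.style.haveILetI false
set_option linter.unusedSectionVars false

namespace CfsgLib.A8Syl

open CfsgLib.PSpFourRecog (app app_lt)

/-- An involution acting on an odd subgroup: a coset it fixes contains a fixed element. -/
theorem exists_fixed_coset {G : Type*} [Group G] [Finite G] {O : Subgroup G} (hO : ¬ 2 ∣ Nat.card O) {t x : G}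
    (ht : t * t = 1) (hn : ∀ o ∈ O, t * o * t⁻¹ ∈ O) (hx : t * x * t⁻¹ * x⁻¹ ∈ O) :
    ∃ o ∈ O, o * x * t = t * (o * x) := by
  classical
  let σ : Equiv.Perm O := Function.Involutive.toPerm
    (fun o => (⟨t * o * t⁻¹ * (t * x * t⁻¹ * x⁻¹), mul_mem (hn o o.2) hx⟩ : O))
    (fun o => Subtype.ext (by
      show t * (t * (o : G) * t⁻¹ * (t * x * t⁻¹ * x⁻¹)) * t⁻¹ * (t * x * t⁻¹ * x⁻¹) = o
      rw [inv_eq_of_mul_eq_one_right ht]
      calc t * (t * (o : G) * t * (t * x * t * x⁻¹)) * t * (t * x * t * x⁻¹)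
          = t * t * o * (t * t) * x * t * x⁻¹ * (t * t) * x * t * x⁻¹ := by group
        _ = o * x * (t * t) * x⁻¹ := by
          simp only [ht, one_mul, mul_one, mul_assoc]; simp [← mul_assoc, ht]
        _ = o := by rw [ht]; group))
  haveI := Fintype.ofFinite O
  obtain ⟨o, ho⟩ := Equiv.Perm.exists_fixed_point_of_prime (p := 2) (n := 1)
    (by rw [← Nat.card_eq_fintype_card]; exact hO) (σ := σ) (by
      ext1 o
      rw [pow_one, pow_two, Equiv.Perm.mul_apply, Equiv.Perm.one_apply]
      exact Function.Involutive.toPerm_involutive _ o)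
  refine ⟨o, o.2, ?_⟩
  have h : t * (o : G) * t⁻¹ * (t * x * t⁻¹ * x⁻¹) = (o : G) := congrArg Subtype.val ho
  rw [eq_comm, ← mul_inv_eq_iff_eq_mul]
  calc t * ((o : G) * x) * t⁻¹ = t * (o : G) * t⁻¹ * (t * x * t⁻¹ * x⁻¹) * x := by group
    _ = o * x := by rw [h]

/-- the outside class centralising the four-group -/
def c16L : List ℕ := [16, 17, 20, 21]

theorem kill_facts :
    ((List.range 16).all fun e => [std36, std12, std60].all fun l => e == 0 || (zOrb l).contains e ||
      l.any fun c => pairsL.contains (l, app c e)) = true ∧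
    ([std36, std12].all fun l => f8L.all fun i => Nat.blt i 16 && (i == 0 || (zOrb l).contains i) ||
      outI.contains i && (!Nat.blt (chiI i) 16 || (zOrb l).contains (chiI i)) &&
        (!Nat.blt (chiI (chiI i)) 16 || (zOrb l).contains (chiI (chiI i)))) = true ∧
    (bL.all fun b => b == 0 || [std36, std12].all fun l => (zOrb l).contains b) = true ∧
    (outI.all fun i => (List.range 3).any fun j => c16L.contains (tauP j i)) = true ∧
    (c16L.all fun i => outI.contains i && (bL.all fun b => mS i b == mS b i) &&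
      (List.range 16).all fun w => !(centI i).contains w || w == iZ || !(zOrb std60).contains w) = true ∧
    ([std36, std12, std60].all fun l => !(zOrb l).contains 11 && (zOrb l).contains iZ) = true ∧
    ((zOrb std60).contains 3 = true) := by
  refine ⟨?_, ?_, ?_, ?_, ?_, ?_, ?_⟩ <;> decide +kernel

namespace Hyp

variable {G : Type*} [Group G] [Finite G] {φ : ℕ → G} {S : Subgroup G} (K : Hyp φ S)
  (hS : M12Syl.SylIn ⊤ S) (hsol : Group.IsSolvable K.cT)
include K hS hsol

theorem solvable_zType {v : G} (h : IsConj (φ iZ) v) :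
    Group.IsSolvable ↥(Subgroup.centralizer ({v} : Set G)) := by
  obtain ⟨g, rfl⟩ := isConj_iff.1 h
  exact solvable_conj hsol g

omit hsol in
/-- the representatives of the other classes in `E` -/
theorem exists_pair {l : List ℕ} (hl : K.Shape l) (hm : l ∈ [std36, std12, std60]) {e : ℕ} (he : e < 16)
    (h0 : e ≠ 0) (hz : ¬ IsConj (φ iZ) (φ e)) : ∃ c ∈ l, (l, app c e) ∈ pairsL := by
  have h := kill_facts.1
  simp only [List.all_eq_true, List.mem_range, Bool.or_eq_true, beq_iff_eq, List.any_eq_true,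
    List.contains_iff_mem] at h
  rcases h e he l hm with (h | h) | h
  · exact absurd h h0
  · exact absurd ((K.mem_zOrb hS hl he).2 h) hz
  · exact h

theorem exists_core_shape {l : List ℕ} (hl : K.Shape l) (hm : l ∈ [std36, std12, std60])
    (hct : K.HasChi hS hsol ∨ K.HasTau hS hsol) : ∃ U : Subgroup G, K.Core U := by
  by_cases h60 : l = std60
  · subst h60
    have hall : ∀ e < 16, e ≠ 0 → Group.IsSolvable ↥(Subgroup.centralizer ({φ e} : Set G)) := by
      intro e he h0
      by_cases hz : IsConj (φ iZ) (φ e)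
      · exact K.solvable_zType hS hsol hz
      obtain ⟨c, hc, hp⟩ := K.exists_pair hS hl hm he h0 hz
      have e11 : app c e = 11 := by
        have hk : (pairsL.all fun p => decide (p.1 ≠ std60) || p.2 == 11) = true := by decide +kernel
        simp only [List.all_eq_true, Bool.or_eq_true, decide_eq_true_eq, beq_iff_eq] at hk
        exact (hk _ hp).resolve_left fun h => h rfl
      obtain ⟨n, hn⟩ := ((hl c).2 hc).2
      obtain ⟨H, hH⟩ := K.exists_H hS hsol hl (e11 ▸ hp : (std60, 11) ∈ pairsL)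
      have h11 := K.cent_solvable hl hH
        (K.solvable_zType hS hsol ((K.mem_zOrb hS hl (by norm_num)).2 (List.contains_iff_mem.1 kill_facts.2.2.2.2.2.2)))
      have := solvable_conj h11 n⁻¹
      rwa [show n⁻¹ * φ 11 * n⁻¹⁻¹ = φ e by rw [← e11, ← hn e he]; group] at this
    refine ⟨K.uC, K.exists_core hS hsol (fun b hb h0 => hall b ?_ h0) (lf := List.range 16) eS_ok
      (fun b hb => List.mem_range.2 ?_) List.nodup_range (by simp) (fun i hi => ?_)
      fun i hi h0 => hall i (List.mem_range.1 hi) h0⟩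
    · simp only [bL, List.mem_cons, List.not_mem_nil, or_false] at hb; omega
    · simp only [bL, List.mem_cons, List.not_mem_nil, or_false] at hb; omega
    · have h : ((List.range 16).all fun i => mS i i == 0 && (List.range 16).all fun j => mS i j == mS j i) = true := by
        decide +kernel
      simp only [List.all_eq_true, Bool.and_eq_true, beq_iff_eq] at h
      exact h i hi
  · have hm' : l = std36 ∨ l = std12 := by
      simp only [List.mem_cons, List.not_mem_nil, or_false] at hm; tauto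
    have hchi := hct.resolve_right (K.no_tau hS hsol hl hm')
    have hm2 : l ∈ [std36, std12] := by simpa using hm'
    have hb := kill_facts.2.2.1
    simp only [List.all_eq_true, Bool.or_eq_true, beq_iff_eq, List.contains_iff_mem] at hb
    have hB : ∀ b ∈ bL, b ≠ 0 → Group.IsSolvable ↥(Subgroup.centralizer ({φ b} : Set G)) := by
      intro b hbL h0
      have hb16 : b < 16 := by simp only [bL, List.mem_cons, List.not_mem_nil, or_false] at hbL; omega
      exact K.solvable_zType hS hsol ((K.mem_zOrb hS hl hb16).2 ((hb b hbL).resolve_left h0 l hm2))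
    refine ⟨K.uC, K.exists_core hS hsol hB (lf := f8L) (by decide +kernel) (by decide) (by decide) (by decide)
      (fun i hi => ?_) fun i hi h0 => ?_⟩
    · have h : (f8L.all fun i => mS i i == 0 && f8L.all fun j => mS i j == mS j i) = true := by decide +kernel
      simp only [List.all_eq_true, Bool.and_eq_true, beq_iff_eq] at h
      exact h i hi
    have hf := kill_facts.2.1
    simp only [List.all_eq_true, Bool.and_eq_true, Bool.or_eq_true, beq_iff_eq, Nat.blt_eq,
      List.contains_iff_mem, Bool.not_eq_true', ← Bool.not_eq_true] at hf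
    rcases hf l hm2 i hi with ⟨h16, h | h⟩ | ⟨⟨hio, h1⟩, h2⟩
    · exact absurd h h0
    · exact K.solvable_zType hS hsol ((K.mem_zOrb hS hl h16).2 h)
    · obtain ⟨c, -, e, he, hce, hcase⟩ := K.chi_into_E hS hsol hchi hio
      refine K.solvable_zType hS hsol (((K.mem_zOrb hS hl he).2 ?_).trans (isConj_iff.2 ⟨c, hce⟩).symm)
      rcases hcase with rfl | rfl
      · exact h1.resolve_left fun h => h he
      · exact h2.resolve_left fun h => h he

/-- Without the moving element of order three these centralisers have a Sylow subgroup in `S`. -/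
theorem sylIn_out (hc : ¬ K.HasChi hS hsol) {i : ℕ} (hi : i ∈ outI) :
    M12Syl.SylIn (Subgroup.centralizer ({φ i} : Set G)) (K.sub (centI i)) := by
  obtain ⟨hi64, -, hi2, -, hok, hnd, hlen, -, -⟩ := out_facts.2.1 i hi
  have hle : K.sub (centI i) ≤ Subgroup.centralizer ({φ i} : Set G) := fun x hx => by
    obtain ⟨j, hj, rfl⟩ := (K.mem_sub hok).1 hx
    exact (K.mem_cR hi64 (K.lt_of_lOK hok hj)).2 hj
  obtain ⟨T, hT, hWT⟩ := M12Syl.sylIn_exists _ _ hle (hS.two.to_le (K.sub_le hok))
  obtain ⟨d, -, hd⟩ := hS.absorb T le_top hT.two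
  obtain ⟨w, hw, ew⟩ := K.surj _ (hd _ (hWT ((K.mem_sub hok).2 ⟨i, mem_centI.2 ⟨hi64, rfl⟩, rfl⟩)))
  obtain ⟨hwo, -⟩ := K.out_fusion hS hsol hc hi hw (g := d) ew.symm
  obtain ⟨-, -, -, -, hokw, hndw, hlenw, -, -⟩ := out_facts.2.1 w hwo
  have hle' : T.map (MulAut.conj d).toMonoidHom ≤ K.sub (centI w) := by
    rintro _ ⟨t, ht, rfl⟩
    obtain ⟨j, hj, ej⟩ := K.surj _ (hd t ht)
    refine (K.mem_sub hokw).2 ⟨j, mem_centI.2 ⟨hj, ((K.comm_iff hj hw).1 ?_).symm⟩, ej⟩
    rw [ej, ew]
    exact conj_cent d (Subgroup.mem_centralizer_singleton_iff.1 (hT.le ht))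
  have := Subgroup.card_le_of_le hle'
  rw [Subgroup.card_map_of_injective (MulEquiv.injective _), K.card_sub hokw hndw, hlenw, ← hlen,
    ← K.card_sub hok hnd] at this
  exact (Subgroup.eq_of_le_of_card_ge hWT this).symm ▸ hT

/-- these centralisers lie in such a subgroup -/
theorem cent_out_le {l : List ℕ} (hl : K.Shape l) (hl60 : l = std60) (hc : ¬ K.HasChi hS hsol) {i : ℕ}
    (hi : i ∈ c16L) {M : Subgroup G} (hSM : S ≤ M) (hcT : K.cT ≤ M)
    (hθ : Cfsg.centralizerPPrimeCore 2 (φ i) ≤ M) : Subgroup.centralizer ({φ i} : Set G) ≤ M := by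
  classical
  haveI := Fact.mk Nat.prime_two
  subst hl60
  have hf := kill_facts.2.2.2.2.1
  simp only [List.all_eq_true, Bool.and_eq_true, Bool.or_eq_true, beq_iff_eq, List.mem_range,
    List.contains_iff_mem, Bool.not_eq_true', ← Bool.not_eq_true] at hf
  obtain ⟨⟨hio, -⟩, hw5⟩ := hf i hi
  obtain ⟨hi64, -, -, -, hok, hnd, -, -, -⟩ := out_facts.2.1 i hio
  have hR := K.sylIn_out hS hsol hc hio
  set C := Subgroup.centralizer ({φ i} : Set G) with hC
  set R := K.sub (centI i) with hRdef
  have hzR : φ iZ ∈ R := (K.mem_sub hok).2 ⟨iZ, by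
    have h : (outI.all fun i => (centI i).contains iZ) = true := by decide +kernel
    simp only [List.all_eq_true, List.contains_iff_mem] at h
    exact h i hio, rfl⟩
  obtain ⟨P, hP⟩ : ∃ P : Sylow 2 C, (P : Subgroup C) = R.subgroupOf C := by
    obtain ⟨P, hP⟩ := (hR.two.comap_subtype : IsPGroup 2 (R.subgroupOf C : Subgroup C)).exists_le_sylow
    refine ⟨P, (Subgroup.eq_of_le_of_card_ge hP ?_).symm⟩
    show Nat.card ↥(P : Subgroup C) ≤ Nat.card ↥(R.subgroupOf C)
    rw [Nat.card_congr (Subgroup.subgroupOfEquivOfLe hR.le).toEquiv,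
      ← Subgroup.card_map_of_injective C.subtype_injective]
    exact hR.card_le (Subgroup.map_subtype_le _) (P.isPGroup'.map _)
  set zC : C := ⟨φ iZ, hR.le hzR⟩
  have hiso : ∀ g : C, g * zC * g⁻¹ ∈ (P : Subgroup C) → g * zC * g⁻¹ = zC := by
    intro g hg
    obtain ⟨w, hw, ew⟩ := (K.mem_sub hok).1 (Subgroup.mem_subgroupOf.1 (hP ▸ hg))
    have hwl := K.lt_of_lOK hok hw
    have ew' : φ w = (g : G) * φ iZ * (g : G)⁻¹ := ew
    have hzw : IsConj (φ iZ) (φ w) := isConj_iff.2 ⟨(g : G), ew'.symm⟩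
    have hw16 : w < 16 := by
      by_contra h16
      have hwo := out_facts.1 w hwl (K.order_two_of_idx hwl
        (by rw [ew']; exact Invol.conj_orderOf_two K.t_order _)) (by omega)
      refine K.not_into_E hS hsol hc hwo (g := (g : G)⁻¹) ?_
      rw [ew', show (g : G)⁻¹ * ((g : G) * φ iZ * (g : G)⁻¹) * (g : G)⁻¹⁻¹ = φ iZ by group]
      exact K.z_mem_eS
    rcases hw5 w hw16 with (h | h) | h
    · exact absurd hw h
    · exact Subtype.ext (show (g : G) * φ iZ * (g : G)⁻¹ = φ iZ by rw [← ew', h])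
    · exact absurd ((K.mem_zOrb hS hl hw16).1 hzw) h
  obtain ⟨N, hN, hNodd, hcomm⟩ := ZStar.exists_normal_odd_commutator_mem P zC
    (by rw [← Subgroup.orderOf_coe]; exact K.t_order) (show zC ∈ (P : Subgroup C) by rw [hP]; exact Subgroup.mem_subgroupOf.2 hzR) hiso
  set O := N.map C.subtype with hO
  have hOθ : O ≤ Cfsg.centralizerPPrimeCore 2 (φ i) :=
    (Subgroup.map_mono (Transfer.le_pPrimeCore hN (Nat.coprime_two_right.2 hNodd))).trans
      (Subgroup.map_mono le_rfl)
  intro x hx
  obtain ⟨o, ho, hox⟩ := exists_fixed_coset (O := O) (t := φ iZ) (x := x) (by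
      rw [hO, Subgroup.card_map_of_injective C.subtype_injective]; exact hNodd.not_two_dvd_nat)
    (K.eS_sq K.z_mem_eS) (by
      rintro _ ⟨o, ho, rfl⟩
      exact ⟨zC * o * zC⁻¹, hN.conj_mem o ho zC, rfl⟩)
    ⟨_, hcomm ⟨x, hx⟩, rfl⟩
  have h := mul_mem (inv_mem (hθ (hOθ ho))) (hcT (K.mem_cT.2 hox))
  rwa [inv_mul_cancel_left] at h

/-- A subgroup containing all these centralisers is everything. -/
theorem eq_top_of {l : List ℕ} (hl : K.Shape l) (hm : l ∈ [std36, std12, std60])
    (hct : K.HasChi hS hsol ∨ K.HasTau hS hsol) {M : Subgroup G} (hSM : S ≤ M) (hcT : K.cT ≤ M)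
    (hN : ∀ x : G, (∀ v ∈ K.eS, x * v * x⁻¹ ∈ K.eS) → x ∈ M)
    (hθ : ∀ v : G, v * v = 1 → (∀ b ∈ bL, v * φ b = φ b * v) → Cfsg.centralizerPPrimeCore 2 v ≤ M)
    (h36 : l = std36 → Subgroup.centralizer ({φ 11} : Set G) ≤ M) : M = ⊤ := by
  haveI := Fact.mk Nat.prime_two
  by_contra htop
  have hEM : K.eS ≤ M := K.eS_le.trans hSM
  have hbE : ∀ b ∈ bL, b < 16 := fun b hb => by
    simp only [bL, List.mem_cons, List.not_mem_nil, or_false] at hb; omega
  -- conjugation inside
  have hconj : ∀ {m v : G}, m ∈ M → Subgroup.centralizer ({m * v * m⁻¹} : Set G) ≤ M →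
      Subgroup.centralizer ({v} : Set G) ≤ M := fun {m v} hm h x hx => by
    have := mul_mem (mul_mem (inv_mem hm) (h (Subgroup.mem_centralizer_singleton_iff.2
      (conj_cent m (Subgroup.mem_centralizer_singleton_iff.1 hx))))) hm
    rwa [show m⁻¹ * (m * x * m⁻¹) * m = x by group] at this
  have hpair : ∀ r, (l, r) ∈ pairsL → Subgroup.centralizer ({φ r} : Set G) ≤ M := by
    intro r hp
    have hpk := List.all_eq_true.1 pairs_ok _ hp
    simp only [pairOK, Bool.and_eq_true, Bool.not_eq_true', ← Bool.not_eq_true, List.contains_iff_mem] at hpk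
    obtain ⟨⟨⟨hrz, hr⟩, -⟩, -⟩ := hpk
    have hr16 : r < 16 := by simp at hr; omega
    by_cases h : l = std36
    · have hr11 : r = 11 := by
        have hk : (pairsL.all fun p => decide (p.1 ≠ std36) || p.2 == 11) = true := by decide +kernel
        simp only [List.all_eq_true, Bool.or_eq_true, decide_eq_true_eq, beq_iff_eq] at hk
        exact (hk _ hp).resolve_left fun h' => h' h
      exact hr11 ▸ h36 h
    obtain ⟨H, hH⟩ := K.exists_H hS hsol hl hp
    have hR := K.sylIn_R hS hr fun hc => hrz ((K.mem_zOrb hS hl hr16).1 hc)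
    have hrE : φ r ∈ K.eS := K.mem_eS.2 ⟨r, hr16, rfl⟩
    have hθr := hθ _ (K.eS_sq hrE) fun b hb => K.eS_comm hrE (K.mem_eS.2 ⟨b, hbE b hb, rfl⟩)
    have hRM : K.sub (centI r) ≤ M := (K.sub_le (centR_facts r hr).1).trans hSM
    have hk : (pairsL.all fun p => decide (p.1 = std36) || boundL.contains (p.1, p.2, [0]) ||
        decide (p.1 = std60 ∧ p.2 = 11)) = true := by decide +kernel
    simp only [List.all_eq_true, Bool.or_eq_true, decide_eq_true_eq, List.contains_iff_mem] at hk
    rcases hk _ hp with (e | e) | ⟨e1, e2⟩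
    · exact absurd e h
    · exact K.le_of_trivial hH (fun e' he he' => by simpa using K.oRes_inter hl e hH e' he he') hR hθr hRM
    · simp only at e1 e2
      subst e1 e2
      have h3z : IsConj (φ iZ) (φ 3) :=
        (K.mem_zOrb hS hl (by norm_num)).2 (List.contains_iff_mem.1 kill_facts.2.2.2.2.2.2)
      have h3M : φ 3 ∈ M := hEM (K.mem_eS.2 ⟨3, by norm_num, rfl⟩)
      exact K.le_of_isolated hl hH hR hθr hRM fun y _ hy => K.tmove hS hsol hSM hcT hN (v := φ 3) h3M h3z
        (by rw [hy, mul_inv_cancel_right]; exact h3M)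
  have hcent : ∀ v ∈ M, orderOf v = 2 → Subgroup.centralizer ({v} : Set G) ≤ M := by
    intro v hv hv2
    obtain ⟨m, hmM, i, hi, hi0, -, e, hcase⟩ := K.reduce hS hsol hSM hcT hv hv2
    refine hconj hmM ?_
    rw [e]
    rcases hcase with h16 | ⟨hio, hnc⟩
    · by_cases hz : IsConj (φ iZ) (φ i)
      · intro y hy
        refine K.tmove hS hsol hSM hcT hN (v := φ i) (hEM (K.mem_eS.2 ⟨i, h16, rfl⟩)) hz ?_
        rw [Subgroup.mem_centralizer_singleton_iff.1 hy, mul_inv_cancel_right]
        exact hEM (K.mem_eS.2 ⟨i, h16, rfl⟩)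
      obtain ⟨c, hc, hp⟩ := K.exists_pair hS hl hm h16 hi0 hz
      obtain ⟨n, hn⟩ := ((hl c).2 hc).2
      refine hconj (hN n fun u hu => K.code_norm hn hu) ?_
      rw [hn i h16]
      exact hpair _ hp
    · have ht := hct.resolve_left hnc
      have hl60 : l = std60 := by
        by_contra h
        exact K.no_tau hS hsol hl (by simp only [List.mem_cons, List.not_mem_nil, or_false] at hm; tauto) ht
      obtain ⟨y, hyT, hy⟩ := K.tau_lift hS hsol ht
      have hf := kill_facts.2.2.2.1
      simp only [List.all_eq_true, List.any_eq_true, List.mem_range, List.contains_iff_mem] at hf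
      obtain ⟨j, hj, hj16⟩ := hf i hio
      refine hconj (pow_mem (hcT hyT) j) ?_
      have e' : y ^ j * φ i * (y ^ j)⁻¹ = φ (tauP j i) := by
        interval_cases j
        · simp [tauP]
        · rw [pow_one]; exact hy i hi
        · rw [pow_two, show y * y * φ i * (y * y)⁻¹ = y * (y * φ i * y⁻¹) * y⁻¹ by group, hy i hi,
            hy _ (tauI_facts.1 i hi).1]
          rfl
      rw [e']
      have hb := kill_facts.2.2.2.2.1
      simp only [List.all_eq_true, Bool.and_eq_true, beq_iff_eq, List.contains_iff_mem] at hb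
      obtain ⟨⟨hio', hbc⟩, -⟩ := hb _ hj16
      obtain ⟨hl', -, hsq, -⟩ := out_facts.2.1 _ hio'
      exact K.cent_out_le hS hsol hl hl60 hnc hj16 hSM hcT
        (hθ _ (by rw [← K.mul _ hl' _ hl', hsq, K.one]) fun b hb =>
          (K.comm_iff hl' (by have := hbE b hb; omega)).2 (hbc b hb))
  have hzM : φ iZ ∈ M := hSM (K.mem iZ (by decide))
  have hse : Cfsg.IsStronglyEmbedded M := by
    refine ⟨htop, even_iff_two_dvd.2 ?_, fun g hg => ?_⟩
    · rw [← K.t_order, ← Subgroup.orderOf_mk (H := M) _ hzM]; exact orderOf_dvd_natCard _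
    by_contra h2
    obtain ⟨a, ha⟩ := exists_prime_orderOf_dvd_card' (G := ↥(M ⊓ M.map (MulAut.conj g).toMonoidHom)) 2
      (even_iff_two_dvd.1 (Nat.not_odd_iff_even.1 h2))
    rw [← Subgroup.orderOf_coe] at ha
    obtain ⟨haM, b, hb, hba⟩ := Subgroup.mem_inf.1 a.2
    have hb2 : orderOf b = 2 := by rw [← ha, ← hba]; exact (MulEquiv.orderOf_eq _ _).symm
    obtain ⟨m, hmM, i, hi, -, -, e, -⟩ := K.reduce hS hsol hSM hcT hb hb2
    set t := m⁻¹ * φ iZ * m
    have htM : t ∈ M := mul_mem (mul_mem (inv_mem hmM) hzM) hmM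
    have htb : t * b = b * t := by
      have h1 := conj_cent m⁻¹ (K.z_central (K.mem i hi)).symm
      rw [show m⁻¹ * φ i * m⁻¹⁻¹ = b by rw [← e]; group, inv_inv] at h1
      exact h1
    refine hg (K.tmove hS hsol hSM hcT hN (v := t) htM (isConj_iff.2 ⟨m⁻¹, by simp [t]⟩) ?_)
    refine hcent _ haM ha (Subgroup.mem_centralizer_singleton_iff.2 ?_)
    rw [← hba]
    exact conj_cent g htb
  have h11 := kill_facts.2.2.2.2.2.1
  simp only [List.all_eq_true, Bool.and_eq_true, Bool.not_eq_true', ← Bool.not_eq_true,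
    List.contains_iff_mem] at h11
  refine (h11 l hm).1 ((K.mem_zOrb hS hl (by norm_num)).1 (Invol.strongly_isConj hse K.t_order
    (Invol.orderOf_two_of_mul_self (K.eS_sq (K.mem_eS.2 ⟨11, by norm_num, rfl⟩)) fun h => ?_)))
  rw [K.eq_one_iff (by norm_num)] at h; omega

theorem theta_bot {l : List ℕ} (hl : K.Shape l) (hm : l ∈ [std36, std12, std60])
    (hct : K.HasChi hS hsol ∨ K.HasTau hS hsol) (hodd : Cfsg.oddCore G = ⊥) :
    K.theta = ⊥ ∧ ∀ v : G, v * v = 1 → (∀ b ∈ bL, v * φ b = φ b * v) →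
      Cfsg.centralizerPPrimeCore 2 v = ⊥ := by
  haveI := Fact.mk Nat.prime_two
  obtain ⟨U, D⟩ := K.exists_core_shape hS hsol hl hm hct
  have htop : Subgroup.normalizer (U : Set G) = ⊤ := K.eq_top_of hS hsol hl hm hct D.S_le D.cT_le D.eN_le
    (fun v h1 h2 => (D.four_le v h1 h2).trans Subgroup.le_normalizer) fun h => by
    subst h
    exact K.cent_le_36 hS hsol hl D (hct.resolve_right (K.no_tau hS hsol hl (.inl rfl)))
  haveI : U.Normal := Subgroup.normalizer_eq_top_iff.1 htop
  have hU : U = ⊥ := by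
    rw [eq_bot_iff, ← hodd]
    exact le_sSup ⟨inferInstance, ((Nat.prime_two.coprime_iff_not_dvd).2 D.odd).symm⟩
  exact ⟨le_bot_iff.1 (hU ▸ D.theta_le), fun v h1 h2 => le_bot_iff.1 (hU ▸ D.four_le v h1 h2)⟩

/-- With the group of order sixty, some element of order three moves the classes. -/
theorem has_chi {l : List ℕ} (hl : K.Shape l) (hm : l ∈ [std36, std12, std60])
    (hct : K.HasChi hS hsol ∨ K.HasTau hS hsol) (hodd : Cfsg.oddCore G = ⊥) (hcore2 : Cfsg.pCore 2 G = ⊥) :
    K.HasChi hS hsol := by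
  by_contra hc
  have ht := hct.resolve_left hc
  have hl60 : l = std60 := by
    by_contra h
    exact K.no_tau hS hsol hl (by simp only [List.mem_cons, List.not_mem_nil, or_false] at hm; tauto) ht
  obtain ⟨hθ, hθv⟩ := K.theta_bot hS hsol hl hm hct hodd
  set M := Subgroup.normalizer (K.eS : Set G) with hM
  have hN : ∀ x : G, (∀ v ∈ K.eS, x * v * x⁻¹ ∈ K.eS) → x ∈ M := fun x hx => normalizer_of_forall hx
  have hcT : K.cT ≤ M := fun x hx => hN x fun v hv => by
    obtain ⟨o, ho, h⟩ := K.norm_e_of_no_chi hS hsol hc hx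
    rw [hθ, Subgroup.mem_bot] at ho
    simpa [ho] using h v hv
  have htop := K.eq_top_of hS hsol hl hm hct (M := M) (K.S_le_cT.trans hcT) hcT hN
    (fun v h1 h2 => (hθv v h1 h2).le.trans bot_le) fun h => by
      rw [hl60] at h
      exact absurd h (by decide +kernel)
  haveI : K.eS.Normal := Subgroup.normalizer_eq_top_iff.1 htop
  have hle : K.eS ≤ Cfsg.pCore 2 G := le_sSup ⟨inferInstance, K.eS_two⟩
  rw [hcore2, le_bot_iff] at hle
  have h := K.card_eS
  rw [hle, Subgroup.card_bot] at h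
  omega

end Hyp

end CfsgLib.A8Syl
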