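import Cfsg.Agent.Lib.A8Syl.CentH
import Cfsg.Agent.Lib.M12Syl.KleinSmall

/-!
The centralisers of the second class of involutions lie in the normaliser of the subgroup generated by the
cores, when the group induced on `E` has order 36.
-/

set_option autoImplicit false
set_option linter.style.haveILetI false
set_option linter.unusedSectionVars false

namespace CfsgLib.A8Syl

open CfsgLib.PSpFourRecog (app app_lt comp code_ext app_comp)

/-- the four-group in the subgroup generated by elements of odd order -/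
def u2L : List ℕ := [0, 7, 9, 14]

theorem klein_facts : lOK u2L = true ∧ (∀ w ∈ [7, 9, 14], w ∉ zOrb std36 ∧ w ^^^ 11 ∈ zOrb std36) ∧
    (∀ e < 16, e ≠ 0 → e ∉ zOrb std36 → ∃ c ∈ std36, app c e = 11) ∧
    ∃ c ∈ std36, app c 11 = 11 ∧ comp c c ≠ c ∧ comp c (comp c c) = cOne ∧
      (∀ d ∈ [c, comp c c], ∀ w ∈ [7, 9, 14], ∃ e < 16, app d e ^^^ e = w) ∧
      ∀ d ∈ [c, comp c c], ∀ w ∈ [7, 9, 14], w = 14 ∨ app d w = 14 ∨ app d (app d w) = 14 := by
  have h : (lOK u2L && ([7, 9, 14].all fun w => !(zOrb std36).contains w && (zOrb std36).contains (w ^^^ 11)) &&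
      ((List.range 16).all fun e => e == 0 || (zOrb std36).contains e || std36.any fun c => app c e == 11) &&
      std36.any fun c => app c 11 == 11 && comp c c != c && comp c (comp c c) == cOne &&
        ([c, comp c c].all fun d => [7, 9, 14].all fun w => (List.range 16).any fun e => app d e ^^^ e == w) &&
        [c, comp c c].all fun d => [7, 9, 14].all fun w =>
          w == 14 || app d w == 14 || app d (app d w) == 14) = true := by
    decide +kernel
  simp only [Bool.and_eq_true, List.all_eq_true, List.any_eq_true, List.mem_range, Bool.or_eq_true,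
    beq_iff_eq, bne_iff_ne, List.contains_iff_mem, Bool.not_eq_true', ← Bool.not_eq_true] at h
  obtain ⟨⟨⟨h1, h2⟩, h3⟩, c, hc, ⟨⟨⟨h4, h5⟩, h6⟩, h7⟩, h8⟩ := h
  refine ⟨h1, h2, fun e he h0 hz => ((h3 e he).resolve_left fun h => h.elim h0 hz), c, hc, h4, h5, h6,
    h7, fun d hd w hw => ?_⟩
  rcases h8 d hd w hw with (a | a) | a
  exacts [.inl a, .inr (.inl a), .inr (.inr a)]

namespace Hyp

variable {G : Type*} [Group G] [Finite G] {φ : ℕ → G} {S : Subgroup G} (K : Hyp φ S)
  (hS : M12Syl.SylIn ⊤ S) (hsol : Group.IsSolvable K.cT) (hl : K.Shape std36) {U : Subgroup G} (D : K.Core U)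
include K hS hsol hl D

theorem core_tmove {v g : G} (hv : v ∈ Subgroup.normalizer (U : Set G)) (hc : IsConj (φ iZ) v)
    (hg : g * v * g⁻¹ ∈ Subgroup.normalizer (U : Set G)) : g ∈ Subgroup.normalizer (U : Set G) :=
  K.tmove hS hsol D.S_le D.cT_le D.eN_le hv hc hg

set_option maxHeartbeats 1000000 in
theorem x_cent : U ⊓ Subgroup.centralizer ({φ 11} : Set G) = Cfsg.centralizerPPrimeCore 2 (φ 11) := by
  classical
  haveI := Fact.mk Nat.prime_two
  set M := Subgroup.normalizer (U : Set G) with hM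
  set X := Subgroup.centralizer ({φ 11} : Set G) with hX
  obtain ⟨hu2, htype, -, c, hc, hc11, hcc, hc3, hcom, htr⟩ := klein_facts
  have h11E : φ 11 ∈ K.eS := K.mem_eS.2 ⟨11, by norm_num, rfl⟩
  have hEX : K.eS ≤ X := fun x hx => Subgroup.mem_centralizer_singleton_iff.2 (K.eS_comm hx h11E)
  have hθU : Cfsg.centralizerPPrimeCore 2 (φ 11) ≤ U := D.four_le _ (K.eS_sq h11E) fun b hb =>
    K.eS_comm h11E (K.mem_eS.2 ⟨b, by
      simp only [bL, List.mem_cons, List.not_mem_nil, or_false] at hb; omega, rfl⟩)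
  refine le_antisymm ?_ (le_inf hθU (Subgroup.map_subtype_le _))
  obtain ⟨H, hH⟩ := K.exists_H hS hsol hl (r := 11) (by simp [pairsL])
  set H1 := oRes (φ 11) with hH1
  have hH1X : H1 ≤ X := oRes_le _
  have hW : U ⊓ X ≤ H1 := fun x hx => mem_oRes (Subgroup.mem_inf.1 hx).2 fun hd => D.odd (hd.trans (by
    rw [← Subgroup.orderOf_mk (H := U) x (Subgroup.mem_inf.1 hx).1]; exact orderOf_dvd_natCard _))
  -- the normalised subgroup
  suffices hnorm : ∀ g ∈ H1, ∀ x ∈ U ⊓ X, g * x * g⁻¹ ∈ U ⊓ X by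
    set N : Subgroup H1 := (U ⊓ X).subgroupOf H1
    have hNn : N.Normal := ⟨fun x hx g => Subgroup.mem_subgroupOf.2
      (hnorm g g.2 x (Subgroup.mem_subgroupOf.1 hx))⟩
    have hle : N ≤ Cfsg.pPrimeCore 2 H1 := Transfer.le_pPrimeCore hNn (Nat.Coprime.symm
      ((Nat.prime_two.coprime_iff_not_dvd).2 fun hd => D.odd (hd.trans (by
        rw [Nat.card_congr (Subgroup.subgroupOfEquivOfLe hW).toEquiv]
        exact Subgroup.card_dvd_of_le inf_le_left))))
    intro x hx
    exact core_sub_le hH1X (fun g hg y hy => oRes_conj hg hy) ⟨⟨x, hW hx⟩, hle hx, rfl⟩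
  by_cases hH1M : H1 ≤ M
  · intro g hg x hx
    obtain ⟨h1, h2⟩ := Subgroup.mem_inf.1 hx
    exact Subgroup.mem_inf.2 ⟨conj_norm (hH1M hg) h1, mul_mem (mul_mem (hH1X hg) h2) (inv_mem (hH1X hg))⟩
  -- an element of order three
  obtain ⟨n, hn⟩ := ((hl c).2 hc).2
  obtain ⟨y, hyH1, d, hd, hy⟩ : ∃ y ∈ H1, ∃ d ∈ [c, comp c c],
      ∀ e < 16, y * φ e * y⁻¹ = φ (app d e) := by
    have hnX : n ∈ X := Subgroup.mem_centralizer_singleton_iff.2
      (mul_inv_eq_iff_eq_mul.1 (by rw [hn 11 (by norm_num), hc11]))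
    obtain ⟨s, m, hm, hsm⟩ := Nat.exists_eq_two_pow_mul_odd (orderOf_pos n).ne'
    refine ⟨n ^ 2 ^ s, mem_oRes (pow_mem hnX _) ?_, ?_⟩
    · rw [orderOf_pow_of_dvd (by positivity) ⟨m, hsm⟩, hsm, Nat.mul_div_cancel_left _ (by positivity)]
      exact hm.not_two_dvd_nat
    have hpow : ∀ k, ∃ d ∈ [cOne, c, comp c c], (k % 3 = 0 → d = cOne) ∧ (k % 3 = 1 → d = c) ∧
        (k % 3 = 2 → d = comp c c) ∧ ∀ e < 16, n ^ k * φ e * (n ^ k)⁻¹ = φ (app d e) := by
      intro k
      induction k with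
      | zero => exact ⟨cOne, by simp, fun _ => rfl, by simp, by simp, fun e he => by simp [app_one e he]⟩
      | succ k ih =>
        obtain ⟨d, hd, d0, d1, d2, hde⟩ := ih
        have hstep : ∀ e < 16, n ^ (k + 1) * φ e * (n ^ (k + 1))⁻¹ = φ (app c (app d e)) := fun e he => by
          rw [pow_succ', show n * n ^ k * φ e * (n * n ^ k)⁻¹ = n * (n ^ k * φ e * (n ^ k)⁻¹) * n⁻¹ by group,
            hde e he, hn _ (app_lt _ _)]
        rcases (show k % 3 = 0 ∨ k % 3 = 1 ∨ k % 3 = 2 by omega) with h | h | h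
        · refine ⟨c, by simp, fun h' => by omega, fun _ => rfl, fun h' => by omega, fun e he => ?_⟩
          rw [hstep e he, d0 h, app_one e he]
        · refine ⟨comp c c, by simp, fun h' => by omega, fun h' => by omega, fun _ => rfl, fun e he => ?_⟩
          rw [hstep e he, d1 h, app_comp _ _ e he]
        · refine ⟨cOne, by simp, fun _ => rfl, fun h' => by omega, fun h' => by omega, fun e he => ?_⟩
          rw [hstep e he, d2 h, ← app_comp _ _ e he, hc3]
    obtain ⟨d, -, -, d1, d2, hde⟩ := hpow (2 ^ s)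
    have h3 : ¬ 3 ∣ 2 ^ s := fun h => by
      have := Nat.prime_three.dvd_of_dvd_pow h
      omega
    refine ⟨d, ?_, hde⟩
    rcases (show 2 ^ s % 3 = 1 ∨ 2 ^ s % 3 = 2 by omega) with h | h
    · simp [d1 h]
    · simp [d2 h]
  -- the Sylow subgroup
  have hw14 : ∀ w ∈ [7, 9, 14], φ w ∈ H1 := by
    intro w hw
    obtain ⟨e, he, rfl⟩ := hcom d hd w hw
    rw [← K.eS_mul (app_lt _ _) he, ← hy e he]
    have : φ e * y⁻¹ * (φ e)⁻¹ ∈ H1 := oRes_conj (hEX (K.mem_eS.2 ⟨e, he, rfl⟩)) (inv_mem hyH1)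
    rw [inv_eq_of_mul_eq_one_right (K.eS_sq (K.mem_eS.2 ⟨e, he, rfl⟩))] at this
    rw [show y * φ e * y⁻¹ * φ e = y * (φ e * y⁻¹ * φ e) by group]
    exact mul_mem hyH1 this
  set V := K.sub u2L with hV
  have hVE : V ≤ K.eS := fun x hx => by
    obtain ⟨i, hi, rfl⟩ := (K.mem_sub hu2).1 hx
    refine K.mem_eS.2 ⟨i, ?_, rfl⟩
    simp only [u2L, List.mem_cons, List.not_mem_nil, or_false] at hi; omega
  have hV4 : Nat.card V = 4 := K.card_sub hu2 (by decide)
  have hVH : V ≤ H1 := fun x hx => by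
    obtain ⟨i, hi, rfl⟩ := (K.mem_sub hu2).1 hx
    simp only [u2L, List.mem_cons, List.not_mem_nil, or_false] at hi
    rcases hi with rfl | h
    · rw [K.one]; exact one_mem _
    · exact hw14 i (by simpa using h)
  have hinv : ∀ v ∈ H1, orderOf v = 2 → ∃ w ∈ [7, 9, 14], ∃ g ∈ X, g * v * g⁻¹ = φ w := by
    intro v hv hv2
    obtain ⟨g, hg, hgE⟩ := hH.syl.absorb (Subgroup.zpowers v) (Subgroup.zpowers_le.2 (K.oRes_le_H hH hv))
      (IsPGroup.of_card (n := 1) (by rw [Nat.card_zpowers, hv2]; rfl))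
    obtain ⟨e, he, ee⟩ := K.mem_eS.1 (hgE v (Subgroup.mem_zpowers v))
    have heW := K.oRes_inter (l := std36) (W := [0, 7, 9, 14]) hl (by simp [boundL]) hH e he
      (ee ▸ oRes_conj (hH.le hg) hv)
    simp only [List.mem_cons, List.not_mem_nil, or_false] at heW
    rcases heW with rfl | h
    · rw [K.one, eq_comm, conj_eq_one_iff] at ee
      rw [ee, orderOf_one] at hv2; omega
    · exact ⟨e, by simpa using h, g, hH.le hg, ee.symm⟩
  obtain ⟨T, hT, hVT⟩ := M12Syl.sylIn_exists H1 V hVH (K.eS_two.to_le hVE)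
  have hTV : T = V := by
    refine (Subgroup.eq_of_le_of_card_ge hVT ?_).symm
    obtain ⟨g, hg, hgE⟩ := hH.syl.absorb T (hT.le.trans (K.oRes_le_H hH)) hT.two
    have hle : T.map (MulAut.conj g).toMonoidHom ≤ V := by
      rintro _ ⟨t, ht, rfl⟩
      obtain ⟨e, he, ee⟩ := K.mem_eS.1 (hgE t ht)
      exact (K.mem_sub hu2).2 ⟨e, K.oRes_inter (W := [0, 7, 9, 14]) hl (by simp [boundL]) hH e he
        (ee ▸ oRes_conj (hH.le hg) (hT.le ht)), ee⟩
    have := Subgroup.card_le_of_le hle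
    rwa [Subgroup.card_map_of_injective (MulEquiv.injective _)] at this
  rw [hTV] at hT
  obtain ⟨P, hP⟩ : ∃ P : Sylow 2 H1, (P : Subgroup H1) = V.subgroupOf H1 := by
    obtain ⟨P, hP⟩ := (hT.two.comap_subtype : IsPGroup 2 (V.subgroupOf H1 : Subgroup H1)).exists_le_sylow
    refine ⟨P, (Subgroup.eq_of_le_of_card_ge hP ?_).symm⟩
    show Nat.card ↥(P : Subgroup H1) ≤ Nat.card ↥(V.subgroupOf H1)
    rw [Nat.card_congr (Subgroup.subgroupOfEquivOfLe hVH).toEquiv,
      ← Subgroup.card_map_of_injective H1.subtype_injective]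
    exact hT.card_le (Subgroup.map_subtype_le _) (P.isPGroup'.map _)
  have hP4 : Nat.card (P : Subgroup H1) = 4 := by
    rw [hP, Nat.card_congr (Subgroup.subgroupOfEquivOfLe hVH).toEquiv, hV4]
  have hKlein : IsKleinFour (P : Subgroup H1) := by
    refine ⟨hP4, ((Nat.dvd_prime Nat.prime_two).1 (Monoid.exponent_dvd_of_forall_pow_eq_one fun a =>
      Subtype.ext (Subtype.ext ?_))).resolve_left fun h => ?_⟩
    · show (((a : H1) : G)) ^ 2 = 1
      rw [pow_two]
      have ha : ((a : H1) : G) ∈ V := Subgroup.mem_subgroupOf.1 (hP ▸ a.2)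
      exact K.eS_sq (hVE ha)
    · haveI := Monoid.exp_eq_one_iff.1 h
      rw [Nat.card_of_subsingleton (1 : (P : Subgroup H1))] at hP4
      omega
  have hto14 : ∀ v ∈ H1, orderOf v = 2 → ∃ g ∈ H1, g * v * g⁻¹ = φ 14 := by
    intro v hv hv2
    obtain ⟨g, hg, hgV⟩ := hT.absorb (Subgroup.zpowers v) (Subgroup.zpowers_le.2 hv)
      (IsPGroup.of_card (n := 1) (by rw [Nat.card_zpowers, hv2]; rfl))
    obtain ⟨w, hw, ew⟩ := (K.mem_sub hu2).1 (hgV v (Subgroup.mem_zpowers v))
    have hw' : w ∈ [7, 9, 14] := by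
      simp only [u2L, List.mem_cons, List.not_mem_nil, or_false] at hw ⊢
      rcases hw with rfl | h
      · rw [K.one, eq_comm, conj_eq_one_iff] at ew
        rw [ew, orderOf_one] at hv2; omega
      · exact h
    have hw16 : w < 16 := by simp only [List.mem_cons, List.not_mem_nil, or_false] at hw'; omega
    rcases htr d hd w hw' with h | h | h
    · exact ⟨g, hg, by rw [← ew, h]⟩
    · exact ⟨y * g, mul_mem hyH1 hg, by
        rw [show y * g * v * (y * g)⁻¹ = y * (g * v * g⁻¹) * y⁻¹ by group, ← ew, hy w hw16, h]⟩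
    · exact ⟨y * y * g, mul_mem (mul_mem hyH1 hyH1) hg, by
        rw [show y * y * g * v * (y * y * g)⁻¹ = y * (y * (g * v * g⁻¹) * y⁻¹) * y⁻¹ by group, ← ew,
          hy w hw16, hy _ (app_lt _ _), h]⟩
  -- involutions times `φ 11` are conjugate to the central one
  have h14_5 : φ 14 * φ 11 = φ iZ := by rw [K.eS_mul (by norm_num) (by norm_num)]; rfl
  have htimes : ∀ v ∈ H1, orderOf v = 2 → IsConj (φ iZ) (v * φ 11) := by
    intro v hv hv2
    obtain ⟨g, hg, e⟩ := hto14 v hv hv2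
    refine (isConj_iff.2 ⟨g, ?_⟩ : IsConj (v * φ 11) (φ iZ)).symm
    rw [show g * (v * φ 11) * g⁻¹ = g * v * g⁻¹ * (g * φ 11 * g⁻¹) by group, e,
      mul_inv_eq_iff_eq_mul.2 (Subgroup.mem_centralizer_singleton_iff.1 (hH1X hg)), h14_5]
  have hSM := D.S_le
  have hEM : K.eS ≤ M := K.eS_le.trans hSM
  have hM1 : Cfsg.IsStronglyEmbedded (M.subgroupOf H1) := by
    refine ⟨fun h => hH1M (Subgroup.subgroupOf_eq_top.1 h), ?_, fun g hg => ?_⟩
    · refine even_iff_two_dvd.2 ((show 2 ∣ Nat.card V by rw [hV4]; norm_num).trans ?_)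
      rw [← Nat.card_congr (Subgroup.subgroupOfEquivOfLe hVH).toEquiv]
      exact Subgroup.card_dvd_of_le fun x hx => hEM (hVE hx)
    by_contra h2
    obtain ⟨a, ha⟩ := exists_prime_orderOf_dvd_card'
      (G := ↥(M.subgroupOf H1 ⊓ (M.subgroupOf H1).map (MulAut.conj g).toMonoidHom)) 2
      (even_iff_two_dvd.1 (Nat.not_odd_iff_even.1 h2))
    rw [← Subgroup.orderOf_coe] at ha
    obtain ⟨haM, b, hb, hba⟩ := Subgroup.mem_inf.1 a.2
    have hb2 : orderOf (b : G) = 2 := by
      rw [Subgroup.orderOf_coe, ← ha, ← hba]; exact (MulEquiv.orderOf_eq _ _).symm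
    refine hg (Subgroup.mem_subgroupOf.2 (K.core_tmove hS hsol hl D (v := (b : G) * φ 11)
      (mul_mem (Subgroup.mem_subgroupOf.1 hb) (hEM h11E)) (htimes b b.2 hb2) ?_))
    rw [show (g : G) * ((b : G) * φ 11) * (g : G)⁻¹ = (g : G) * b * (g : G)⁻¹ * ((g : G) * φ 11 * (g : G)⁻¹) by
      group, mul_inv_eq_iff_eq_mul.2 (Subgroup.mem_centralizer_singleton_iff.1 (hH1X g.2))]
    refine mul_mem ?_ (hEM h11E)
    rw [← hba] at haM
    exact Subgroup.mem_subgroupOf.1 haM
  have hone : ∀ a b : H1, orderOf a = 2 → orderOf b = 2 → IsConj a b := by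
    intro a b ha hb
    obtain ⟨g, hg, e⟩ := hto14 a a.2 (by rw [Subgroup.orderOf_coe, ha])
    obtain ⟨g', hg', e'⟩ := hto14 b b.2 (by rw [Subgroup.orderOf_coe, hb])
    refine isConj_iff.2 ⟨⟨g', hg'⟩⁻¹ * ⟨g, hg⟩, Subtype.ext ?_⟩
    show g'⁻¹ * g * a * (g'⁻¹ * g)⁻¹ = b
    rw [show g'⁻¹ * g * (a : G) * (g'⁻¹ * g)⁻¹ = g'⁻¹ * (g * a * g⁻¹) * g' by group, e, ← e']
    group
  set W1 := (U ⊓ X).subgroupOf H1 with hW1
  have hWn : M.subgroupOf H1 ≤ Subgroup.normalizer (W1 : Set H1) := fun m hm =>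
    normalizer_of_forall fun x hx => Subgroup.mem_subgroupOf.2 (Subgroup.mem_inf.2
      ⟨conj_norm (Subgroup.mem_subgroupOf.1 hm) (Subgroup.mem_inf.1 (Subgroup.mem_subgroupOf.1 hx)).1,
        mul_mem (mul_mem (hH1X m.2) (Subgroup.mem_inf.1 (Subgroup.mem_subgroupOf.1 hx)).2)
          (inv_mem (hH1X m.2))⟩)
  have hres := M12Syl.klein_small_normal P hKlein hone hM1
    (fun x hx => hEM (hVE (Subgroup.mem_subgroupOf.1 (hP ▸ hx))))
    (W := W1) (fun x hx => Subgroup.le_normalizer (Subgroup.mem_inf.1 (Subgroup.mem_subgroupOf.1 hx)).1)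
    hWn (fun hd => D.odd (hd.trans (by
      rw [hW1, Nat.card_congr (Subgroup.subgroupOfEquivOfLe hW).toEquiv]
      exact Subgroup.card_dvd_of_le inf_le_left))) ?_
  · intro g hg x hx
    have hn : W1.Normal := hres ▸ (M.subgroupOf H1).normalCore_normal
    exact Subgroup.mem_subgroupOf.1 (hn.conj_mem ⟨x, hW hx⟩ hx ⟨g, hg⟩)
  -- odd elements centralising an involution
  intro v hvM hv2 x hxM hxv hxo
  refine Subgroup.mem_subgroupOf.2 (Subgroup.mem_inf.2 ⟨?_, hH1X x.2⟩)
  have hv2' : orderOf (v : G) = 2 := by rw [Subgroup.orderOf_coe, hv2]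
  obtain ⟨g, hg, e⟩ := hto14 v v.2 hv2'
  have hgM : g ∈ M := K.core_tmove hS hsol hl D (v := (v : G) * φ 11)
    (mul_mem (Subgroup.mem_subgroupOf.1 hvM) (hEM h11E)) (htimes v v.2 hv2') (by
      rw [show g * ((v : G) * φ 11) * g⁻¹ = g * v * g⁻¹ * (g * φ 11 * g⁻¹) by group, e,
        mul_inv_eq_iff_eq_mul.2 (Subgroup.mem_centralizer_singleton_iff.1 (hH1X hg)), h14_5]
      exact hSM (K.mem iZ (by decide)))
  set x' := g * (x : G) * g⁻¹ with hx'
  have hx'r : x' * φ 11 = φ 11 * x' :=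
    Subgroup.mem_centralizer_singleton_iff.1 (mul_mem (mul_mem (hH1X hg) (hH1X x.2)) (inv_mem (hH1X hg)))
  have hx'T : x' ∈ K.cT := by
    have h14 : x' * φ 14 = φ 14 * x' := by
      rw [← e]
      exact conj_cent g (congrArg Subtype.val hxv)
    refine K.mem_cT.2 ?_
    rw [← h14_5, ← mul_assoc, h14, mul_assoc, hx'r, mul_assoc]
  obtain ⟨o, ho, s, hs, es⟩ := K.cz_fix hS hsol (.inr rfl) hx'T hx'r
  have hs0 : s = 0 := by
    have L := K.loc hS hsol
    have h1 : K.prj ⟨x', hx'T⟩ = K.psi s := by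
      rw [K.psi_eq hs]
      refine K.prj_eq.2 ?_
      show x'⁻¹ * φ s ∈ K.theta
      rw [es, mul_inv_rev, mul_assoc, show (o : G)⁻¹ * φ s = φ s * ((φ s)⁻¹ * o⁻¹ * φ s) by group,
        inv_mul_cancel_left]
      have := K.theta_conj (inv_mem (K.S_le_cT (K.mem s hs))) (inv_mem ho)
      rwa [inv_inv] at this
    have hd : orderOf (K.psi s) ∣ orderOf (x : G) := by
      rw [← h1]
      refine (orderOf_map_dvd K.prj _).trans (dvd_of_eq ?_)
      rw [← Subgroup.orderOf_coe]
      exact MulEquiv.orderOf_eq (MulAut.conj g) (x : G)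
    obtain ⟨k, hk⟩ := (IsPGroup.iff_orderOf.1 L.syl.two) ⟨K.psi s, L.hyp.mem s hs⟩
    rw [Subgroup.orderOf_mk] at hk
    rcases k with _ | k
    · exact (L.hyp.eq_one_iff hs).1 (orderOf_eq_one_iff.1 (by simpa using hk))
    · rw [Subgroup.orderOf_coe, hk] at hd
      exact absurd ((dvd_pow_self 2 (Nat.succ_ne_zero k)).trans hd) hxo
  rw [hs0, K.one, mul_one] at es
  have hxU : x' ∈ U := es ▸ D.theta_le ho
  have := conj_norm (inv_mem hgM) hxU
  rwa [hx', show g⁻¹ * (g * (x : G) * g⁻¹) * g⁻¹⁻¹ = x by group] at this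

variable (hchi : K.HasChi hS hsol)
include hchi

/-- The same for every involution of the second class in the normaliser. -/
theorem x_cent_all {a : G} (ha : a ∈ Subgroup.normalizer (U : Set G)) (ha2 : orderOf a = 2)
    (hz : ¬ IsConj (φ iZ) a) :
    U ⊓ Subgroup.centralizer ({a} : Set G) = Cfsg.centralizerPPrimeCore 2 a := by
  obtain ⟨m, hm, i, hi, hi0, -, e, hcase⟩ := K.reduce hS hsol D.S_le D.cT_le ha ha2
  obtain hi16 : i < 16 := hcase.resolve_right fun h => h.2 hchi
  have hiz : i ∉ zOrb std36 := fun h =>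
    hz (((K.mem_zOrb hS hl hi16).2 h).trans (isConj_iff.2 ⟨m, e⟩).symm)
  obtain ⟨c, hc, hci⟩ := klein_facts.2.2.1 i hi16 hi0 hiz
  obtain ⟨n, hn⟩ := ((hl c).2 hc).2
  set w := n * m with hw
  have hwM : w ∈ Subgroup.normalizer (U : Set G) :=
    mul_mem (D.eN_le n fun v hv => K.code_norm hn hv) hm
  have hwa : w * a * w⁻¹ = φ 11 := by
    rw [hw, show n * m * a * (n * m)⁻¹ = n * (m * a * m⁻¹) * n⁻¹ by group, e, hn i hi16, hci]
  have hθ : Cfsg.centralizerPPrimeCore 2 a =
      (Cfsg.centralizerPPrimeCore 2 (φ 11)).map (MulAut.conj w⁻¹).toMonoidHom := by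
    rw [← Signalizer.centralizerPPrimeCore_conj, ← hwa]
    exact congrArg _ (by group)
  rw [hθ, ← K.x_cent hS hsol hl D]
  ext x
  constructor
  · intro hx
    obtain ⟨h1, h2⟩ := Subgroup.mem_inf.1 hx
    refine ⟨w * x * w⁻¹, Subgroup.mem_inf.2 ⟨conj_norm hwM h1, Subgroup.mem_centralizer_singleton_iff.2 ?_⟩,
      by show w⁻¹ * (w * x * w⁻¹) * w⁻¹⁻¹ = x; group⟩
    rw [← hwa]
    exact conj_cent w (Subgroup.mem_centralizer_singleton_iff.1 h2)
  · rintro ⟨y, hy, rfl⟩
    obtain ⟨h1, h2⟩ := Subgroup.mem_inf.1 hy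
    refine Subgroup.mem_inf.2 ⟨conj_norm (inv_mem hwM) h1, Subgroup.mem_centralizer_singleton_iff.2 ?_⟩
    show w⁻¹ * y * w⁻¹⁻¹ * a = a * (w⁻¹ * y * w⁻¹⁻¹)
    have := conj_cent w⁻¹ (Subgroup.mem_centralizer_singleton_iff.1 h2)
    rwa [show w⁻¹ * φ 11 * w⁻¹⁻¹ = a by rw [← hwa]; group] at this

/-- An element fixing a pure four-group of the second class lies in the normaliser. -/
theorem four_fix {a b g : G} (ha : a ∈ Subgroup.normalizer (U : Set G))
    (hb : b ∈ Subgroup.normalizer (U : Set G)) (ha2 : orderOf a = 2) (hb2 : orderOf b = 2) (hab : a * b = b * a)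
    (hne : a ≠ b) (h : ¬ IsConj (φ iZ) a ∧ ¬ IsConj (φ iZ) b ∧ ¬ IsConj (φ iZ) (a * b))
    (hga : g * a = a * g) (hgb : g * b = b * g) : g ∈ Subgroup.normalizer (U : Set G) := by
  have haa := Invol.mul_self_of_orderOf_two ha2
  have hbb := Invol.mul_self_of_orderOf_two hb2
  set R := Subgroup.closure ({a, b} : Set G) with hR
  have hel : ∀ x ∈ R, x = 1 ∨ x = a ∨ x = b ∨ x = a * b := by
    intro x hx
    induction hx using Subgroup.closure_induction with
    | mem y hy =>
      rcases hy with rfl | rfl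
      · exact .inr (.inl rfl)
      · exact .inr (.inr (.inl rfl))
    | one => exact .inl rfl
    | mul x y _ _ hx hy =>
      have e1 : a * (a * b) = b := by rw [← mul_assoc, haa, one_mul]
      have e2 : b * (a * b) = a := by rw [hab, ← mul_assoc, hbb, one_mul]
      have e3 : a * b * a = b := by rw [hab, mul_assoc, haa, mul_one]
      have e4 : a * b * b = a := by rw [mul_assoc, hbb, mul_one]
      have e5 : a * b * (a * b) = 1 := by rw [← mul_assoc, e3, hbb]
      rcases hx with rfl | rfl | rfl | rfl <;> rcases hy with rfl | rfl | rfl | rfl <;>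
        simp [haa, hbb, e1, e2, e3, e4, e5, ← hab]
    | inv x _ hx =>
      rcases hx with rfl | rfl | rfl | rfl
      · exact .inl inv_one
      · exact .inr (.inl (inv_eq_of_mul_eq_one_right haa))
      · exact .inr (.inr (.inl (inv_eq_of_mul_eq_one_right hbb)))
      · refine .inr (.inr (.inr (inv_eq_of_mul_eq_one_right ?_)))
        rw [show a * b * (a * b) = a * (b * a) * b by group, ← hab, ← mul_assoc, haa, one_mul, hbb]
  have hab2 : orderOf (a * b) = 2 := Invol.orderOf_two_of_mul_self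
    (by rw [show a * b * (a * b) = a * (b * a) * b by group, ← hab, ← mul_assoc, haa, one_mul, hbb])
    fun e => hne (by rw [← mul_one a, ← hbb, ← mul_assoc, e, one_mul])
  have hRM : R ≤ Subgroup.normalizer (U : Set G) :=
    (Subgroup.closure_le _).2 fun x hx => by rcases hx with rfl | rfl <;> assumption
  have hR2 : ∀ x ∈ R, x * x = 1 := fun x hx => by
    rcases hel x hx with rfl | rfl | rfl | rfl
    · simp
    · exact haa
    · exact hbb
    · exact Invol.mul_self_of_orderOf_two hab2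
  haveI : IsMulCommutative R := ⟨⟨fun x y => Subtype.ext (by
    show (x : G) * y = y * x
    have h1 := inv_eq_of_mul_eq_one_right (hR2 _ (mul_mem x.2 y.2))
    rw [mul_inv_rev, inv_eq_of_mul_eq_one_right (hR2 _ x.2), inv_eq_of_mul_eq_one_right (hR2 _ y.2)] at h1
    exact h1.symm)⟩⟩
  obtain ⟨k, hk⟩ := IsPGroup.iff_card.1 (show IsPGroup 2 R from fun x => ⟨1, Subtype.ext (by
    show (x : G) ^ 2 ^ 1 = 1
    rw [pow_one, pow_two]; exact hR2 x x.2)⟩)
  have hcard : 2 < Nat.card R := by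
    have h3 : Nat.card ({1, a, b} : Set G) ≤ Nat.card R := by
      refine Nat.card_le_card_of_injective (fun x => (⟨x.1, ?_⟩ : R)) fun x y e =>
        Subtype.ext (congrArg Subtype.val e :)
      rcases x.2 with e | e | e <;> rw [e]
      · exact one_mem _
      · exact Subgroup.subset_closure (.inl rfl)
      · exact Subgroup.subset_closure (.inr rfl)
    rw [Nat.card_coe_set_eq, Set.ncard_eq_three.2 ⟨1, a, b,
      fun e => Invol.ne_one_of_orderOf_two ha2 e.symm, fun e => Invol.ne_one_of_orderOf_two hb2 e.symm,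
      hne, rfl⟩] at h3
    omega
  have hY : U ≤ U.comap (MulAut.conj g).toMonoidHom := by
    refine Coprime.le_of_centralizer_le (A := R) (Coprime.not_isCyclic_of_exponent (p := 2)
      (fun x hx => by rw [pow_two]; exact hR2 x hx) two_pos hcard) hRM ?_ fun x hx hx1 => ?_
    · rw [hk]; exact ((Nat.prime_two.coprime_iff_not_dvd).2 D.odd).pow_left k
    have hgx : g * x = x * g := by
      rcases hel x hx with rfl | rfl | rfl | rfl
      · simp
      · exact hga
      · exact hgb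
      · rw [← mul_assoc, hga, mul_assoc, hgb, mul_assoc]
    have hxn : ¬ IsConj (φ iZ) x ∧ orderOf x = 2 := by
      rcases hel x hx with rfl | rfl | rfl | rfl
      exacts [absurd rfl hx1, ⟨h.1, ha2⟩, ⟨h.2.1, hb2⟩, ⟨h.2.2, hab2⟩]
    rw [K.x_cent_all hS hsol hl D hchi (hRM hx) hxn.2 hxn.1]
    intro y hy
    have hU : Cfsg.centralizerPPrimeCore 2 x ≤ U := by
      rw [← K.x_cent_all hS hsol hl D hchi (hRM hx) hxn.2 hxn.1]; exact inf_le_left
    exact hU (conj_norm (Signalizer.centralizerPPrimeCore_normalized x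
      (Subgroup.mem_centralizer_singleton_iff.2 hgx)) hy)
  exact normalizer_of_forall fun u hu => hY hu

/-- The centraliser of the second class is in the normaliser. -/
theorem cent_le_36 : Subgroup.centralizer ({φ 11} : Set G) ≤ Subgroup.normalizer (U : Set G) := by
  haveI := Fact.mk Nat.prime_two
  set M := Subgroup.normalizer (U : Set G) with hM
  set X := Subgroup.centralizer ({φ 11} : Set G) with hX
  have hEM : K.eS ≤ M := K.eS_le.trans D.S_le
  obtain ⟨H, hH⟩ := K.exists_H hS hsol hl (r := 11) (by simp [pairsL])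
  have hE : ∀ e < 16, φ e ∈ K.eS := fun e he => K.mem_eS.2 ⟨e, he, rfl⟩
  have hnot : ∀ e, e ∈ [6, 11, 13] → ¬ IsConj (φ iZ) (φ e) := by
    have hk : ([6, 11, 13].all fun e => Nat.blt e 16 && !(zOrb std36).contains e) = true := by decide +kernel
    simp only [List.all_eq_true, Bool.and_eq_true, Nat.blt_eq, Bool.not_eq_true', ← Bool.not_eq_true,
      List.contains_iff_mem] at hk
    exact fun e he h => (hk e he).2 ((K.mem_zOrb hS hl (hk e he).1).1 h)
  have ha2 : orderOf (φ 6) = 2 := Invol.orderOf_two_of_mul_self (K.eS_sq (hE 6 (by norm_num)))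
    fun h => by rw [K.eq_one_iff (by norm_num)] at h; omega
  have hr2 : orderOf (φ 11) = 2 := Invol.orderOf_two_of_mul_self (K.eS_sq (hE 11 (by norm_num)))
    fun h => by rw [K.eq_one_iff (by norm_num)] at h; omega
  have hrr := K.eS_sq (hE 11 (by norm_num))
  have h613 : φ 6 * φ 11 = φ 13 := by rw [K.eS_mul (by norm_num) (by norm_num)]; rfl
  have hra : φ 11 * φ 6 = φ 6 * φ 11 := K.eS_comm (hE 11 (by norm_num)) (hE 6 (by norm_num))
  -- conjugates of the central involution
  have key : ∀ b ∈ H, IsConj (φ iZ) b → b ∈ M := by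
    intro b hb hbz
    obtain ⟨z, hz⟩ := isConj_iff.1 hbz
    have hb2 : orderOf b = 2 := hz ▸ Invol.conj_orderOf_two K.t_order z
    have hbr : b * φ 11 = φ 11 * b := Subgroup.mem_centralizer_singleton_iff.1 (hH.le hb)
    set a := φ 6 with haa'
    have haH : a ∈ H := hH.e_le (hE 6 (by norm_num))
    by_cases he : Even (orderOf (a * b))
    swap
    · exact absurd (hbz.trans (Invol.isConj_of_odd ha2 hb2 (Nat.not_even_iff_odd.1 he)).symm) (hnot 6 (by simp))
    set c := Invol.centralInvol a b with hc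
    have hc2 : orderOf c = 2 := Invol.orderOf_centralInvol a b he
    have hca := (Invol.centralInvol_comm_left ha2 hb2 he).eq
    have hcb := (Invol.centralInvol_comm_right ha2 hb2 he).eq
    have hcH : c ∈ H := (Subgroup.closure_le H).2 (by
      intro x hx; rcases hx with rfl | rfl <;> assumption) (Invol.centralInvol_mem_closure a b)
    have hcr : c * φ 11 = φ 11 * c := Subgroup.mem_centralizer_singleton_iff.1 (hH.le hcH)
    have hne : φ 11 ≠ a := fun e => by rw [haa', K.eq_iff (by norm_num) (by norm_num)] at e; omega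
    have hcM : c ∈ M := K.four_fix hS hsol hl D hchi (a := φ 11) (b := a)
      (hEM (hE 11 (by norm_num))) (hEM (hE 6 (by norm_num))) hr2 ha2 hra hne
      ⟨hnot 11 (by simp), hnot 6 (by simp), by rw [hra, h613]; exact hnot 13 (by simp)⟩ hcr hca
    have hbc : ∀ v, v ∈ M → IsConj (φ iZ) v → b * v = v * b → b ∈ M := fun v hv hv2 hbv =>
      K.core_tmove hS hsol hl D hv hv2 (by rw [hbv, mul_inv_cancel_right]; exact hv)
    by_cases hcz : IsConj (φ iZ) c
    · exact hbc c hcM hcz hcb.symm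
    have hrM := hEM (hE 11 (by norm_num))
    by_cases hcrz : IsConj (φ iZ) (c * φ 11)
    · refine hbc _ (mul_mem hcM hrM) hcrz ?_
      rw [← mul_assoc, ← hcb, mul_assoc, hbr, ← mul_assoc]
    by_cases hceq : c = φ 11
    swap
    · refine K.four_fix hS hsol hl D hchi (a := c) (b := φ 11) hcM hrM hc2 hr2 hcr hceq
        ⟨hcz, hnot 11 (by simp), hcrz⟩ hcb.symm hbr
    -- the product has order twice an odd number
    exfalso
    set q := a * b with hq
    have hqc : q ^ (orderOf q / 2) = φ 11 := hceq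
    set k := orderOf q / 2 with hk
    have hn : orderOf q = 2 * k := by obtain ⟨j, hj⟩ := he; omega
    rcases Nat.even_or_odd k with ⟨j, hj⟩ | hkodd
    · have hd2 : (q ^ j) ^ 2 = φ 11 := by rw [← pow_mul, ← hqc, hj]; ring_nf
      have hd4 : orderOf (q ^ j) = 2 ^ 2 := by
        refine orderOf_eq_prime_pow (p := 2) (n := 1) ?_ ?_
        · rw [pow_one, hd2]
          exact Invol.ne_one_of_orderOf_two hr2
        · rw [show (2 : ℕ) ^ (1 + 1) = 2 + 2 from rfl, pow_add, hd2, hrr]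
      obtain ⟨g, hg, hgE⟩ := hH.syl.absorb (Subgroup.zpowers (q ^ j))
        (Subgroup.zpowers_le.2 (pow_mem (mul_mem haH hb) j))
        (IsPGroup.of_card (n := 2) (by rw [Nat.card_zpowers, hd4]))
      have h1 := K.eS_sq (hgE _ (Subgroup.mem_zpowers _))
      rw [show g * q ^ j * g⁻¹ * (g * q ^ j * g⁻¹) = g * (q ^ j) ^ 2 * g⁻¹ by rw [pow_two]; group,
        conj_eq_one_iff, hd2] at h1
      exact Invol.ne_one_of_orderOf_two hr2 h1
    · have hbr2 : orderOf (b * φ 11) = 2 := Invol.orderOf_two_of_mul_self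
        (by rw [show b * φ 11 * (b * φ 11) = b * (φ 11 * b) * φ 11 by group, ← hbr, ← mul_assoc,
          Invol.mul_self_of_orderOf_two hb2, one_mul, hrr])
        (fun e => hnot 11 (by simp) (by
          have : b = φ 11 := by rw [← mul_one b, ← hrr, ← mul_assoc, e, one_mul]
          rwa [this] at hbz))
      have hodd : Odd (orderOf (a * (b * φ 11))) := by
        refine Nat.not_even_iff_odd.1 fun hev => hkodd.not_two_dvd_nat ?_
        refine (even_iff_two_dvd.1 hev).trans (orderOf_dvd_of_pow_eq_one ?_)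
        have hcomm : Commute q (φ 11) := by
          show a * b * φ 11 = φ 11 * (a * b)
          rw [mul_assoc, hbr, ← mul_assoc, ← mul_assoc, hra]
        obtain ⟨j, hj⟩ := hkodd
        rw [← mul_assoc, ← hq, hcomm.mul_pow, hqc, hj, pow_succ, pow_mul, pow_two, hrr, one_pow, one_mul, hrr]
      obtain ⟨g, hg, hgab⟩ := Invol.exists_mem_closure_conj_of_odd ha2 hbr2 hodd
      have hgX : g ∈ X := (Subgroup.closure_le X).2 (by
        intro x hx
        rcases hx with rfl | rfl
        · exact hH.le haH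
        · exact mul_mem (hH.le hb) (Subgroup.mem_centralizer_singleton_iff.2 rfl)) hg
      refine hnot 13 (by simp) (hbz.trans (isConj_iff.2 ⟨g, ?_⟩).symm)
      rw [← h613, show g * (a * φ 11) * g⁻¹ = g * a * g⁻¹ * (g * φ 11 * g⁻¹) by group, hgab,
        mul_inv_eq_iff_eq_mul.2 (Subgroup.mem_centralizer_singleton_iff.1 hgX), mul_assoc, hrr, mul_one]
  intro g hg
  refine K.core_tmove hS hsol hl D (v := φ iZ) (D.S_le (K.mem iZ (by decide))) (IsConj.refl _) (key _ ?_ ?_)
  · exact hH.conj g hg _ (hH.e_le K.z_mem_eS)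
  · exact isConj_iff.2 ⟨g, rfl⟩

end Hyp

end CfsgLib.A8Syl
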