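import Cfsg.Agent.Lib.A8Syl.Model
import Cfsg.Agent.Lib.A8Syl.CaseSmall
import Cfsg.Agent.Lib.A8Syl.CaseBig

/-!
Groups with Sylow 2-subgroups like those of the alternating group of degree eight.
-/

set_option autoImplicit false
set_option linter.style.haveILetI false

namespace CfsgLib.A8Syl

/-- **The alternating groups of degree eight and nine and PSp(4,3)** by their Sylow 2-subgroups. -/
theorem main {G : Type*} [Group G] [Finite G] (hO2 : Cfsg.pResidual 2 G = ⊤) (hcore2 : Cfsg.pCore 2 G = ⊥)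
    (hodd : Cfsg.oddCore G = ⊥) (S : Sylow 2 G)
    (hS : ∀ P : Sylow 2 ↥(alternatingGroup (Fin 8)),
      Nonempty (↥(S : Subgroup G) ≃* ↥(P : Subgroup ↥(alternatingGroup (Fin 8)))))
    (hsol : ∀ z : G, z ∈ (S : Subgroup G) → (∀ s ∈ (S : Subgroup G), s * z = z * s) → orderOf z = 2 →
      Group.IsSolvable ↥(Subgroup.centralizer ({z} : Set G))) :
    Nonempty (G ≃* ↥(alternatingGroup (Fin 8))) ∨ Nonempty (G ≃* ↥(alternatingGroup (Fin 9))) ∨
      (∃ (F : Type) (_ : Field F) (_ : Fintype F), Fintype.card F = 3 ∧ Nonempty (G ≃* Cfsg.PSp 2 F)) := by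
  obtain ⟨φ₀, K₀⟩ := exists_hyp (S : Subgroup G) hS
  have hSI := M12Syl.sylIn_top S
  have hs₀ : Group.IsSolvable K₀.cT :=
    hsol _ (K₀.mem iZ (by decide)) (fun _ hs => K₀.z_central hs) K₀.t_order
  obtain ⟨s, -, K, l, hm, hl⟩ := K₀.exists_shape hSI hs₀ (K₀.moves hSI hs₀ hodd hcore2)
  have hs : Group.IsSolvable K.cT :=
    hsol _ (K.mem iZ (by decide)) (fun _ hs => K.z_central hs) K.t_order
  have hct := K.chi_or_tau hSI hs hO2
  have hθ := (K.theta_bot hSI hs hl hm hct hodd).1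
  have hc := K.has_chi hSI hs hl hm hct hodd hcore2
  by_cases h60 : l = std60
  · exact .inr (.inr (K.big_case hSI hs hθ hc (K.has_tau hSI hs hl h60) hO2))
  · have hm' : l = std36 ∨ l = std12 := by
      simp only [List.mem_cons, List.not_mem_nil, or_false] at hm; tauto
    have hz1 : 1 ∈ zOrb l := by rcases hm' with rfl | rfl <;> decide +kernel
    refine (K.small_case hSI hs hθ hc (K.no_tau hSI hs hl hm') ((K.mem_zOrb hSI hl (by norm_num)).2 hz1) hcore2).imp
      id Or.inl

end CfsgLib.A8Syl
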