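import Cfsg.Agent.Lib.A8Syl.Base
import Mathlib.GroupTheory.SpecificGroups.Alternating

/-!
The table in the alternating group of degree eight.
-/

set_option autoImplicit false
set_option linter.style.haveILetI false

namespace CfsgLib.A8Syl

open Equiv

/-- the generators and their products -/
def perm0 (i : ℕ) : Perm (Fin 8) :=
  let g (n : ℕ) (p : Perm (Fin 8)) : Perm (Fin 8) := bif i.testBit n then p else 1
  g 0 (swap 0 1 * swap 2 3) * g 1 (swap 0 2 * swap 1 3) * g 2 (swap 4 5 * swap 6 7) *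
    g 3 (swap 4 6 * swap 5 7) * g 4 (swap 0 1 * swap 4 5) *
    g 5 (swap 0 4 * swap 1 5 * (swap 2 6 * swap 3 7))

theorem perm0_ok : ((List.range 64).all fun i => decide (Perm.sign (perm0 i) = 1) &&
    (i == 0 || decide (perm0 i ≠ 1)) &&
      (List.range 6).all fun k => decide (perm0 (mS i (2 ^ k)) = perm0 i * perm0 (2 ^ k)))
      = true := by
  decide +kernel

theorem word_ok : ((List.range 64).all fun j => j == 0 ||
      (List.range 6).any fun k => Nat.ble (2 ^ k) j && Nat.beq (mS (j - 2 ^ k) (2 ^ k)) j) = true ∧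
    ((List.range 64).all fun i => (List.range 64).all fun j => (List.range 6).all fun k =>
      Nat.beq (mS i (mS j (2 ^ k))) (mS (mS i j) (2 ^ k))) = true := by
  decide +kernel

theorem perm0_zero : perm0 0 = 1 := by decide +kernel

theorem perm0_mul {i : ℕ} (hi : i < 64) : ∀ j < 64, perm0 (mS i j) = perm0 i * perm0 j := by
  have h := perm0_ok
  obtain ⟨hw, ha⟩ := word_ok
  simp only [List.all_eq_true, List.mem_range, Bool.and_eq_true, decide_eq_true_eq] at h
  simp only [List.all_eq_true, List.any_eq_true, List.mem_range, Bool.or_eq_true, beq_iff_eq,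
    Bool.and_eq_true, Nat.ble_eq, Nat.beq_eq] at hw ha
  intro j
  induction j using Nat.strong_induction_on with
  | _ j ih =>
    intro hj
    rcases hw j hj with rfl | ⟨k, hk, hle, e⟩
    · rw [perm0_zero, mul_one, (mS_zero hi).2]
    · have hp := Nat.one_le_two_pow (n := k)
      have hj' : j - 2 ^ k < 64 := by omega
      rw [← e, ha i hi _ hj' k hk, (h _ (mS_lt hi hj')).2 k hk, ih _ (by omega) hj', (h _ hj').2 k hk, mul_assoc]

/-- the element of an index -/
def f0 (i : ℕ) : ↥(alternatingGroup (Fin 8)) :=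
  if h : Perm.sign (perm0 i) = 1 then ⟨perm0 i, Equiv.Perm.mem_alternatingGroup.2 h⟩ else 1

theorem f0_spec {i : ℕ} (hi : i < 64) : (f0 i : Perm (Fin 8)) = perm0 i := by
  have h := perm0_ok
  simp only [List.all_eq_true, List.mem_range, Bool.and_eq_true, decide_eq_true_eq] at h
  rw [f0, dif_pos (h i hi).1.1]

theorem f0_mul {i j : ℕ} (hi : i < 64) (hj : j < 64) : f0 (mS i j) = f0 i * f0 j := by
  have h := perm0_ok
  simp only [List.all_eq_true, List.mem_range, Bool.and_eq_true, decide_eq_true_eq] at h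
  exact Subtype.ext (by rw [Subgroup.coe_mul, f0_spec (mS_lt hi hj), f0_spec hi, f0_spec hj, perm0_mul hi j hj])

theorem f0_zero : f0 0 = 1 := by
  have h := f0_mul (i := 0) (j := 0) (by norm_num) (by norm_num)
  rw [show mS 0 0 = 0 by decide +kernel] at h
  simpa using h

theorem f0_inj {i j : ℕ} (hi : i < 64) (hj : j < 64) (e : f0 i = f0 j) : i = j := by
  obtain ⟨hI, h1, h2⟩ := invI_spec hi
  have hk : f0 (mS (invI i) j) = 1 := by
    rw [f0_mul hI hj, ← e, ← f0_mul hI hi, h2, f0_zero]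
  have h := perm0_ok
  simp only [List.all_eq_true, List.mem_range, Bool.and_eq_true, decide_eq_true_eq, Bool.or_eq_true,
    beq_iff_eq] at h
  have h0 : mS (invI i) j = 0 := by
    refine (h _ (mS_lt hI hj)).1.2.resolve_right fun hne => hne ?_
    rw [← f0_spec (mS_lt hI hj), hk]; rfl
  have hcan : ((List.range 64).all fun i => (List.range 64).all fun j =>
      i == j || mS (invI i) j != 0) = true := by decide +kernel
  simp only [List.all_eq_true, List.mem_range, Bool.or_eq_true, beq_iff_eq, bne_iff_ne] at hcan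
  exact (hcan i hi j hj).resolve_right fun hne => hne h0

/-- A Sylow 2-subgroup isomorphic to that of the alternating group of degree eight has this table. -/
theorem exists_hyp {G : Type*} [Group G] (S : Subgroup G)
    (hS : ∀ P : Sylow 2 ↥(alternatingGroup (Fin 8)), Nonempty (S ≃* ↥(P : Subgroup ↥(alternatingGroup (Fin 8))))) :
    ∃ φ : ℕ → G, Hyp φ S := by
  classical
  haveI := Fact.mk Nat.prime_two
  set H : Subgroup ↥(alternatingGroup (Fin 8)) :=
    { carrier := {x | ∃ i < 64, f0 i = x}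
      one_mem' := ⟨0, by norm_num, f0_zero⟩
      mul_mem' := by
        rintro _ _ ⟨i, hi, rfl⟩ ⟨j, hj, rfl⟩
        exact ⟨_, mS_lt hi hj, f0_mul hi hj⟩
      inv_mem' := by
        rintro _ ⟨i, hi, rfl⟩
        refine ⟨invI i, (invI_spec hi).1, eq_inv_of_mul_eq_one_right ?_⟩
        rw [← f0_mul hi (invI_spec hi).1, (invI_spec hi).2.1, f0_zero] } with hH
  have hc : Nat.card H = 64 := by
    refine (Nat.card_eq_of_bijective (fun i : Fin 64 => (⟨f0 i, i, i.2, rfl⟩ : H)) ⟨?_, ?_⟩).symm.trans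
      (Nat.card_fin 64)
    · intro i j h
      exact Fin.ext (f0_inj i.2 j.2 (congrArg Subtype.val h :))
    · rintro ⟨_, i, hi, rfl⟩
      exact ⟨⟨i, hi⟩, rfl⟩
  have hA : Nat.card ↥(alternatingGroup (Fin 8)) = 20160 := by
    rw [Nat.card_eq_fintype_card, card_alternatingGroup, Fintype.card_fin]
    rfl
  have hfac : (20160 : ℕ).factorization 2 = 6 := by
    rw [show (20160 : ℕ) = 2 ^ 6 * 315 from rfl, Nat.factorization_mul (by norm_num) (by norm_num),
      Finsupp.add_apply, Nat.prime_two.factorization_pow, Finsupp.single_eq_same,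
      Nat.factorization_eq_zero_of_not_dvd (by norm_num)]
  let P : Sylow 2 ↥(alternatingGroup (Fin 8)) := Sylow.ofCard H (by rw [hc, hA, hfac]; rfl)
  obtain ⟨e⟩ := hS P
  have hmem : ∀ i : ℕ, i < 64 → f0 i ∈ (P : Subgroup ↥(alternatingGroup (Fin 8))) := fun i hi => ⟨i, hi, rfl⟩
  refine ⟨fun i => if h : i < 64 then (e.symm ⟨f0 i, hmem i h⟩ : G) else 1, ⟨fun i hi => ?_, fun x hx => ?_,
    fun i hi j hj h => ?_, fun i hi j hj => ?_⟩⟩
  · rw [dif_pos hi]; exact SetLike.coe_mem _
  · obtain ⟨i, hi, h⟩ : ∃ i < 64, f0 i = (e ⟨x, hx⟩ : ↥(alternatingGroup (Fin 8))) := (e ⟨x, hx⟩).2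
    refine ⟨i, hi, ?_⟩
    rw [dif_pos hi, show (⟨f0 i, hmem i hi⟩ : (P : Subgroup ↥(alternatingGroup (Fin 8)))) = e ⟨x, hx⟩ from
      Subtype.ext h, e.symm_apply_apply]
  · rw [dif_pos hi, dif_pos hj] at h
    exact f0_inj hi hj (congrArg Subtype.val (e.symm.injective (Subtype.ext h)) :)
  · rw [dif_pos hi, dif_pos hj, dif_pos (mS_lt hi hj), ← Subgroup.coe_mul, ← map_mul]
    exact congrArg (fun y => ((e.symm y : S) : G)) (Subtype.ext (f0_mul hi hj))

end CfsgLib.A8Syl
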