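import Cfsg.Agent.Lib.A8Syl.Cores

/-!
Consequences of the three possible groups induced on the elementary abelian subgroup.
-/

set_option autoImplicit false
set_option linter.style.haveILetI false
set_option linter.unusedSectionVars false

namespace CfsgLib.A8Syl

open CfsgLib.PSpFourRecog (app app_lt code_ext app_basis)

/-- the class of the central involution in `E` -/
def zOrb (l : List ℕ) : List ℕ := l.map fun c => app c iZ

/-- iterates of the automorphism of the extraspecial subgroup -/
def chiP (j i : ℕ) : ℕ := bif j == 0 then i else bif j == 1 then chiI i else chiI (chiI i)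

/-- the three groups with the involution not conjugate to the central one -/
def pairsL : List (List ℕ × ℕ) := [(std36, 11), (std12, 10), (std12, 11), (std60, 11)]

/-- the checks on a group and such an involution -/
noncomputable def pairOK (p : List ℕ × ℕ) : Bool :=
  !(zOrb p.1).contains p.2 && [10, 11].contains p.2 &&
  ((List.range 16).all fun w => !(zOrb p.1).contains w ||
    !(p.1.any fun c => app c (iZ ^^^ p.2) == w ^^^ p.2) ||
      p.1.any fun c => app c p.2 == p.2 && app c w == iZ) &&
  outI.all fun i => !(centI p.2).contains i ||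
    (!(zOrb p.1).contains (chiI i) || !Nat.blt (chiI i) 16) &&
    (!(zOrb p.1).contains (chiI (chiI i)) || !Nat.blt (chiI (chiI i)) 16)

theorem pairs_ok : (pairsL.all pairOK) = true := by decide +kernel

theorem shape_facts :
    (std36.all fun c => (List.range 16).any fun e => app c e != tauI e) = true ∧
    (std12.all fun c => (List.range 16).any fun e => app c e != tauI e) = true ∧
    (std60.any fun c => app c iZ == iZ && !stV.contains c) = true := by
  refine ⟨?_, ?_, ?_⟩ <;> decide +kernel

namespace Hyp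

variable {G : Type*} [Group G] [Finite G] {φ : ℕ → G} {S : Subgroup G} (K : Hyp φ S)
include K

theorem shape_isConj {l : List ℕ} (hl : K.Shape l) {c : ℕ} (hc : c ∈ l) {e : ℕ} (he : e < 16) :
    IsConj (φ e) (φ (app c e)) := by
  obtain ⟨x, hx⟩ := ((hl c).2 hc).2
  exact isConj_iff.2 ⟨x, hx e he⟩

variable (hS : M12Syl.SylIn ⊤ S)
include hS

theorem mem_zOrb {l : List ℕ} (hl : K.Shape l) {e : ℕ} (he : e < 16) :
    IsConj (φ iZ) (φ e) ↔ e ∈ zOrb l := by
  constructor
  · intro h
    obtain ⟨c, hc, rfl⟩ := K.e_fuse hS (by decide) he h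
    exact List.mem_map.2 ⟨c, (hl c).1 hc, rfl⟩
  · intro h
    obtain ⟨c, hc, rfl⟩ := List.mem_map.1 h
    exact K.shape_isConj hl hc (by decide)

variable (hsol : Group.IsSolvable K.cT)
include hsol

theorem no_tau {l : List ℕ} (hl : K.Shape l) (h : l = std36 ∨ l = std12) : ¬ K.HasTau hS hsol := by
  intro ht
  obtain ⟨y, -, hy⟩ := K.tau_lift hS hsol ht
  obtain ⟨c, hc, hcy⟩ := K.exists_hasCode (x := y) fun v hv => by
    obtain ⟨e, he, rfl⟩ := K.mem_eS.1 hv
    rw [hy e (by omega)]
    exact K.mem_eS.2 ⟨_, tauI_facts.2.1 e he, rfl⟩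
  have hck : (l.all fun c => (List.range 16).any fun e => app c e != tauI e) = true := by
    rcases h with rfl | rfl
    exacts [shape_facts.1, shape_facts.2.1]
  simp only [List.all_eq_true, List.any_eq_true, List.mem_range, bne_iff_ne] at hck
  obtain ⟨e, he, hne⟩ := hck c ((hl c).1 hc)
  refine hne (K.inj _ ?_ _ (tauI_facts.1 e (by omega)).1 ?_)
  · have := app_lt c e; omega
  · rw [← hcy e he, hy e (by omega)]

theorem has_tau {l : List ℕ} (hl : K.Shape l) (h : l = std60) : K.HasTau hS hsol := by
  subst h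
  have hc := shape_facts.2.2
  simp only [List.any_eq_true, Bool.and_eq_true, beq_iff_eq, Bool.not_eq_true', ← Bool.not_eq_true,
    List.contains_iff_mem] at hc
  obtain ⟨c, hc, h5, hV⟩ := hc
  by_contra ht
  exact hV ((K.code_of_stab hS hsol ((hl c).2 hc) h5).2 ht)

/-- An element of the centraliser of the central involution fixing one of two elements acts as one of `S`. -/
theorem cz_fix {r : ℕ} (hr : r = 10 ∨ r = 11) {x : G} (hx : x ∈ K.cT) (hxr : x * φ r = φ r * x) :
    ∃ o ∈ K.theta, ∃ s < 64, x = o * φ s := by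
  have L := K.loc hS hsol
  have hr64 : r < 64 := by omega
  have hrq : r ∈ qL := by rcases hr with rfl | rfl <;> decide +kernel
  set X := K.prj ⟨x, hx⟩ with hX
  have hXr : X * K.psi r * X⁻¹ = K.psi r := by
    rw [hX, K.psi_eq hr64, ← map_inv, ← map_mul, ← map_mul]
    exact congrArg _ (Subtype.ext (mul_inv_eq_iff_eq_mul.2 hxr))
  suffices hT : X ∈ K.tq by
    obtain ⟨i, hi, e⟩ := K.of_tq hS hsol hT
    rw [K.psi_eq hi] at e
    obtain ⟨o, ho, e'⟩ := K.theta_mul hS hsol hx _ e
    exact ⟨o, ho, i, hi, e'⟩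
  have hchk : ([10, 11].all fun r => (List.range 3).all fun i => (List.range 3).all fun j =>
      (List.range 64).all fun s => chiP i (tauP j (cjI s r)) != r || (i == 0 && j == 0)) = true := by
    decide +kernel
  simp only [List.all_eq_true, List.mem_range, Bool.or_eq_true, bne_iff_ne, Bool.and_eq_true,
    beq_iff_eq] at hchk
  have hqok := qL_invol.2.2.1
  have hq : ∀ s < 64, ∀ j < 3, cjI s r ∈ qL ∧ tauP j (cjI s r) ∈ qL := by
    have h : ([10, 11].all fun r => (List.range 64).all fun s => (List.range 3).all fun j =>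
        qL.contains (cjI s r) && qL.contains (tauP j (cjI s r))) = true := by decide +kernel
    simp only [List.all_eq_true, List.mem_range, Bool.and_eq_true, List.contains_iff_mem] at h
    exact fun s hs j hj => h r (by simpa using hr) s hs j hj
  have main : ∀ (A Y : _) (i j : ℕ), i < 3 → j < 3 → (i ≠ 0 → L.Exact A chiI) →
      (j ≠ 0 → ∀ k < 64, Y * K.psi k * Y⁻¹ = K.psi (tauI k)) → (A ^ i * Y ^ j)⁻¹ * X ∈ K.tq →
      X ∈ K.tq := by
    intro A Y i j hi hj hA hY hT
    obtain ⟨s, hs, es⟩ := L.hyp.surj _ hT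
    have e : X = A ^ i * Y ^ j * K.psi s := by rw [es, mul_inv_cancel_left]
    have h1 : X * K.psi r * X⁻¹ = K.psi (chiP i (tauP j (cjI s r))) := by
      have hA' : ∀ q ∈ qL, A ^ i * K.psi q * (A ^ i)⁻¹ = K.psi (chiP i q) := fun q hq => by
        interval_cases i
        · simp [chiP]
        · rw [pow_one]; exact hA (by norm_num) q hq
        · rw [pow_two, show A * A * K.psi q * (A * A)⁻¹ = A * (A * K.psi q * A⁻¹) * A⁻¹ by group,
            hA (by norm_num) q hq, hA (by norm_num) _ (tauI_facts.2.2 q hq)]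
          rfl
      have hY' : ∀ k < 64, Y ^ j * K.psi k * (Y ^ j)⁻¹ = K.psi (tauP j k) := fun k hk => by
        interval_cases j
        · simp [tauP]
        · rw [pow_one]; exact hY (by norm_num) k hk
        · rw [pow_two, show Y * Y * K.psi k * (Y * Y)⁻¹ = Y * (Y * K.psi k * Y⁻¹) * Y⁻¹ by group,
            hY (by norm_num) k hk, hY (by norm_num) _ (tauI_facts.1 k hk).1]
          rfl
      rw [e, show A ^ i * Y ^ j * K.psi s * K.psi r * (A ^ i * Y ^ j * K.psi s)⁻¹ =
        A ^ i * (Y ^ j * (K.psi s * K.psi r * (K.psi s)⁻¹) * (Y ^ j)⁻¹) * (A ^ i)⁻¹ by group,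
        ← L.hyp.conj_eq hs hr64, hY' _ (cjI_lt hs hr64), hA' _ (hq s hs j hj).2]
    have hl : chiP i (tauP j (cjI s r)) < 64 := K.lt_of_lOK hqok (by
      have h0 := (hq s hs j hj).2
      interval_cases i
      · exact h0
      · exact tauI_facts.2.2 _ h0
      · exact tauI_facts.2.2 _ (tauI_facts.2.2 _ h0))
    rw [hXr] at h1
    obtain ⟨hi0, hj0⟩ := (hchk r (by simpa using hr) i hi j hj s hs).resolve_left
      fun h => h (L.hyp.inj r hr64 _ hl h1).symm
    rw [e, hi0, hj0, pow_zero, pow_zero, one_mul, one_mul]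
    exact L.hyp.mem s hs
  by_cases hc : K.HasChi hS hsol
  · obtain ⟨a, -, ha, -⟩ := L.exists_chi hc
    by_cases ht : K.HasTau hS hsol
    · obtain ⟨y, -, hy⟩ := L.exists_tau ht
      obtain ⟨i, hi, j, hj, hT⟩ := L.form_both ha hy X
      exact main a y i j hi hj (fun _ => ha) (fun _ => hy) hT
    · obtain ⟨i, hi, hT⟩ := L.form_chi ht ha X
      exact main a 1 i 0 hi (by norm_num) (fun _ => ha) (fun h => absurd rfl h) (by simpa using hT)
  · by_cases ht : K.HasTau hS hsol
    · obtain ⟨y, -, hy⟩ := L.exists_tau ht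
      obtain ⟨j, hj, hT⟩ := L.form_tau hc hy X
      exact main 1 y 0 j (by norm_num) hj (fun h => absurd rfl h) (fun _ => hy) (by simpa using hT)
    · exact L.form_none hc ht X

end Hyp

end CfsgLib.A8Syl
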